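import Cfsg.Agent.ThreeSymNine.Complement

/-!
# The automizer is the symmetric group of degree three
-/

set_option autoImplicit false
set_option maxRecDepth 100000
set_option linter.style.haveILetI false

namespace CfsgLib.ThreeSymNine

open CfsgLib.AltNine Subgroup

attribute [local instance 10000] List.decidableBAll List.decidableBEx

universe u

theorem caseA_lines : ∀ v : Fin 27, app (pmat 1) v = v → v = 0 ∨ v = 13 ∨ v = 26 ∨
    ∀ d : Fin 8, d ∈ ([0] : List (Fin 8)) → ∀ a : Fin 6,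
      (∀ w ∈ ([v] : List (Fin 27)), app (mono d a) w = w) → mono d a ∈ [pmat 0, mono 0 1] := by
  decide +kernel

theorem caseA_refl : app (mono 0 1) 7 = nv 7 ∧
    (∀ v, app (mono 0 1) (app (mono 0 1) v) = v) ∧
    (∀ v : Fin 27, ∃ f : Fin 27, ∃ k : Fin 3, app (mono 0 1) f = f ∧ v = av f (sm k 7)) := by
  decide +kernel

theorem caseA_comm : (∀ a : Fin 6,
    (∀ v, app (pmat a) (app (pmat 1) v) = app (pmat 1) (app (pmat a) v)) → a = 0 ∨ a = 1) ∧
    (∀ a : Fin 6, (∀ v, app (pmat 1) v = v → app (pmat a) v = v) → a = 0 ∨ a = 1) ∧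
    ∀ a : Fin 6, a ∈ ([0, 4, 5] : List (Fin 6)) ∨ pm a a = 0 := by decide +kernel

theorem caseA_fix : (Finset.univ.filter fun v => app (pmat 1) v = v).card = 9 := by
  decide +kernel

namespace Hyp

variable {G : Type u} [Group G] [Finite G] (H : Hyp G)

theorem cent_neg_x_le : H.C [26] ≤ H.N := by
  rw [C_singleton, show (26 : Fin 27) = nv 13 by decide +kernel, H.emb_nv]
  intro g hg
  refine H.cent_x_le (mem_centralizer_singleton_iff.2 ?_)
  have := mem_centralizer_singleton_iff.1 hg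
  exact (Commute.inv_right_iff.1 this).eq

theorem caseA (hs : H.Signs [0]) : H.J.Normal := by
  classical
  haveI : Fact (Nat.Prime 3) := ⟨Nat.prime_three⟩
  haveI : Fact (Nat.Prime 2) := ⟨Nat.prime_two⟩
  have tC := caseA_lines
  obtain ⟨tq, tTT, tdec⟩ := caseA_refl
  obtain ⟨t4, tst, tcode⟩ := caseA_comm
  have t9 := caseA_fix
  have hW : ∀ M, H.W M → ∃ a, M = pmat a := fun M hM => by
    obtain ⟨d, hd, a, rfl⟩ := (hs M).1 hM
    rw [List.mem_singleton] at hd
    exact ⟨a, hd ▸ mono_tables.2.2.2 a⟩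
  set t := H.S 1
  have hT : H.Induces t (pmat 1) := H.induces_S 1
  have ht2 : t * t = 1 := by
    rw [H.S_mul, show pm 1 1 = 0 by decide +kernel, H.S_zero]
  have ht1 : t ≠ 1 := fun e => by
    have := H.indep 0 1 (by rw [H.emb_zero, one_mul]; exact e)
    exact absurd this.2 (by decide)
  have hCv : ∀ v, app (pmat 1) v = v → v ≠ 0 → H.C [v] ≤ H.N := by
    intro v hv hv0
    rcases tC v hv with h | h | h | h
    · exact absurd h hv0
    · rw [h, C_singleton]; exact H.cent_x_le
    · exact h ▸ H.cent_neg_x_le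
    · refine hs.refl_le [v] 0 1 7 (by simp) h ?_ tq
        (by decide) tTT tdec
      intro w hw
      rw [List.mem_singleton.1 hw, mono_tables.2.2.2]
      exact hv
  set C := centralizer ({t} : Set G) with hC
  obtain ⟨Q, hQ, hnQ⟩ := H.sylow_centralizer hT hCv ⟨13, by decide +kernel, by decide⟩
    fun M hM hc v => by
      obtain ⟨a, rfl⟩ := hW M hM
      rcases t4 a hc with rfl | rfl
      · simp only [app_pmat, pa_table.1]
      · simp only [app_pmat]
        exact (show ∀ v, pa 1 (pa 1 (pa 1 (pa 1 v))) = v by decide +kernel) v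
  have hmemQ : ∀ {y : C}, y ∈ (Q : Subgroup C) ↔ (y : G) ∈ H.Fix t := fun {y} => by
    rw [hQ, mem_subgroupOf]
  obtain ⟨φ, hfix, -⟩ := exists_transfer Q fun a ha b hb =>
    Subtype.ext (H.J_comm (hmemQ.1 ha).1 (hmemQ.1 hb).1)
  have hφinj : ∀ q ∈ (Q : Subgroup C), φ q = 1 → q = 1 := by
    intro q hq h1
    have h := hfix q hq fun n hn => by
      obtain ⟨v, hv, hqv⟩ := (H.mem_Fix hT).1 (hmemQ.1 hq)
      obtain ⟨M, hM⟩ := H.exists_induces_of_mem (hnQ n hn)
      obtain ⟨a, rfl⟩ := hW M ⟨_, hM⟩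
      have hc : ∀ w, app (pmat a) (app (pmat 1) w) = app (pmat 1) (app (pmat a) w) := fun w =>
        H.emb_inj (by rw [← hM.comp hT, ← hT.comp hM, mem_centralizer_singleton_iff.1 n.2])
      refine Subtype.ext ?_
      show (n : G) * q * (n : G)⁻¹ = q
      rw [hqv, hM]
      rcases t4 a hc with rfl | rfl
      · rw [app_pmat, pa_table.1]
      · rw [hv]
    rw [h1, OneMemClass.coe_one] at h
    have hcop : Nat.Coprime (Q : Subgroup C).index 3 :=
      (Nat.prime_three.coprime_iff_not_dvd.2 Q.not_dvd_index).symm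
    exact orderOf_eq_one_iff.1 (Nat.eq_one_of_dvd_coprimes hcop (orderOf_dvd_of_pow_eq_one h.symm)
      (orderOf_dvd_of_pow_eq_one (Subtype.ext (H.J_cube (hmemQ.1 hq).1))))
  have hker : φ.ker.map C.subtype ≤ zpowers t := by
    refine H.signalizer_le hT ht2 t9.ge (fun v hv hv0 => inf_le_right.trans (hCv v hv hv0))
      (fun M hM hfixM => ?_) (map_subtype_le _) ?_ ?_
    · obtain ⟨a, rfl⟩ := hW M hM
      rcases tst a hfixM with rfl | rfl
      · exact Or.inl rfl
      · exact Or.inr rfl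
    · rw [← Nat.card_congr (φ.ker.equivMapOfInjective _ C.subtype_injective).toEquiv]
      refine (Nat.prime_three.coprime_iff_not_dvd.2 fun h => ?_).symm
      obtain ⟨y, hy⟩ := exists_prime_orderOf_dvd_card' (G := φ.ker) 3 h
      have hy' : orderOf (y : C) = 3 := by rw [orderOf_submonoid]; exact hy
      obtain ⟨R, hR⟩ := (IsPGroup.of_card (n := 1) (show Nat.card (zpowers (y : C)) = 3 ^ 1 by
        rw [Nat.card_zpowers, hy', pow_one])).exists_le_sylow
      obtain ⟨c, hc⟩ := MulAction.exists_smul_eq C R Q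
      have hcy : c * (y : C) * c⁻¹ ∈ (Q : Subgroup C) := by
        have hc' : ((c • R : Sylow 3 C) : Subgroup C) = (Q : Subgroup C) := by rw [hc]
        refine hc'.le ?_
        rw [Sylow.coe_subgroup_smul]
        exact ⟨(y : C), hR (mem_zpowers _), rfl⟩
      have := conj_eq_one_iff.1 (hφinj _ hcy (by
        rw [map_mul, map_mul, show φ (y : C) = 1 from y.2]
        simp))
      rw [this, orderOf_one] at hy'
      exact absurd hy' (by norm_num)
    · intro e he
      refine mem_normalizer_iff.2 fun y => ⟨?_, fun hy => ?_⟩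
      · rintro ⟨w, hw, rfl⟩
        exact ⟨⟨e, he.2⟩ * w * ⟨e, he.2⟩⁻¹, φ.normal_ker.conj_mem w hw _, rfl⟩
      · obtain ⟨w, hw, hwy⟩ := hy
        refine ⟨⟨e, he.2⟩⁻¹ * w * (⟨e, he.2⟩⁻¹)⁻¹, φ.normal_ker.conj_mem w hw _, ?_⟩
        show e⁻¹ * (w : G) * e⁻¹⁻¹ = y
        rw [show (w : G) = e * y * e⁻¹ from hwy]
        group
  have hsplit : ∀ g : G, g * t = t * g → ∃ j ∈ H.J, ∃ i : ℤ, g = j * t ^ i := by
    intro g hg
    let gC : C := ⟨g, mem_centralizer_singleton_iff.2 hg⟩
    have hinjQ : Function.Injective fun q : (Q : Subgroup C) => φ q := fun a b e =>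
      Subtype.ext (mul_inv_eq_one.1 (hφinj _ (mul_mem a.2 (inv_mem b.2))
        (by rw [map_mul, map_inv]; exact mul_inv_eq_one.2 e)))
    obtain ⟨q, hq⟩ := Finite.surjective_of_injective hinjQ (φ gC)
    obtain ⟨i, hi⟩ := hker ⟨(q : C)⁻¹ * gC, by
      show φ ((q : C)⁻¹ * gC) = 1
      rw [map_mul, map_inv]; exact inv_mul_eq_one.2 hq, rfl⟩
    refine ⟨(q : C), (hmemQ.1 q.2).1, i, ?_⟩
    rw [show t ^ i = ((q : C) : G)⁻¹ * g from hi, mul_inv_cancel_left]
  -- a Sylow two-subgroup
  have hp2 : IsPGroup 2 (zpowers t) := IsPGroup.of_card (n := 1) (by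
    rw [Nat.card_zpowers, pow_one]
    exact orderOf_eq_prime (by rw [pow_two]; exact ht2) ht1)
  obtain ⟨S, hS⟩ := hp2.exists_le_sylow
  have hsmall : ∀ g ∈ (S : Subgroup G), g * t = t * g → g ∈ zpowers t := by
    intro g hgS hg
    obtain ⟨j, hj, i, rfl⟩ := hsplit g hg
    have hjS : j ∈ (S : Subgroup G) := by
      have := mul_mem hgS (inv_mem (zpow_mem (hS (mem_zpowers t)) i))
      rwa [mul_inv_cancel_right] at this
    obtain ⟨k, hk⟩ := S.2 ⟨j, hjS⟩
    have h1 : j = 1 := orderOf_eq_one_iff.1 (Nat.eq_one_of_dvd_coprimes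
      (Nat.Coprime.pow_left k (by norm_num : Nat.Coprime 2 3))
      (orderOf_dvd_of_pow_eq_one (congrArg Subtype.val hk : j ^ 2 ^ k = 1))
      (orderOf_dvd_of_pow_eq_one (H.J_cube hj)))
    rw [h1, one_mul]; exact zpow_mem (mem_zpowers t) i
  have hSeq : (S : Subgroup G) = zpowers t := by
    refine le_antisymm (fun g hg => ?_) hS
    haveI : Nontrivial (S : Subgroup G) := ⟨⟨⟨t, hS (mem_zpowers t)⟩, 1, fun e => ht1 (congrArg Subtype.val e)⟩⟩
    haveI := S.2.center_nontrivial
    obtain ⟨⟨z, hz⟩, hz1⟩ := exists_ne (1 : Subgroup.center (S : Subgroup G))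
    have hzc : ∀ w ∈ (S : Subgroup G), (z : G) * w = w * z := fun w hw =>
      (congrArg Subtype.val (Subgroup.mem_center_iff.1 hz ⟨w, hw⟩)).symm
    have hzt : (z : G) = t := by
      obtain ⟨i, hi⟩ := hsmall _ z.2 (hzc t (hS (mem_zpowers t)))
      have hti : t ^ i = 1 ∨ t ^ i = t := by
        rcases Int.even_or_odd i with ⟨m, rfl⟩ | ⟨m, rfl⟩
        · left; rw [← two_mul, zpow_mul, zpow_two, ht2, one_zpow]
        · right; rw [zpow_add, zpow_mul, zpow_two, ht2, one_zpow, one_mul, zpow_one]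
      rcases hti with h | h
      · exact absurd (Subtype.ext (Subtype.ext (hi.symm.trans h))) hz1
      · exact hi.symm.trans h
    exact hsmall g hg (hzt ▸ (hzc g hg).symm)
  -- the normal complement
  have hSc : normalizer ((S : Subgroup G) : Set G) ≤ centralizer ((S : Subgroup G) : Set G) := by
    intro n hn
    have hnt := (mem_normalizer_iff.1 hn t).1 (hS (mem_zpowers t))
    rw [hSeq, mem_zpowers_iff] at hnt
    obtain ⟨i, hi⟩ := hnt
    have hn' : n * t = t * n := by
      rcases Int.even_or_odd i with ⟨m, rfl⟩ | ⟨m, rfl⟩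
      · rw [← two_mul, zpow_mul, zpow_two, ht2, one_zpow] at hi
        exact absurd (conj_eq_one_iff.1 hi.symm) ht1
      · rw [zpow_add, zpow_mul, zpow_two, ht2, one_zpow, one_mul, zpow_one] at hi
        exact mul_inv_eq_iff_eq_mul.1 hi.symm
    rw [hSeq]
    refine mem_centralizer_iff.2 ?_
    rintro _ ⟨j, rfl⟩
    exact ((show Commute n t from hn').zpow_right j).eq.symm
  have hcompl := MonoidHom.ker_transferSylow_isComplement' S hSc
  set G0 := (MonoidHom.transferSylow S hSc).ker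
  have hcS : Nat.card (S : Subgroup G) = 2 := by
    rw [hSeq, Nat.card_zpowers]
    exact orderOf_eq_prime (by rw [pow_two]; exact ht2) ht1
  have hidx : G0.index = 2 := hcompl.symm.index_eq_card.trans hcS
  have hodd : ¬ 2 ∣ Nat.card G0 := by
    rw [← hcompl.index_eq_card]
    exact S.not_dvd_index
  have hPG0 : H.P ≤ G0 := by
    intro g hg
    have h81 : g ^ 81 = 1 := by
      have := pow_card_eq_one' (x := (⟨g, hg⟩ : H.P))
      rw [H.card_P] at this
      exact congrArg Subtype.val this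
    rw [show g = (g * g) ^ 41 by rw [← pow_two, ← pow_mul, show 2 * 41 = 81 + 1 from rfl, pow_succ, h81, one_mul]]
    exact pow_mem (mul_self_mem_of_index_two hidx g) _
  have hG0 : G0 = H.P := H.eq_P_of_three hPG0 fun n ⟨hn0, hnN⟩ => by
    obtain ⟨M, hM⟩ := H.exists_induces_of_mem hnN
    obtain ⟨a, rfl⟩ := hW M ⟨_, hM⟩
    obtain ⟨v, hv⟩ : (H.S a)⁻¹ * n ∈ H.J := hM.mul_inv_mem (H.induces_S a)
    have hnv : n = H.S a * H.emb v := by rw [hv, mul_inv_cancel_left]
    rcases tcode a with ha | ha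
    · rw [hnv, H.S_emb]; exact ⟨_, a, ha, rfl⟩
    · by_cases ha0 : a = 0
      · rw [hnv, ha0, H.S_zero, one_mul]; exact H.J_le_P (H.emb_mem v)
      exfalso
      have hS0 : H.S a ∈ G0 := by
        rw [show H.S a = n * (H.emb v)⁻¹ by rw [hnv, mul_inv_cancel_right]]
        exact mul_mem hn0 (inv_mem (hPG0 (H.J_le_P (H.emb_mem v))))
      have hSa : H.S a ≠ 1 := fun e => ha0 (H.indep 0 a (by rw [H.emb_zero, one_mul, e])).2
      have h2 := orderOf_eq_prime (p := 2) (show H.S a ^ 2 = 1 by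
        rw [pow_two, H.S_mul, ha, H.S_zero]) hSa
      exact hodd (h2 ▸ orderOf_dvd_natCard _ hS0)
  exact H.normal_of_normal_P (hG0 ▸ (MonoidHom.transferSylow S hSc).normal_ker)

end Hyp

end CfsgLib.ThreeSymNine
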