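import Cfsg.Prelude.Def_CaseTheorems
import Mathlib.GroupTheory.SpecificGroups.Dihedral
import Mathlib.GroupTheory.SpecificGroups.Cyclic
import Mathlib.GroupTheory.Sylow

/-!
# Small facts on dihedral and semidihedral two-groups
-/

set_option autoImplicit false
set_option linter.style.haveILetI false

namespace CfsgLib.ThreeSymNine

open Subgroup

/-- Of three involutions forming a four-group in a dihedral group one is central. -/
theorem dihedral_klein {m : ℕ} {a b : DihedralGroup m} (ha : a * a = 1) (hb : b * b = 1)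
    (hab : a * b = b * a) :
    (∀ c, c * a = a * c) ∨ (∀ c, c * b = b * c) ∨ ∀ c, c * (a * b) = a * b * c := by
  have rot : ∀ k : ZMod m, (DihedralGroup.r k : DihedralGroup m) * DihedralGroup.r k = 1 →
      ∀ c, c * DihedralGroup.r k = DihedralGroup.r k * c := by
    intro k hk c
    rw [DihedralGroup.r_mul_r, DihedralGroup.one_def, DihedralGroup.r.injEq] at hk
    have hneg : -k = k := (eq_neg_of_add_eq_zero_left hk).symm
    cases c with
    | r i => rw [DihedralGroup.r_mul_r, DihedralGroup.r_mul_r, add_comm]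
    | sr i => rw [DihedralGroup.sr_mul_r, DihedralGroup.r_mul_sr, sub_eq_add_neg, hneg]
  cases a with
  | r i => exact Or.inl (rot i ha)
  | sr i =>
    cases b with
    | r j => exact Or.inr (Or.inl (rot j hb))
    | sr j =>
      refine Or.inr (Or.inr ?_)
      have h2 : (DihedralGroup.sr i * DihedralGroup.sr j : DihedralGroup m) *
          (DihedralGroup.sr i * DihedralGroup.sr j) = 1 := by
        rw [show DihedralGroup.sr i * DihedralGroup.sr j * (DihedralGroup.sr i * DihedralGroup.sr j)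
          = DihedralGroup.sr i * DihedralGroup.sr j *
            (DihedralGroup.sr j * DihedralGroup.sr i) by rw [hab], mul_assoc, ← mul_assoc
            (DihedralGroup.sr j), hb, one_mul, ha]
      rw [DihedralGroup.sr_mul_sr] at h2 ⊢
      exact rot _ h2

/-- In a semidihedral group a cyclic subgroup of index two exists and the involutions outside it
form one class. -/
theorem semidihedral_data {S : Type*} [Group S] [Finite S] (h : Cfsg.IsQuasiDihedral S) :
    ∃ R : Subgroup S, R.index = 2 ∧ IsCyclic R ∧ 8 ≤ Nat.card R ∧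
      ∀ a b : S, a * a = 1 → b * b = 1 → a ∉ R → b ∉ R → IsConj a b := by
  obtain ⟨n, hn, hcard, x, y, hx, hy, hxy⟩ := h
  have hR : Nat.card (zpowers x) = 2 ^ n := by rw [Nat.card_zpowers, hx]
  have hidx : (zpowers x).index = 2 := by
    have h := (zpowers x).card_mul_index
    rw [hR, hcard, pow_succ] at h
    exact Nat.eq_of_mul_eq_mul_left (by positivity) h
  refine ⟨zpowers x, hidx, inferInstance, ?_, ?_⟩
  · rw [hR]; calc 8 = 2 ^ 3 := rfl
      _ ≤ 2 ^ n := Nat.pow_le_pow_right (by norm_num) hn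
  obtain ⟨k, rfl⟩ : ∃ k, n = k + 3 := ⟨n - 3, by omega⟩
  rw [show k + 3 - 1 = k + 2 from rfl] at hxy
  have hy2 : y * y = 1 := by rw [← pow_two, ← hy, pow_orderOf_eq_one]
  have hyi : y⁻¹ = y := inv_eq_of_mul_eq_one_right hy2
  have h4 : (4 : ℕ) ≤ 2 ^ (k + 2) := by
    calc 4 = 2 ^ 2 := rfl
      _ ≤ 2 ^ (k + 2) := Nat.pow_le_pow_right (by norm_num) (by omega)
  have hxy' : ∀ i : ℤ, y * x ^ i * y⁻¹ = x ^ (i * ((2 : ℤ) ^ (k + 2) - 1)) := fun i => by
    rw [← conj_zpow, hxy, ← zpow_natCast, ← zpow_mul,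
      Nat.cast_sub (by omega), Nat.cast_pow, mul_comm]
    rfl
  have hyR : y ∉ zpowers x := fun hmem => by
    obtain ⟨i, hi⟩ := hmem
    have h1 : y * x * y⁻¹ = x := by
      rw [← hi]
      show x ^ i * x * (x ^ i)⁻¹ = x
      group
    rw [hxy] at h1
    have h2 : x ^ (2 ^ (k + 2) - 2) = 1 := by
      have h3 : x ^ (2 ^ (k + 2) - 2) * x = 1 * x := by
        rw [one_mul, ← pow_succ, show 2 ^ (k + 2) - 2 + 1 = 2 ^ (k + 2) - 1 by omega]
        exact h1
      exact mul_right_cancel h3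
    have hd := orderOf_dvd_of_pow_eq_one h2
    rw [hx] at hd
    have := Nat.le_of_dvd (by omega) hd
    rw [show k + 3 = k + 2 + 1 from rfl, pow_succ 2 (k + 2)] at this
    omega
  suffices hall : ∀ a : S, a * a = 1 → a ∉ zpowers x → IsConj y a by
    exact fun a b ha hb haR hbR => (hall a ha haR).symm.trans (hall b hb hbR)
  intro a ha haR
  obtain ⟨i, hi⟩ : a * y ∈ zpowers x := by
    rw [mul_mem_iff_of_index_two hidx]; exact iff_of_false haR hyR
  have hai : a = x ^ i * y := by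
    rw [show x ^ i = a * y from hi, mul_assoc, hy2, mul_one]
  have hsq : x ^ (i * (2 : ℤ) ^ (k + 2)) = 1 := by
    rw [hai] at ha
    have h1 : x ^ i * (y * x ^ i * y⁻¹) = 1 := by rw [hyi, ← ha]; group
    rw [hxy', ← zpow_add] at h1
    rwa [show i + i * ((2 : ℤ) ^ (k + 2) - 1) = i * (2 : ℤ) ^ (k + 2) by ring] at h1
  obtain ⟨c, hc⟩ : (2 : ℤ) ∣ i := by
    have hd := orderOf_dvd_iff_zpow_eq_one.2 hsq
    rw [hx, Nat.cast_pow, show k + 3 = k + 2 + 1 from rfl, pow_succ, mul_comm i] at hd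
    exact Int.dvd_of_mul_dvd_mul_left (by positivity) hd
  have hc2 : IsCoprime (1 - (2 : ℤ) ^ (k + 1)) ((2 : ℤ) ^ (k + 2)) :=
    IsCoprime.pow_right ⟨1, (2 : ℤ) ^ k, by ring⟩
  obtain ⟨r, s, hrs⟩ := hc2
  refine isConj_iff.2 ⟨x ^ (c * r), ?_⟩
  have hfull : x ^ ((2 : ℤ) ^ (k + 3)) = 1 := by
    have := pow_orderOf_eq_one x
    rw [hx, ← zpow_natCast, Nat.cast_pow] at this
    exact this
  have hmove : x ^ (c * r) * y * (x ^ (c * r))⁻¹ = x ^ (c * r) * (y * x ^ (-(c * r)) * y⁻¹) * y := by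
    rw [zpow_neg]; group
  rw [hmove, hxy', ← zpow_add, hai, hc,
    show c * r + -(c * r) * ((2 : ℤ) ^ (k + 2) - 1) =
      2 * c + (2 : ℤ) ^ (k + 3) * (-(c * s)) by linear_combination (2 * c) * hrs,
    zpow_add, zpow_mul x ((2 : ℤ) ^ (k + 3)), hfull, one_zpow, mul_one]

end CfsgLib.ThreeSymNine
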