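import Cfsg.Agent.ThreeSymNine.PMLocal
import Cfsg.Agent.ThreeSymNine.TwoGroup
import Cfsg.Agent.S0215
import Cfsg.Agent.S0111
import Cfsg.Agent.S3224
import Cfsg.Agent.S1254
import Cfsg.Agent.ThreeLocalEight.Finish

/-!
# The automizer is the symmetric group of degree three with the inversion: conclusion
-/

set_option autoImplicit false
set_option maxRecDepth 100000
set_option linter.style.haveILetI false

namespace CfsgLib.ThreeSymNine

open CfsgLib.AltNine Subgroup

attribute [local instance 10000] List.decidableBAll List.decidableBEx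

universe u

theorem pm_odd : ∀ d : Fin 8, d ∈ ([0, 7] : List (Fin 8)) → ∀ a : Fin 6,
    ∃ b : Fin 6, b ∈ ([0, 4, 5] : List (Fin 6)) ∧ mm (mono d a) (mono d a) = pmat b := by
  decide +kernel

namespace Hyp

variable {G : Type u} [Group G] [Finite G] {H : Hyp G} {u : G}

theorem PM.basic (h : H.PM u) :
    H.S 1 * H.S 1 = 1 ∧ H.S 1 ≠ 1 ∧ u ≠ 1 ∧ H.S 1 * u ≠ 1 ∧
      H.S 1 * u * (H.S 1 * u) = 1 ∧ H.Induces (H.S 1 * u) (mono 7 1) := by
  have ht : H.S 1 * H.S 1 = 1 := by
    rw [H.S_mul, show pm 1 1 = 0 by decide +kernel, H.S_zero]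
  have key : ∀ {g : G} {M : Mat}, H.Induces g M → M ≠ pmat 0 → g ≠ 1 := fun hg hne e =>
    hne (hg.unique (e ▸ H.induces_J (one_mem _)))
  have hY : H.Induces (H.S 1 * u) (mono 7 1) := by
    rw [← h.comm 1, ← mono_tables.2.1]; exact h.ind.mul (H.induces_S 1)
  refine ⟨ht, key (H.induces_S 1) (by decide +kernel), key h.ind (by decide +kernel),
    key hY (by decide +kernel), ?_, hY⟩
  rw [mul_assoc, ← mul_assoc u, h.comm 1, mul_assoc, h.sq, mul_one, ht]

/-- The centralizer of the line inverted by the block transposition, inside that of `y`. -/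
theorem PM.cent_y_seven (h : H.PM u) {g : G} (hy : g * (H.S 1 * u) = H.S 1 * u * g)
    (h7 : g * H.emb 7 = H.emb 7 * g) : ∃ i k : ℕ, g = (H.S 1 * u) ^ i * H.emb 7 ^ k := by
  obtain ⟨ht, -, -, -, hyy, hY⟩ := h.basic
  have hgC : g ∈ H.C [7] := H.mem_C.2 fun v hv => by rw [List.mem_singleton.1 hv]; exact h7
  obtain ⟨M, hM⟩ := H.exists_induces_of_mem (h.C_seven hgC)
  have hfix : ∀ {i : ℕ}, ((H.S 1 * u) ^ i)⁻¹ * g ∈ H.J →
      ∃ i k : ℕ, g = (H.S 1 * u) ^ i * H.emb 7 ^ k := by
    rintro i ⟨v, hv⟩
    have hvy : app (mono 7 1) v = v := H.emb_inj (by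
      rw [← hY, hv, mul_inv_eq_iff_eq_mul]
      exact ((Commute.self_pow _ i).inv_right.mul_right hy.symm).eq)
    refine ⟨i, ?_⟩
    rcases pm_y.2.2.2.1 v hvy with rfl | rfl | rfl
    · exact ⟨0, by rw [pow_zero, mul_one]; rw [H.emb_zero] at hv; exact (inv_mul_eq_one.1 hv.symm).symm⟩
    · exact ⟨1, by rw [pow_one, hv, mul_inv_cancel_left]⟩
    · refine ⟨2, ?_⟩
      have : H.emb (nv 7) = H.emb 7 ^ 2 := by
        rw [show nv 7 = sm 2 7 from rfl, H.emb_sm]; rfl
      rw [← this, hv, mul_inv_cancel_left]
  rcases List.mem_cons.1 (h.signs.stab [7] _ pm_seven_stab (hM.stab hgC)) with e | e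
  · exact hfix (i := 0) (by rw [pow_zero, inv_one, one_mul]; exact H.mem_J_of_induces_one (e ▸ hM))
  · exact hfix (i := 1) (by
      rw [pow_one]; exact hM.mul_inv_mem (List.mem_singleton.1 e ▸ hY))

/-- The Sylow three-subgroup of the centralizer of `y` has order three. -/
theorem PM.three_y (h : H.PM u) {R : Subgroup G} (hR : IsPGroup 3 R)
    (hRy : R ≤ centralizer {H.S 1 * u}) (h7 : H.emb 7 ∈ R) : R ≤ zpowers (H.emb 7) := by
  haveI : Fact (Nat.Prime 3) := ⟨Nat.prime_three⟩
  obtain ⟨-, -, -, -, hyy, -⟩ := h.basic
  have hsmall : ∀ g ∈ R, g * H.emb 7 = H.emb 7 * g → g ∈ zpowers (H.emb 7) := by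
    intro g hg hc
    obtain ⟨i, k, rfl⟩ := h.cent_y_seven (mem_centralizer_singleton_iff.1 (hRy hg)) hc
    have hy' : (H.S 1 * u) ^ i ∈ R := by
      have := mul_mem hg (inv_mem (pow_mem h7 k))
      rwa [mul_inv_cancel_right] at this
    obtain ⟨m, hm⟩ := hR ⟨_, hy'⟩
    have h1 : (H.S 1 * u) ^ i = 1 := orderOf_eq_one_iff.1 (Nat.eq_one_of_dvd_coprimes
      (Nat.Coprime.pow_left m (by norm_num : Nat.Coprime 3 2))
      (orderOf_dvd_of_pow_eq_one (congrArg Subtype.val hm : ((H.S 1 * u) ^ i) ^ 3 ^ m = 1))
      (orderOf_dvd_of_pow_eq_one (by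
        rw [← pow_mul, mul_comm, pow_mul, pow_two, hyy, one_pow])))
    rw [h1, one_mul]; exact pow_mem (mem_zpowers _) k
  have hj1 : H.emb 7 ≠ 1 := fun e => absurd (H.emb_inj (e.trans H.emb_zero.symm)) (by decide)
  haveI : Nontrivial R := ⟨⟨⟨_, h7⟩, 1, fun e => hj1 (congrArg Subtype.val e)⟩⟩
  haveI := hR.center_nontrivial
  obtain ⟨⟨z, hz⟩, hz1⟩ := exists_ne (1 : Subgroup.center R)
  have hzc : ∀ w ∈ R, w * (z : G) = z * w := fun w hw =>
    congrArg Subtype.val (Subgroup.mem_center_iff.1 hz ⟨w, hw⟩)
  have hzj := hsmall _ z.2 (hzc _ h7).symm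
  have hcard : Nat.card (zpowers (H.emb 7)) = 3 := by
    rw [Nat.card_zpowers]; exact orderOf_eq_prime (H.emb_cube 7) hj1
  have hjz : H.emb 7 ∈ zpowers (z : G) := by
    have hz' : orderOf (z : G) = 3 := by
      have hd := orderOf_dvd_natCard _ hzj
      rw [hcard] at hd
      rcases (Nat.dvd_prime Nat.prime_three).1 hd with e | e
      · exact absurd (Subtype.ext (Subtype.ext (orderOf_eq_one_iff.1 e))) hz1
      · exact e
    rw [Subgroup.eq_of_le_of_card_ge (zpowers_le.2 hzj)
      (by rw [hcard, Nat.card_zpowers, hz'])]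
    exact mem_zpowers _
  intro g hg
  obtain ⟨i, hi⟩ := hjz
  refine hsmall g hg ?_
  rw [← hi]
  exact ((show Commute g (z : G) from hzc g hg).zpow_right i).eq

theorem PM.not_conj_t_y (h : H.PM u) (g : G) : g * H.S 1 * g⁻¹ ≠ H.S 1 * u := by
  classical
  intro e
  haveI : Fact (Nat.Prime 3) := ⟨Nat.prime_three⟩
  obtain ⟨-, -, -, -, -, hY⟩ := h.basic
  set C := centralizer ({H.S 1 * u} : Set G) with hC
  have h7C : H.emb 7 ∈ C := mem_centralizer_singleton_iff.2 (by
    have := hY 7
    rw [pm_y.2.2.1, mul_inv_eq_iff_eq_mul] at this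
    exact this.symm)
  have hj : IsPGroup 3 (zpowers (⟨_, h7C⟩ : C)) := IsPGroup.of_card (n := 1) (by
    rw [Nat.card_zpowers, Subgroup.orderOf_mk, pow_one]
    exact orderOf_eq_prime (H.emb_cube 7)
      fun e => absurd (H.emb_inj (e.trans H.emb_zero.symm)) (by decide))
  obtain ⟨R, hR⟩ := hj.exists_le_sylow
  have hR3 : Nat.card (R : Subgroup C) ∣ 3 := by
    have hle : (R : Subgroup C).map C.subtype ≤ zpowers (H.emb 7) :=
      h.three_y (R.2.map _) (map_subtype_le _) ⟨_, hR (mem_zpowers _), rfl⟩
    have hd := card_dvd_of_le hle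
    rw [← Nat.card_congr ((R : Subgroup C).equivMapOfInjective _ C.subtype_injective).toEquiv,
      Nat.card_zpowers, orderOf_eq_prime (p := 3) (H.emb_cube 7)
        fun e => absurd (H.emb_inj (e.trans H.emb_zero.symm)) (by decide)] at hd
    exact hd
  set E := (H.Fix (H.S 1)).map (MulAut.conj g).toMonoidHom
  have hEC : E ≤ C := by
    rintro _ ⟨w, hw, rfl⟩
    refine mem_centralizer_singleton_iff.2 ?_
    rw [← e]
    show MulAut.conj g w * MulAut.conj g (H.S 1) = MulAut.conj g (H.S 1) * MulAut.conj g w
    rw [← map_mul, ← map_mul, mem_centralizer_singleton_iff.1 hw.2]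
  have hE9 : Nat.card (E.subgroupOf C) = 3 ^ 2 := by
    rw [Nat.card_congr (subgroupOfEquivOfLe hEC).toEquiv,
      ← Nat.card_congr ((H.Fix _).equivMapOfInjective _ (MulAut.conj g).injective).toEquiv,
      H.card_Fix (H.induces_S 1), caseA_fix]
    norm_num
  obtain ⟨R', hR'⟩ := (IsPGroup.of_card hE9).exists_le_sylow
  have := card_dvd_of_le hR'
  rw [hE9, Nat.card_congr (Sylow.equiv R' R).toEquiv] at this
  exact absurd (this.trans hR3) (by norm_num)

/-- A subgroup of order prime to two lies in the Sylow three-subgroup after meeting the normalizer. -/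
theorem PM.odd_le_P (h : H.PM u) {n : G} (hn : n ∈ H.N) (hodd : Odd (orderOf n)) : n ∈ H.P := by
  obtain ⟨M, hM⟩ := H.exists_induces_of_mem hn
  obtain ⟨d, hd, a, rfl⟩ := (h.signs M).1 ⟨_, hM⟩
  obtain ⟨b, hb, hbb⟩ := pm_odd d hd a
  have hnn : H.Induces (n * n) (pmat b) := hbb ▸ hM.mul hM
  obtain ⟨v, hv⟩ : (H.S b)⁻¹ * (n * n) ∈ H.J := hnn.mul_inv_mem (H.induces_S b)
  have hnnP : n * n ∈ H.P := ⟨pa b v, b, hb, by rw [← H.S_emb, hv, mul_inv_cancel_left]⟩
  obtain ⟨k, hk⟩ := hodd
  have h1 := pow_orderOf_eq_one n
  rw [hk, pow_succ, pow_mul, pow_two] at h1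
  rw [show n = ((n * n) ^ k)⁻¹ from eq_inv_of_mul_eq_one_right h1]
  exact inv_mem (pow_mem hnnP k)

/-- An index-two subgroup in which one involution is isolated gives normality. -/
theorem PM.normal_of_isolated (h : H.PM u) {G0 : Subgroup G} (hi : G0.index = 2) (S : Sylow 2 G)
    {z : G} (hz : z ∈ ({u, H.S 1 * u} : Set G)) (hz0 : z ∈ G0) (hzS : z ∈ (S : Subgroup G))
    (huniq : ∀ s ∈ (S : Subgroup G), s ∈ G0 → s * s = 1 → s = 1 ∨ s = z) : H.J.Normal := by
  classical
  haveI : Fact (Nat.Prime 2) := ⟨Nat.prime_two⟩
  haveI : Fact (Nat.Prime 3) := ⟨Nat.prime_three⟩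
  haveI := normal_of_index_eq_two hi
  obtain ⟨-, -, hu1, hy1, hyy, hY⟩ := h.basic
  have hz2 : z * z = 1 ∧ z ≠ 1 ∧ z * H.emb 9 * z⁻¹ = (H.emb 9)⁻¹ := by
    rcases hz with rfl | rfl
    · exact ⟨h.sq, hu1, by rw [h.ind, inversion_table.1, H.emb_nv]⟩
    · exact ⟨hyy, hy1, by rw [hY, pm_y.1, H.emb_nv]⟩
  -- a Sylow subgroup of the index-two subgroup
  let zG : G0 := ⟨z, hz0⟩
  have hp : IsPGroup 2 ((S : Subgroup G).subgroupOf G0) := S.2.comap_subtype
  obtain ⟨T, hT⟩ := hp.exists_le_sylow
  have hTS : ∀ s ∈ (T : Subgroup G0), (s : G) ∈ (S : Subgroup G) := by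
    have hcard : Nat.card ((S : Subgroup G).subgroupOf G0) ≥ Nat.card (T : Subgroup G0) := by
      obtain ⟨S', hS'⟩ := (T.2.map G0.subtype).exists_le_sylow
      have hle : (S : Subgroup G).subgroupOf G0 ≤ T := hT
      have h1 : Nat.card ((S : Subgroup G).subgroupOf G0) = Nat.card ((S : Subgroup G) ⊓ G0 :
          Subgroup G) := by
        rw [← inf_subgroupOf_right, Nat.card_congr (subgroupOfEquivOfLe inf_le_right).toEquiv]
      have hrel : Nat.card (S : Subgroup G) ∣ 2 * Nat.card ((S : Subgroup G) ⊓ G0 : Subgroup G) := by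
        have hm := ((G0.subgroupOf (S : Subgroup G))).card_mul_index
        have hd : (G0.subgroupOf (S : Subgroup G)).index ∣ 2 := by
          have := relIndex_dvd_index_of_normal G0 (S : Subgroup G)
          rw [hi] at this; exact this
        rw [← inf_subgroupOf_left, Nat.card_congr (subgroupOfEquivOfLe inf_le_left).toEquiv] at hm
        rw [← hm, mul_comm 2]
        exact Nat.mul_dvd_mul_left _ (by rwa [inf_subgroupOf_left])
      by_contra hlt
      have hT' : Nat.card (T : Subgroup G0) ∣ Nat.card (S : Subgroup G) := by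
        rw [Nat.card_congr (Sylow.equiv S S').toEquiv,
          Nat.card_congr ((T : Subgroup G0).equivMapOfInjective _ G0.subtype_injective).toEquiv]
        exact card_dvd_of_le hS'
      obtain ⟨a, ha⟩ := IsPGroup.iff_card.1 T.2
      obtain ⟨b, hb⟩ := IsPGroup.iff_card.1 hp
      obtain ⟨c, hc⟩ := IsPGroup.iff_card.1 S.2
      rw [hb] at h1
      rw [ha, hb] at hlt
      rw [ha, hc] at hT'
      rw [hc, ← h1, mul_comm 2, ← pow_succ] at hrel
      have hac := (Nat.pow_dvd_pow_iff_le_right (by norm_num : 1 < 2)).1 hT'
      have hcb := (Nat.pow_dvd_pow_iff_le_right (by norm_num : 1 < 2)).1 hrel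
      have hab : b < a := by
        by_contra hle
        exact hlt (Nat.pow_le_pow_right (by norm_num) (by omega))
      -- then `T` would be a Sylow subgroup of `G`
      have hTS' : (T : Subgroup G0).map G0.subtype = (S' : Subgroup G) := by
        refine Subgroup.eq_of_le_of_card_ge hS' ?_
        rw [← Nat.card_congr (Sylow.equiv S S').toEquiv, hc,
          ← Nat.card_congr ((T : Subgroup G0).equivMapOfInjective _ G0.subtype_injective).toEquiv, ha]
        exact Nat.pow_le_pow_right (by norm_num) (by omega)
      obtain ⟨g, hg⟩ := MulAction.exists_smul_eq G S' S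
      have hSG0 : (S : Subgroup G) ≤ G0 := by
        rw [← hg, Sylow.coe_subgroup_smul, ← hTS']
        rintro _ ⟨w, ⟨s, -, rfl⟩, rfl⟩
        exact (inferInstance : G0.Normal).conj_mem s s.2 g
      have h2 : Nat.card ((S : Subgroup G) ⊓ G0 : Subgroup G) = 2 ^ c := by
        rw [inf_eq_left.2 hSG0, hc]
      rw [← h1] at h2
      have := Nat.pow_right_injective (le_refl 2) h2
      omega
    intro s hs
    rw [← Subgroup.eq_of_le_of_card_ge hT hcard] at hs
    exact hs
  have hzT : zG ∈ (T : Subgroup G0) := hT (show z ∈ (S : Subgroup G) from hzS)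
  obtain ⟨O, hOn, hOodd, hOc⟩ := Cfsg.Agent.S0215.result T zG
    (orderOf_eq_prime (by rw [pow_two]; exact Subtype.ext hz2.1)
      fun e => hz2.2.1 (congrArg Subtype.val e)) hzT fun g hg => by
      have hsq : ((g * zG * g⁻¹ : G0) : G) * ((g * zG * g⁻¹ : G0) : G) = 1 := by
        show (g : G) * z * (g : G)⁻¹ * ((g : G) * z * (g : G)⁻¹) = 1
        rw [show (g : G) * z * (g : G)⁻¹ * ((g : G) * z * (g : G)⁻¹) = g * (z * z) * (g : G)⁻¹ by
          group, hz2.1, mul_one, mul_inv_cancel]
      rcases huniq _ (hTS _ hg) (g * zG * g⁻¹).2 hsq with e | e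
      · exact absurd (conj_eq_one_iff.1 (show (g : G) * z * (g : G)⁻¹ = 1 from e)) hz2.2.1
      · exact Subtype.ext e
  -- the odd core of the index-two subgroup is normal in `G`
  set K := Cfsg.pPrimeCore 2 G0
  have hKc : (Nat.card K).Coprime 2 := CfsgLib.Solvable.coprime_card_pPrimeCore 2
  haveI hKn : K.Normal := CfsgLib.Solvable.pPrimeCore_normal 2
  have hOK : O ≤ K := CfsgLib.Solvable.le_pPrimeCore 2 hOn (Nat.coprime_two_right.2 hOodd)
  set K' := K.map G0.subtype
  have hK' : K'.Normal := by
    refine ⟨fun w hw g => ?_⟩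
    obtain ⟨k, hk, rfl⟩ := hw
    let f : G0 →* G0 := MonoidHom.mk' (fun x => ⟨g * x * g⁻¹,
      (inferInstance : G0.Normal).conj_mem x x.2 g⟩) fun a b => Subtype.ext (by
        show g * (a * b : G) * g⁻¹ = g * a * g⁻¹ * (g * b * g⁻¹); group)
    have hfi : Function.Injective f := fun a b e' => Subtype.ext
      (mul_left_cancel (mul_right_cancel (show g * (a : G) * g⁻¹ = g * b * g⁻¹ from
        congrArg Subtype.val e')))
    have hM := CfsgLib.Solvable.le_pPrimeCore 2 (hKn.map f
      (Finite.surjective_of_injective hfi))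
      (by rw [← Nat.card_congr (K.equivMapOfInjective f hfi).toEquiv]; exact hKc)
    exact ⟨f k, hM ⟨k, hk, rfl⟩, rfl⟩
  -- odd elements lie in the index-two subgroup
  have hodd0 : ∀ w : G, w ^ 3 = 1 → w ∈ G0 := fun w hw => by
    rw [show w = (w * w) * (w * w) by
      rw [show w * w * (w * w) = w ^ 3 * w by
        rw [show (3 : ℕ) = 1 + 1 + 1 from rfl, pow_add, pow_add, pow_one]; group, hw, one_mul]]
    exact mul_mem (mul_self_mem_of_index_two hi w) (mul_self_mem_of_index_two hi w)
  have h9 : H.emb 9 ∈ K' := by
    refine ⟨⟨H.emb 9, hodd0 _ (H.emb_cube 9)⟩, ?_, rfl⟩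
    have := hOK (hOc ⟨H.emb 9, hodd0 _ (H.emb_cube 9)⟩)
    have e : zG * ⟨H.emb 9, hodd0 _ (H.emb_cube 9)⟩ * zG⁻¹ *
        (⟨H.emb 9, hodd0 _ (H.emb_cube 9)⟩ : G0)⁻¹ = ⟨H.emb 9, hodd0 _ (H.emb_cube 9)⟩ := by
      refine Subtype.ext ?_
      show z * H.emb 9 * z⁻¹ * (H.emb 9)⁻¹ = H.emb 9
      rw [hz2.2.2, ← mul_inv_rev, inv_eq_iff_mul_eq_one, ← pow_two, ← pow_succ]
      exact H.emb_cube 9
    rwa [e] at this
  have hJK : H.J ≤ K' := by
    rintro _ ⟨v, rfl⟩
    have hgen : ∀ a, H.emb (pa a 9) ∈ K' := fun a => H.S_act a 9 ▸ hK'.conj_mem _ h9 (H.S a)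
    have h1 : pa 3 9 = 1 ∧ pa 2 9 = 3 := by decide +kernel
    rw [← vec_split v, H.emb_add, H.emb_add, H.emb_sm, H.emb_sm, H.emb_sm]
    exact mul_mem (mul_mem (pow_mem (h1.1 ▸ hgen 3) _) (pow_mem (h1.2 ▸ hgen 2) _))
      (pow_mem h9 _)
  -- adjoin the block rotation
  haveI := hK'
  set D := K' ⊔ zpowers (H.S 4)
  have hS4 : H.S 4 ^ 3 = 1 := by
    rw [pow_succ, pow_two, H.S_mul, H.S_mul, show pm (pm 4 4) 4 = 0 by decide +kernel, H.S_zero]
  have hPD : H.P ≤ D := by
    rintro _ ⟨v, a, ha, rfl⟩
    refine mul_mem (mem_sup_left (hJK (H.emb_mem v))) (mem_sup_right ?_)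
    simp only [List.mem_cons, List.not_mem_nil, or_false] at ha
    rcases ha with rfl | rfl | rfl
    · rw [H.S_zero]; exact one_mem _
    · exact mem_zpowers _
    · rw [show (5 : Fin 6) = pm 4 4 by decide +kernel, ← H.S_mul]
      exact mul_mem (mem_zpowers _) (mem_zpowers _)
  have hDodd : Odd (Nat.card D) := by
    have hD : Nat.card D ∣ Nat.card K' * 3 := by
      rw [← card_mul_index (K'.subgroupOf D), Nat.card_congr (subgroupOfEquivOfLe le_sup_left).toEquiv]
      refine Nat.mul_dvd_mul_left _ ?_
      show K'.relIndex (K' ⊔ zpowers (H.S 4)) ∣ 3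
      rw [relIndex_sup_left]
      exact ((K'.subgroupOf _).index_dvd_card).trans
        (by rw [Nat.card_zpowers]; exact orderOf_dvd_of_pow_eq_one hS4)
    refine Odd.of_dvd_nat (Nat.odd_mul.2 ⟨?_, by decide⟩) hD
    rw [← Nat.card_congr (K.equivMapOfInjective _ G0.subtype_injective).toEquiv]
    exact Nat.coprime_two_right.1 hKc
  have hDP : D = H.P := H.eq_P_of_three hPD fun n ⟨hnD, hnN⟩ =>
    h.odd_le_P hnN (hDodd.of_dvd_nat (orderOf_dvd_natCard _ hnD))
  refine ⟨fun j hj g => ?_⟩
  have hg : g ∈ H.N := H.mem_N_of_conj H.isPGroup_P H.J_le_P fun v =>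
    hDP.le (mem_sup_left (hK'.conj_mem _ (hJK (H.emb_mem v)) g))
  exact (mem_normalizer_iff.1 hg j).1 hj

/-- The centralizer of `y` does not contain a dihedral Sylow subgroup of order at least eight in
which it is central. -/
theorem PM.not_dihedral (h : H.PM u) (S : Sylow 2 G) (hyS : H.S 1 * u ∈ (S : Subgroup G))
    (htS : H.S 1 ∈ (S : Subgroup G))
    (hcen : ∀ s ∈ (S : Subgroup G), s * (H.S 1 * u) = H.S 1 * u * s)
    (hV : ∀ s ∈ (S : Subgroup G), s * H.S 1 = H.S 1 * s →
      s ∈ ({1, H.S 1, u, H.S 1 * u} : Set G))
    {g : G} (hgS : g ∈ (S : Subgroup G)) (hg : g ∉ ({1, H.S 1, u, H.S 1 * u} : Set G))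
    {m : ℕ} (e : (S : Subgroup G) ≃* DihedralGroup m) : False := by
  classical
  haveI : Fact (Nat.Prime 2) := ⟨Nat.prime_two⟩
  haveI : Fact (Nat.Prime 3) := ⟨Nat.prime_three⟩
  obtain ⟨ht, ht1, hu1, hy1, hyy, hY⟩ := h.basic
  set t := H.S 1
  set y := t * u
  set C := centralizer ({y} : Set G) with hC
  have hSC : (S : Subgroup G) ≤ C := fun s hs => mem_centralizer_singleton_iff.2 (hcen s hs)
  let SC : Sylow 2 C := S.subtype hSC
  have hSCc : (SC : Subgroup C) = (S : Subgroup G).subgroupOf C := Sylow.coe_subtype _ _
  let eC : (SC : Subgroup C) ≃* DihedralGroup m :=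
    (MulEquiv.subgroupCongr hSCc).trans ((subgroupOfEquivOfLe hSC).trans e)
  have hm : 2 ≤ m := by
    by_contra hlt
    have hcardS : Nat.card (S : Subgroup G) = Nat.card (DihedralGroup m) := Nat.card_congr e.toEquiv
    rw [DihedralGroup.nat_card] at hcardS
    have hpos : 0 < Nat.card (S : Subgroup G) := Nat.card_pos
    have hty : t ≠ y := fun e' => hu1 (by
      have : t * 1 = t * u := by rw [mul_one]; exact e'
      exact (mul_left_cancel this).symm)
    have h3 : ({1, t, y} : Finset G).card ≤ Nat.card (S : Subgroup G) := by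
      rw [← Nat.card_eq_finsetCard]
      refine Nat.card_le_card_of_injective (fun w => (⟨w.1, ?_⟩ : (S : Subgroup G)))
        fun a b e' => Subtype.ext (congrArg Subtype.val e' :)
      have := w.2
      simp only [Finset.mem_insert, Finset.mem_singleton] at this
      rcases this with h1 | h1 | h1 <;> rw [h1]
      · exact one_mem _
      · exact htS
      · exact hyS
    rw [Finset.card_insert_of_notMem (by simp [Ne.symm ht1, Ne.symm hy1]), Finset.card_pair hty] at h3
    omega
  have hcompl : Cfsg.HasNormalPComplement 2 C := by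
    refine (Cfsg.Agent.S1254.result SC m hm eC).2 fun U hUS hU => le_antisymm ?_ ?_
    · -- the automizer of a four-group fixes `y`
      intro n hn
      let yC : C := ⟨y, mem_centralizer_singleton_iff.2 rfl⟩
      have hncy : n * yC = yC * n := Subtype.ext (mem_centralizer_singleton_iff.1 n.2)
      haveI := hU
      have hU2 : ∀ w ∈ U, w * w = 1 := fun w hw =>
        congrArg Subtype.val (IsKleinFour.mul_self (⟨w, hw⟩ : U))
      have hUc : ∀ a ∈ U, ∀ b ∈ U, a * b = b * a := fun a ha b hb => by
        have h2 := hU2 _ (mul_mem ha hb)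
        calc a * b = a⁻¹ * b⁻¹ := by
              rw [inv_eq_of_mul_eq_one_right (hU2 a ha), inv_eq_of_mul_eq_one_right (hU2 b hb)]
          _ = (b * a)⁻¹ := by group
          _ = b * a := inv_eq_of_mul_eq_one_right (hU2 _ (mul_mem hb ha))
      haveI : Nontrivial U := Finite.one_lt_card_iff_nontrivial.1 (by
        rw [IsKleinFour.card_four]; norm_num)
      obtain ⟨⟨a, ha⟩, ha1⟩ := exists_ne (1 : U)
      obtain ⟨b, hb, hb1, hba⟩ : ∃ b ∈ U, b ≠ 1 ∧ b ≠ a := by
        by_contra hcon
        push Not at hcon
        have : Nat.card U ≤ 2 := by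
          refine (Nat.card_le_card_of_injective (fun w : U => decide ((w : C) = a))
            fun p q hpq => Subtype.ext ?_).trans (by simp)
          by_cases hp : (p : C) = 1 <;> by_cases hq : (q : C) = 1
          · rw [hp, hq]
          · have := hcon q q.2 hq
            simp only [this, hp, decide_eq_decide] at hpq
            exact absurd (hpq.2 trivial) fun e' => ha1 (Subtype.ext e'.symm)
          · have := hcon p p.2 hp
            simp only [this, hq, decide_eq_decide] at hpq
            exact absurd (hpq.1 trivial) fun e' => ha1 (Subtype.ext e'.symm)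
          · rw [hcon p p.2 hp, hcon q q.2 hq]
        rw [IsKleinFour.card_four] at this
        omega
      have hcenter : ∀ w, ∀ hw : w ∈ U, w ≠ 1 → (∀ c : DihedralGroup m,
          c * eC ⟨w, hUS hw⟩ = eC ⟨w, hUS hw⟩ * c) → w = yC := by
        intro w hw hw1 hcw
        have hcS : ∀ s : (SC : Subgroup C), s * (⟨w, hUS hw⟩ : (SC : Subgroup C)) =
            ⟨w, hUS hw⟩ * s := fun s =>
          eC.injective (by rw [map_mul, map_mul]; exact hcw (eC s))
        have hwS : (w : G) ∈ (S : Subgroup G) := by
          have := hUS hw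
          rw [hSCc] at this; exact this
        have hall : ∀ s, ∀ hs : s ∈ (S : Subgroup G), s * (w : G) = w * s := fun s hs => by
          have := congrArg (fun z : (SC : Subgroup C) => ((z : C) : G))
            (hcS ⟨⟨s, hSC hs⟩, by rw [hSCc]; exact hs⟩)
          exact this
        rcases hV _ hwS (hall t htS).symm with e' | e' | e' | e'
        · exact absurd (Subtype.ext e') hw1
        · exact absurd (hV g hgS (by rw [← e']; exact hall g hgS)) hg
        · refine absurd (hV g hgS ?_) hg
          have h1 := hall g hgS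
          rw [e'] at h1
          have h2 : Commute g (t * u) := hcen g hgS
          have h3 := h2.mul_right (show Commute g u from h1)
          rwa [mul_assoc, h.sq, mul_one] at h3
        · exact Subtype.ext e'
      have hyU : yC ∈ U := by
        rcases dihedral_klein (a := eC ⟨a, hUS ha⟩) (b := eC ⟨b, hUS hb⟩)
          (by rw [← map_mul]; exact (congrArg eC (Subtype.ext (hU2 a ha))).trans (map_one eC))
          (by rw [← map_mul]; exact (congrArg eC (Subtype.ext (hU2 b hb))).trans (map_one eC))
          (by rw [← map_mul, ← map_mul]; exact congrArg eC (Subtype.ext (hUc a ha b hb))) with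
          h1 | h1 | h1
        · exact hcenter a ha (fun e' => ha1 (Subtype.ext e')) h1 ▸ ha
        · exact hcenter b hb hb1 h1 ▸ hb
        · refine hcenter _ (mul_mem ha hb) (fun e' => hba ?_) ?_ ▸ mul_mem ha hb
          · rw [← inv_eq_of_mul_eq_one_right e', inv_eq_of_mul_eq_one_right (hU2 a ha)]
          · intro c
            have := h1 c
            rw [← map_mul] at this
            exact this
      -- so it is generated by the centralizer and a Sylow element
      by_cases hnc : n ∈ centralizer (U : Set C)
      · exact mem_sup_left hnc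
      obtain ⟨w, hwU, hw1, hwy, hnw⟩ : ∃ w ∈ U, w ≠ 1 ∧ w ≠ yC ∧ n * w * n⁻¹ ≠ w := by
        by_contra hcon
        push Not at hcon
        refine hnc (mem_centralizer_iff.2 fun w hw => ?_)
        by_cases hw1 : w = 1
        · simp [hw1]
        by_cases hwy : w = yC
        · rw [hwy]; exact hncy.symm
        exact (mul_inv_eq_iff_eq_mul.1 (hcon w hw hw1 hwy)).symm
      -- any element moving `w` agrees with `n` on `U`
      have hagree : ∀ s : C, s ∈ normalizer (U : Set C) → s * w * s⁻¹ ≠ w →
          s⁻¹ * n ∈ centralizer (U : Set C) := by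
        intro s hs hsw
        have himg : ∀ r : C, r ∈ normalizer (U : Set C) → r * w * r⁻¹ ≠ w →
            r * w * r⁻¹ = yC * w := by
          intro r hr hrw
          have hry : r * yC * r⁻¹ = yC := by
            have : r * yC = yC * r := Subtype.ext (mem_centralizer_singleton_iff.1 r.2)
            rw [this, mul_inv_cancel_right]
          have hmem := (mem_normalizer_iff.1 hr w).1 hwU
          by_contra hne'
          have h4 : ({1, w, yC, yC * w, r * w * r⁻¹} : Finset C).card ≤ Nat.card U := by
            rw [← Nat.card_eq_finsetCard]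
            refine Nat.card_le_card_of_injective (fun z => (⟨z.1, ?_⟩ : U))
              fun p q e' => Subtype.ext (congrArg Subtype.val e' :)
            have := z.2
            simp only [Finset.mem_insert, Finset.mem_singleton] at this
            rcases this with h1 | h1 | h1 | h1 | h1 <;> rw [h1]
            · exact one_mem _
            · exact hwU
            · exact hyU
            · exact mul_mem hyU hwU
            · exact hmem
          have hy1' : yC ≠ 1 := fun e' => hy1 (congrArg Subtype.val e')
          have hyw : yC * w ≠ 1 := fun e' => hwy (by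
            rw [← inv_eq_of_mul_eq_one_right e', inv_eq_of_mul_eq_one_right (hU2 yC hyU)])
          have hr1 : r * w * r⁻¹ ≠ 1 := fun e' => hw1 (conj_eq_one_iff.1 e')
          have hry' : r * w * r⁻¹ ≠ yC := fun e' => hwy
            (mul_left_cancel (mul_right_cancel (e'.trans hry.symm)))
          rw [Finset.card_insert_of_notMem (by
              simp [Ne.symm hw1, Ne.symm hy1', Ne.symm hyw, Ne.symm hr1]),
            Finset.card_insert_of_notMem (by
              simp [hwy, Ne.symm hrw, hy1']),
            Finset.card_insert_of_notMem (by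
              simp [hw1, Ne.symm hry']),
            Finset.card_pair (Ne.symm hne'), IsKleinFour.card_four] at h4
          omega
        have hsn : s⁻¹ * n * w = w * (s⁻¹ * n) := by
          have h1 := (himg n hn hnw).trans (himg s hs hsw).symm
          calc s⁻¹ * n * w = s⁻¹ * (n * w * n⁻¹) * n := by group
            _ = s⁻¹ * (s * w * s⁻¹) * n := by rw [h1]
            _ = _ := by group
        refine mem_centralizer_iff.2 fun z hz => ?_
        have hsy : (s⁻¹ * n) * yC = yC * (s⁻¹ * n) :=
          Subtype.ext (mem_centralizer_singleton_iff.1 (s⁻¹ * n).2)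
        have hgen : z = 1 ∨ z = w ∨ z = yC ∨ z = yC * w := by
          by_contra hne'
          push Not at hne'
          obtain ⟨z1, z2, z3, z4⟩ := hne'
          have hy1' : yC ≠ 1 := fun e' => hy1 (congrArg Subtype.val e')
          have hyw : yC * w ≠ 1 := fun e' => hwy (by
            rw [← inv_eq_of_mul_eq_one_right e', inv_eq_of_mul_eq_one_right (hU2 yC hyU)])
          have h4 : ({1, w, yC, yC * w, z} : Finset C).card ≤ Nat.card U := by
            rw [← Nat.card_eq_finsetCard]
            refine Nat.card_le_card_of_injective (fun z' => (⟨z'.1, ?_⟩ : U))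
              fun p q e' => Subtype.ext (congrArg Subtype.val e' :)
            have := z'.2
            simp only [Finset.mem_insert, Finset.mem_singleton] at this
            rcases this with h1 | h1 | h1 | h1 | h1 <;> rw [h1]
            · exact one_mem _
            · exact hwU
            · exact hyU
            · exact mul_mem hyU hwU
            · exact hz
          rw [Finset.card_insert_of_notMem (by
              simp [Ne.symm hw1, Ne.symm hy1', Ne.symm hyw, Ne.symm z1]),
            Finset.card_insert_of_notMem (by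
              simp [hwy, Ne.symm z2, hy1']),
            Finset.card_insert_of_notMem (by simp [hw1, Ne.symm z3]),
            Finset.card_pair (Ne.symm z4), IsKleinFour.card_four] at h4
          omega
        rcases hgen with rfl | rfl | rfl | rfl
        · simp
        · exact hsn.symm
        · exact hsy.symm
        · exact ((show Commute (s⁻¹ * n) yC from hsy).mul_right hsn).eq.symm
      -- an element of the Sylow subgroup moving `w`
      have hwS : (w : G) ∈ (S : Subgroup G) := by
        have := hUS hwU
        rw [hSCc] at this; exact this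
      have hmove : ∃ s ∈ (SC : Subgroup C), s ∈ normalizer (U : Set C) ∧ s * w * s⁻¹ ≠ w := by
        -- the group `U` is not central, so some element of the normalizer condition moves it
        by_contra hcon
        push Not at hcon
        have hVeq : ∀ s ∈ (SC : Subgroup C), s ∈ normalizer (U : Set C) →
            s ∈ centralizer (U : Set C) := fun s hs hsn => mem_centralizer_iff.2 fun z hz => by
          have hsw : s * w = w * s := mul_inv_eq_iff_eq_mul.1 (hcon s hs hsn)
          have hsy : s * yC = yC * s := Subtype.ext (mem_centralizer_singleton_iff.1 s.2)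
          have hgen : z ∈ Subgroup.closure ({w, yC} : Set C) := by
            have heq : Subgroup.closure ({w, yC} : Set C) = U := by
              refine Subgroup.eq_of_le_of_card_ge ((closure_le _).2 (by
                rintro p (rfl | rfl)
                exacts [hwU, hyU])) ?_
              have h4 : ({1, w, yC, yC * w} : Finset C).card ≤
                  Nat.card (Subgroup.closure ({w, yC} : Set C)) := by
                rw [← Nat.card_eq_finsetCard]
                refine Nat.card_le_card_of_injective
                  (fun z' => (⟨z'.1, ?_⟩ : Subgroup.closure ({w, yC} : Set C)))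
                  fun p q e' => Subtype.ext (congrArg Subtype.val e' :)
                have := z'.2
                simp only [Finset.mem_insert, Finset.mem_singleton] at this
                rcases this with h1 | h1 | h1 | h1 <;> rw [h1]
                · exact one_mem _
                · exact subset_closure (Or.inl rfl)
                · exact subset_closure (Or.inr rfl)
                · exact mul_mem (subset_closure (Or.inr rfl)) (subset_closure (Or.inl rfl))
              have hy1' : yC ≠ 1 := fun e' => hy1 (congrArg Subtype.val e')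
              have hyw : yC * w ≠ 1 := fun e' => hwy (by
                rw [← inv_eq_of_mul_eq_one_right e', inv_eq_of_mul_eq_one_right (hU2 yC hyU)])
              rw [Finset.card_insert_of_notMem (by
                  simp [Ne.symm hw1, Ne.symm hy1', Ne.symm hyw]),
                Finset.card_insert_of_notMem (by simp [hwy, hy1']),
                Finset.card_pair (fun e' : yC = yC * w => hw1 (by
                  have : yC * 1 = yC * w := by rw [mul_one]; exact e'
                  exact (mul_left_cancel this).symm))] at h4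
              rw [IsKleinFour.card_four]
              omega
            rw [heq]; exact hz
          clear hz
          induction hgen using Subgroup.closure_induction with
          | mem p hp =>
            rcases hp with rfl | rfl
            · exact hsw.symm
            · exact hsy.symm
          | one => simp
          | mul p q _ _ hp hq => exact ((show Commute s p from hp.symm).mul_right hq.symm).eq.symm
          | inv p _ hp => exact ((show Commute s p from hp.symm).inv_right).eq.symm
        -- then `U` is its own centralizer there and the normalizer condition fails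
        have hlt : U.subgroupOf (SC : Subgroup C) < ⊤ := by
          refine lt_top_iff_ne_top.2 fun e' => ?_
          have hle := subgroupOf_eq_top.1 e'
          refine hg ?_
          refine hV g hgS ?_
          have hgU : (⟨g, hSC hgS⟩ : C) ∈ U := hle (show (⟨g, hSC hgS⟩ : C) ∈ (SC : Subgroup C) by
            rw [hSCc]; exact hgS)
          have htU : (⟨t, hSC htS⟩ : C) ∈ U := hle (show (⟨t, hSC htS⟩ : C) ∈ (SC : Subgroup C) by
            rw [hSCc]; exact htS)
          exact congrArg Subtype.val (hUc _ hgU _ htU)
        haveI := SC.2.isNilpotent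
        obtain ⟨⟨s, hsS⟩, hsn, hsU⟩ := SetLike.exists_of_lt
          (Group.normalizerCondition_of_isNilpotent _ hlt)
        have hsnU : s ∈ normalizer (U : Set C) := mem_normalizer_iff.2 fun z =>
          ⟨fun hz => (mem_normalizer_iff.1 hsn ⟨z, hUS hz⟩).1 hz, fun hz => by
            have hzS : z ∈ (SC : Subgroup C) := by
              have := mul_mem (mul_mem (inv_mem hsS) (hUS hz)) hsS
              simpa [mul_assoc] using this
            exact (mem_normalizer_iff.1 hsn ⟨z, hzS⟩).2 hz⟩
        have hsc := mem_centralizer_iff.1 (hVeq s hsS hsnU)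
        -- `s` commutes with `w`, so the centralizer of `w` in the dihedral group is too large
        apply hsU
        show s ∈ U
        by_contra hsnot
        have hd : ∀ a b c : DihedralGroup m, a * a = 1 → b * b = 1 → (∀ r, r * b = b * r) →
            a ≠ 1 → b ≠ 1 → a ≠ b → c * a = a * c → c = 1 ∨ c = a ∨ c = b ∨ c = b * a := by
          have hinj : ∀ {i j : ZMod m}, (DihedralGroup.r i : DihedralGroup m) = DihedralGroup.r j →
              i = j := fun e' => by simpa using e'
          intro a b c haa hbb hbc ha1' hb1' hab hca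
          haveI : NeZero m := ⟨by omega⟩
          cases b with
          | sr j =>
            exfalso
            have := hbc (DihedralGroup.r 1)
            simp only [DihedralGroup.r_mul_sr, DihedralGroup.sr_mul_r, DihedralGroup.sr.injEq] at this
            have h2 : ((2 : ℕ) : ZMod m) = 0 := by
              rw [Nat.cast_ofNat]
              have : (j + 1) - (j - 1) = 0 := by rw [this, sub_self]
              rw [← this]; ring
            rw [ZMod.natCast_eq_zero_iff] at h2
            have := Nat.le_of_dvd (by norm_num) h2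
            -- order four: the Sylow subgroup is the four-group
            refine hg (hV g hgS ?_)
            have hm2 : m = 2 := by omega
            subst hm2
            have hab' : ∀ p q : DihedralGroup 2, p * q = q * p := by decide
            have := e.injective (a₁ := ⟨g, hgS⟩ * ⟨t, htS⟩) (a₂ := ⟨t, htS⟩ * ⟨g, hgS⟩)
              (by rw [map_mul, map_mul, hab'])
            exact congrArg Subtype.val this
          | r k =>
            cases a with
            | r i =>
              exfalso
              rw [DihedralGroup.r_mul_r, DihedralGroup.one_def] at haa hbb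
              have hi2 := hinj haa
              have hk2 := hinj hbb
              have key : ∀ i : ZMod m, i + i = 0 → i ≠ 0 → 2 * i.val = m := by
                intro i h0 hne0
                have h1 := ZMod.val_add i i
                rw [h0, ZMod.val_zero] at h1
                have hlt' := ZMod.val_lt i
                have hpos : 0 < i.val := Nat.pos_of_ne_zero fun e' => hne0 ((ZMod.val_eq_zero i).1 e')
                obtain ⟨q, hq⟩ := Nat.dvd_of_mod_eq_zero h1.symm
                rcases q with _ | _ | q
                · omega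
                · omega
                · nlinarith
              apply hab
              rw [DihedralGroup.r.injEq]
              apply ZMod.val_injective m
              have h1 := key i hi2 fun e' => ha1' (by rw [e', DihedralGroup.one_def])
              have h2 := key k hk2 fun e' => hb1' (by rw [e', DihedralGroup.one_def])
              omega
            | sr i =>
              rw [DihedralGroup.r_mul_r, DihedralGroup.one_def] at hbb
              have hk2 := hinj hbb
              have hk0 : k ≠ 0 := fun e' => hb1' (by rw [e', DihedralGroup.one_def])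
              have two : ∀ x : ZMod m, x + x = 0 → x = 0 ∨ x = k := by
                intro x hx
                by_cases hx0 : x = 0
                · exact Or.inl hx0
                right
                have key : ∀ i : ZMod m, i + i = 0 → i ≠ 0 → 2 * i.val = m := by
                  intro i h0 hne0
                  have h1 := ZMod.val_add i i
                  rw [h0, ZMod.val_zero] at h1
                  have hlt' := ZMod.val_lt i
                  have hpos : 0 < i.val :=
                    Nat.pos_of_ne_zero fun e' => hne0 ((ZMod.val_eq_zero i).1 e')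
                  obtain ⟨q, hq⟩ := Nat.dvd_of_mod_eq_zero h1.symm
                  rcases q with _ | _ | q
                  · omega
                  · omega
                  · nlinarith
                apply ZMod.val_injective m
                have := key x hx hx0
                have := key k hk2 hk0
                omega
              cases c with
              | r x =>
                simp only [DihedralGroup.r_mul_sr, DihedralGroup.sr_mul_r,
                  DihedralGroup.sr.injEq] at hca
                rcases two x (by linear_combination -hca) with rfl | rfl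
                · exact Or.inl DihedralGroup.one_def.symm
                · exact Or.inr (Or.inr (Or.inl rfl))
              | sr x =>
                simp only [DihedralGroup.sr_mul_sr, DihedralGroup.r.injEq] at hca
                rcases two (x - i) (by linear_combination -hca) with h0 | h0
                · exact Or.inr (Or.inl (by rw [sub_eq_zero.1 h0]))
                · refine Or.inr (Or.inr (Or.inr ?_))
                  rw [DihedralGroup.r_mul_sr]
                  congr 1
                  linear_combination h0 + hk2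
        have hwS' : w ∈ (SC : Subgroup C) := hUS hwU
        have hyS' : yC ∈ (SC : Subgroup C) := hUS hyU
        have hy1' : yC ≠ 1 := fun e' => hy1 (congrArg Subtype.val e')
        rcases hd (eC ⟨w, hwS'⟩) (eC ⟨yC, hyS'⟩) (eC ⟨s, hsS⟩)
          (by rw [← map_mul]; exact (congrArg eC (Subtype.ext (hU2 w hwU))).trans (map_one eC))
          (by rw [← map_mul]; exact (congrArg eC (Subtype.ext (hU2 yC hyU))).trans (map_one eC))
          (fun r => by
            obtain ⟨r', rfl⟩ := eC.surjective r
            rw [← map_mul, ← map_mul]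
            exact congrArg eC (Subtype.ext (Subtype.ext
              (mem_centralizer_singleton_iff.1 (r' : C).2))))
          (fun e' => hw1 (congrArg Subtype.val (eC.injective (e'.trans (map_one eC).symm))))
          (fun e' => hy1' (congrArg Subtype.val (eC.injective (e'.trans (map_one eC).symm))))
          (fun e' => hwy (congrArg Subtype.val (eC.injective e')))
          (by rw [← map_mul, ← map_mul]; exact congrArg eC (Subtype.ext (hsc w hwU).symm))
          with e' | e' | e' | e'
        · have e1 : s = 1 := congrArg Subtype.val (eC.injective (e'.trans (map_one eC).symm))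
          exact hsnot (e1 ▸ one_mem U)
        · have e1 : s = w := congrArg Subtype.val (eC.injective e')
          exact hsnot (e1 ▸ hwU)
        · have e1 : s = yC := congrArg Subtype.val (eC.injective e')
          exact hsnot (e1 ▸ hyU)
        · rw [← map_mul] at e'
          have e1 : s = yC * w := congrArg Subtype.val (eC.injective e')
          exact hsnot (e1 ▸ mul_mem hyU hwU)
      obtain ⟨s, hsS, hsn, hsw⟩ := hmove
      have hc := hagree s hsn hsw
      have : n = s * (s⁻¹ * n) := by group
      rw [this]
      exact mul_mem (mem_sup_right ⟨hsS, hsn⟩) (mem_sup_left hc)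
    · refine sup_le (fun c hc => mem_normalizer_iff.2 fun z => ?_) inf_le_right
      have hcc := mem_centralizer_iff.1 hc
      constructor
      · intro hz
        rw [← hcc z hz, mul_inv_cancel_right]; exact hz
      · intro hz
        have h1 := hcc _ hz
        have : z = c * z * c⁻¹ := by
          calc z = c⁻¹ * (c * z * c⁻¹ * c) := by group
            _ = c⁻¹ * (c * (c * z * c⁻¹)) := by rw [h1]
            _ = _ := by group
        rw [this]; exact hz
  obtain ⟨Q, K, hKn, hc⟩ := hcompl
  have hKodd : Odd (Nat.card K) := by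
    rw [Nat.odd_iff, ← Nat.two_dvd_ne_zero]
    intro h2
    exact Q.not_dvd_index (hc.index_eq_card ▸ h2)
  -- odd order elements lie in the complement
  have h7K : (⟨H.emb 7, mem_centralizer_singleton_iff.2 (by
      have := hY 7
      rw [pm_y.2.2.1, mul_inv_eq_iff_eq_mul] at this
      exact this.symm)⟩ : C) ∈ K := by
    set j : C := ⟨H.emb 7, _⟩
    have hi : K.index = Nat.card (Q : Subgroup C) := hc.symm.index_eq_card
    obtain ⟨k, hk⟩ := IsPGroup.iff_card.1 Q.2
    haveI := hKn
    have h1 : (QuotientGroup.mk' K j) ^ 2 ^ k = 1 := by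
      rw [← hk, ← hi, Subgroup.index_eq_card]
      exact pow_card_eq_one'
    have h3 : (QuotientGroup.mk' K j) ^ 3 = 1 := by
      rw [← map_pow, show j ^ 3 = 1 from Subtype.ext (H.emb_cube 7), map_one]
    exact (QuotientGroup.eq_one_iff j).1 (orderOf_eq_one_iff.1 (Nat.eq_one_of_dvd_coprimes
      ((Nat.coprime_primes Nat.prime_two Nat.prime_three).2 (by norm_num) |>.pow_left k)
      (orderOf_dvd_of_pow_eq_one h1) (orderOf_dvd_of_pow_eq_one h3)))
  have hty : t * y = y * t := hcen t htS
  set tC : C := ⟨t, hSC htS⟩
  have htt : tC * tC = 1 := Subtype.ext ht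
  have hKt : ∀ x ∈ K, tC * x * tC ∈ K := fun x hx => by
    have := hKn.conj_mem x hx tC
    rwa [inv_eq_of_mul_eq_one_right htt] at this
  have hfixed : ∀ x ∈ K, tC * x * tC = x → x = 1 := by
    intro x hx hfx
    have hxt : (x : G) * t = t * x := by
      have h1 := congrArg (fun r : C => (r : G)) hfx
      change t * (x : G) * t = x at h1
      calc (x : G) * t = t * x * t * t := by rw [h1]
        _ = t * x := by rw [mul_assoc, ht, mul_one]
    obtain ⟨v, hv, i, k, hxv⟩ := h.centralizer_t hxt
    have hti : t * (t ^ i * u ^ k) = (t ^ i * u ^ k) * t :=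
      ((Commute.self_pow t i).mul_right ((show Commute t u from (h.comm 1).symm).pow_right k)).eq
    have hyr : y * (t ^ i * u ^ k) = (t ^ i * u ^ k) * y := by
      have h1 : Commute u (t ^ i * u ^ k) :=
        ((show Commute u t from h.comm 1).pow_right i).mul_right (Commute.self_pow u k)
      exact ((show Commute t (t ^ i * u ^ k) from hti).mul_left h1).eq
    have hvy : H.emb v * y = y * H.emb v := by
      have hxy : (x : G) * y = y * x := mem_centralizer_singleton_iff.1 x.2
      rw [hxv] at hxy
      have h1 : Commute (H.emb v * (t ^ i * u ^ k)) y := hxy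
      have h2 := h1.mul_left (show Commute (t ^ i * u ^ k) y from hyr.symm).inv_left
      rw [mul_inv_cancel_right] at h2
      exact h2
    have hY' := hY v
    rw [← hvy, mul_inv_cancel_right] at hY'
    have hv0 : v = 0 := by
      have key : ∀ v : Fin 27, app (mono 7 1) v = v → app (pmat 1) v = v → v = 0 := by
        decide +kernel
      exact key v (H.emb_inj hY').symm hv
    rw [hv0, H.emb_zero, one_mul] at hxv
    have hx2 : x * x = 1 := Subtype.ext (by
      show (x : G) * x = 1
      rw [hxv, show t ^ i * u ^ k * (t ^ i * u ^ k) = (t * t) ^ i * (u * u) ^ k by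
        rw [(show Commute (u ^ k) (t ^ i) from (show Commute u t from h.comm 1).pow_pow k i).mul_mul_mul_comm,
          ← (Commute.refl t).mul_pow, ← (Commute.refl u).mul_pow], ht, h.sq, one_pow, one_pow,
        one_mul])
    exact orderOf_eq_one_iff.1 (Nat.eq_one_of_dvd_coprimes (Nat.coprime_two_right.2 hKodd)
      (orderOf_dvd_natCard _ hx) (orderOf_dvd_of_pow_eq_one (by rw [pow_two, hx2])))
  have hinv := CfsgLib.ThreeLocalEight.inverts_of_fixed_trivial K tC htt hKt hfixed
  -- so the complement is the line of `7`, inverted or centralized by the Sylow subgroup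
  set j : C := ⟨H.emb 7, mem_centralizer_singleton_iff.2 (by
      have := hY 7
      rw [pm_y.2.2.1, mul_inv_eq_iff_eq_mul] at this
      exact this.symm)⟩
  have hKj : ∀ x ∈ K, (x : G) ∈ zpowers (H.emb 7) := by
    intro x hx
    have hcomm : x * j = j * x := by
      have h1 := hinv _ (mul_mem hx h7K)
      have h2 := hinv x hx
      have h3 := hinv j h7K
      have : x⁻¹ * j⁻¹ = (x * j)⁻¹ := by
        rw [← h1, ← h2, ← h3]
        calc tC * x * tC * (tC * j * tC) = tC * x * (tC * tC) * j * tC := by group
          _ = _ := by rw [htt, mul_one]; group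
      rw [mul_inv_rev] at this
      exact inv_injective (by rw [mul_inv_rev, mul_inv_rev, this])
    obtain ⟨i, k, hik⟩ := h.cent_y_seven (mem_centralizer_singleton_iff.1 x.2)
      (congrArg Subtype.val hcomm)
    have hyi : (x : G) * ((H.emb 7) ^ k)⁻¹ = y ^ i := by rw [hik, mul_inv_cancel_right]
    let r : C := x * (j ^ k)⁻¹
    have hr : r ∈ K := mul_mem hx (inv_mem (pow_mem h7K k))
    have hr2 : r * r = 1 := Subtype.ext (by
      show (x : G) * ((H.emb 7) ^ k)⁻¹ * ((x : G) * ((H.emb 7) ^ k)⁻¹) = 1
      rw [hyi, ← (Commute.refl y).mul_pow, hyy, one_pow])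
    have hr1 : r = 1 := orderOf_eq_one_iff.1 (Nat.eq_one_of_dvd_coprimes
      (Nat.coprime_two_right.2 hKodd) (orderOf_dvd_natCard _ hr)
      (orderOf_dvd_of_pow_eq_one (by rw [pow_two, hr2])))
    rw [show x = j ^ k from mul_inv_eq_one.1 hr1]
    exact pow_mem (mem_zpowers _) k
  -- every element of the Sylow subgroup lies in the four-group
  have hgC : ∀ s ∈ (S : Subgroup G), s * H.emb 7 * s⁻¹ ∈ zpowers (H.emb 7) := fun s hs =>
    hKj _ (hKn.conj_mem _ h7K ⟨s, hSC hs⟩)
  apply hg
  refine hV g hgS ?_
  have h7ne : H.emb 7 ≠ 1 := fun e' => absurd (H.emb_inj (e'.trans H.emb_zero.symm)) (by decide)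
  have key : ∀ s ∈ (S : Subgroup G), s * H.emb 7 = H.emb 7 * s → s = 1 ∨ s = y := by
    intro s hs hsc
    obtain ⟨i, k, hik⟩ := h.cent_y_seven (hcen s hs) hsc
    have hk' : H.emb 7 ^ k ∈ (S : Subgroup G) := by
      have := mul_mem (inv_mem (pow_mem hyS i)) hs
      rwa [hik, inv_mul_cancel_left] at this
    obtain ⟨n, hn⟩ := S.2 ⟨_, hk'⟩
    have h1 : H.emb 7 ^ k = 1 := orderOf_eq_one_iff.1 (Nat.eq_one_of_dvd_coprimes
      ((Nat.coprime_primes Nat.prime_two Nat.prime_three).2 (by norm_num) |>.pow_left n)
      (orderOf_dvd_of_pow_eq_one (congrArg Subtype.val hn : (H.emb 7 ^ k) ^ 2 ^ n = 1))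
      (orderOf_dvd_of_pow_eq_one (by rw [← pow_mul, mul_comm, pow_mul, H.emb_cube, one_pow])))
    rw [hik, h1, mul_one]
    rcases Nat.even_or_odd i with ⟨q, rfl⟩ | ⟨q, rfl⟩
    · left; rw [← two_mul, pow_mul, pow_two, hyy, one_pow]
    · right; rw [pow_succ, pow_mul, pow_two, hyy, one_pow, one_mul]
  have ht7 : t * H.emb 7 * t⁻¹ = (H.emb 7)⁻¹ := by
    rw [H.induces_S 1, show app (pmat 1) 7 = nv 7 by decide +kernel, H.emb_nv]
  obtain ⟨i, hi⟩ := hgC g hgS
  have hi' : g * H.emb 7 * g⁻¹ = H.emb 7 ∨ g * H.emb 7 * g⁻¹ = (H.emb 7)⁻¹ := by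
    have ho : orderOf (H.emb 7) = 3 := orderOf_eq_prime (H.emb_cube 7) h7ne
    have hi0 : H.emb 7 ^ i = g * H.emb 7 * g⁻¹ := hi
    rw [← hi0, ← zpow_mod_orderOf, ho]
    have h0 := Int.emod_nonneg i (show (3 : ℤ) ≠ 0 by norm_num)
    have h3 := Int.emod_lt_of_pos i (show (0 : ℤ) < 3 by norm_num)
    rcases (show i % 3 = 0 ∨ i % 3 = 1 ∨ i % 3 = 2 by omega) with e' | e' | e'
    · exfalso
      rw [← zpow_mod_orderOf, ho] at hi0
      rw [show ((3 : ℕ) : ℤ) = 3 from rfl, e', zpow_zero] at hi0
      exact h7ne (conj_eq_one_iff.1 hi0.symm)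
    · left; rw [show ((3 : ℕ) : ℤ) = 3 from rfl, e', zpow_one]
    · right
      rw [show ((3 : ℕ) : ℤ) = 3 from rfl, e', zpow_two]
      exact eq_inv_of_mul_eq_one_right (by rw [← mul_assoc, ← pow_two, ← pow_succ]; exact H.emb_cube 7)
  rcases hi' with h1 | h1
  · rcases key g hgS (mul_inv_eq_iff_eq_mul.1 h1) with e' | e' <;> rw [e']
    · simp
    · exact hty.symm
  · rcases key (t * g) (mul_mem htS hgS) (by
      apply mul_inv_eq_iff_eq_mul.1
      calc t * g * H.emb 7 * (t * g)⁻¹ = t * (g * H.emb 7 * g⁻¹) * t⁻¹ := by group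
        _ = (t * H.emb 7 * t⁻¹)⁻¹ := by rw [h1]; group
        _ = _ := by rw [ht7, inv_inv]) with e' | e'
    · rw [← inv_eq_of_mul_eq_one_right e', inv_eq_of_mul_eq_one_right ht]
    · rw [show g = u from mul_left_cancel e']; exact h.comm 1

/-- The symmetric group of degree three with the inversion as automizer gives normality. -/
theorem casePM (hs : H.Signs [0, 7]) : H.J.Normal := by
  classical
  haveI : Fact (Nat.Prime 2) := ⟨Nat.prime_two⟩
  obtain ⟨u, h⟩ := H.exists_PM hs
  obtain ⟨ht, ht1, hu1, hy1, hyy, hY⟩ := h.basic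
  set t := H.S 1
  have hut : u * t = t * u := h.comm 1
  let V : Subgroup G :=
    { carrier := {1, t, u, t * u}
      mul_mem' := by
        have e1 : t * (t * u) = u := by rw [← mul_assoc, ht, one_mul]
        have e2 : t * u * t = u := by rw [mul_assoc, hut, ← mul_assoc, ht, one_mul]
        have e3 : u * (t * u) = t := by rw [← mul_assoc, hut, mul_assoc, h.sq, mul_one]
        have e4 : t * u * u = t := by rw [mul_assoc, h.sq, mul_one]
        rintro a b (rfl | rfl | rfl | rfl) (rfl | rfl | rfl | rfl) <;>
          simp [ht, h.sq, hut, e1, e2, e3, e4, hyy]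
      one_mem' := Or.inl rfl
      inv_mem' := by
        rintro a (rfl | rfl | rfl | rfl)
        · simp
        · exact Or.inr (Or.inl (inv_eq_of_mul_eq_one_right ht))
        · exact Or.inr (Or.inr (Or.inl (inv_eq_of_mul_eq_one_right h.sq)))
        · exact Or.inr (Or.inr (Or.inr (inv_eq_of_mul_eq_one_right hyy))) }
  have hdist : t ≠ u ∧ t ≠ t * u ∧ u ≠ t * u := by
    refine ⟨fun e => hy1 ?_, fun e => hu1 ?_, fun e => ht1 ?_⟩
    · rw [← e, ht]
    · exact mul_left_cancel (e.symm.trans (mul_one t).symm)
    · exact mul_right_cancel (e.symm.trans (one_mul u).symm)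
  have hVp : IsPGroup 2 V := fun w => ⟨1, Subtype.ext (by
    obtain ⟨w, e | e | e | e⟩ := w <;> show w ^ (2 ^ 1) = 1 <;> rw [e, pow_one, pow_two]
    · exact one_mul 1
    · exact ht
    · exact h.sq
    · exact hyy)⟩
  obtain ⟨S, hS⟩ := hVp.exists_le_sylow
  have htS : t ∈ (S : Subgroup G) := hS (Or.inr (Or.inl rfl))
  have huS : u ∈ (S : Subgroup G) := hS (Or.inr (Or.inr (Or.inl rfl)))
  have hyS : t * u ∈ (S : Subgroup G) := hS (Or.inr (Or.inr (Or.inr rfl)))
  have hVS : ∀ s ∈ (S : Subgroup G), s * t = t * s → s ∈ V := by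
    intro s hs hst
    obtain ⟨v, -, i, k, hsv⟩ := h.centralizer_t hst
    have hr : t ^ i * u ^ k ∈ V :=
      mul_mem (pow_mem (Or.inr (Or.inl rfl)) i) (pow_mem (Or.inr (Or.inr (Or.inl rfl))) k)
    have hvS : H.emb v ∈ (S : Subgroup G) := by
      have := mul_mem hs (inv_mem (hS hr))
      rwa [hsv, mul_inv_cancel_right] at this
    obtain ⟨n, hn⟩ := S.2 ⟨_, hvS⟩
    have h1 : H.emb v = 1 := orderOf_eq_one_iff.1 (Nat.eq_one_of_dvd_coprimes
      ((Nat.coprime_primes Nat.prime_two Nat.prime_three).2 (by norm_num) |>.pow_left n)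
      (orderOf_dvd_of_pow_eq_one (congrArg Subtype.val hn : H.emb v ^ 2 ^ n = 1))
      (orderOf_dvd_of_pow_eq_one (H.emb_cube v)))
    rw [hsv, h1, one_mul]; exact hr
  have hto : orderOf t = 2 := orderOf_eq_prime (by rw [pow_two]; exact ht) ht1
  by_cases hSV : (S : Subgroup G) ≤ V
  · -- the four-group is a Sylow subgroup
    have hSeq : (S : Subgroup G) = V := le_antisymm hSV hS
    have hcard4 : Nat.card V = 4 := by
      have : Nat.card V = ({1, t, u, t * u} : Finset G).card := by
        rw [← Nat.card_eq_finsetCard]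
        exact Nat.card_congr (Equiv.subtypeEquivRight fun w => by
          simp only [Finset.mem_insert, Finset.mem_singleton]
          exact Iff.rfl)
      rw [this, Finset.card_insert_of_notMem (by
          simp [Ne.symm ht1, Ne.symm hu1, Ne.symm hy1]),
        Finset.card_insert_of_notMem (by simp [hdist.1, hdist.2.1]),
        Finset.card_pair hdist.2.2]
    let M : Subgroup G := zpowers (t * u)
    have hMV : M ≤ (S : Subgroup G) := zpowers_le.2 hyS
    have hM2 : M.relIndex (S : Subgroup G) = 2 := by
      have h1 := (M.subgroupOf (S : Subgroup G)).card_mul_index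
      rw [Nat.card_congr (subgroupOfEquivOfLe hMV).toEquiv, Nat.card_zpowers,
        orderOf_eq_prime (by rw [pow_two]; exact hyy) hy1, hSeq, hcard4] at h1
      show (M.subgroupOf (S : Subgroup G)).index = 2
      rw [hSeq]
      omega
    have hmemM : ∀ w ∈ M, w = 1 ∨ w = t * u := by
      rintro _ ⟨i, rfl⟩
      rcases Int.even_or_odd i with ⟨q, rfl⟩ | ⟨q, rfl⟩
      · left; show (t * u) ^ (q + q) = 1; rw [← two_mul, zpow_mul, zpow_two, hyy, one_zpow]
      · right; show (t * u) ^ (2 * q + 1) = t * u
        rw [zpow_add, zpow_mul, zpow_two, hyy, one_zpow, one_mul, zpow_one]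
    rcases Cfsg.Agent.S0111.result S M hMV hM2 t hto htS (fun htM => by
        rcases hmemM t htM with e | e
        · exact ht1 e
        · exact hdist.2.1 e) with ⟨G0, -, hG0, htG0⟩ | ⟨g, hg⟩
    · by_cases hu0 : u ∈ G0
      · refine h.normal_of_isolated hG0 S (Or.inl rfl) hu0 huS fun s hs hs0 _ => ?_
        rw [hSeq] at hs
        rcases hs with rfl | rfl | rfl | rfl
        · exact Or.inl rfl
        · exact absurd hs0 htG0
        · exact Or.inr rfl
        · exact absurd (by
            have := mul_mem hs0 (inv_mem hu0)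
            rwa [mul_inv_cancel_right] at this) htG0
      · refine h.normal_of_isolated hG0 S (Or.inr rfl)
          ((mul_mem_iff_of_index_two hG0).2 (iff_of_false htG0 hu0)) hyS fun s hs hs0 _ => ?_
        rw [hSeq] at hs
        rcases hs with rfl | rfl | rfl | rfl
        · exact Or.inl rfl
        · exact absurd hs0 htG0
        · exact absurd hs0 hu0
        · exact Or.inr rfl
    · rcases hmemM _ hg with e | e
      · exact absurd (conj_eq_one_iff.1 e) ht1
      · exact absurd e (h.not_conj_t_y g)
  · -- a larger Sylow subgroup: its centre is generated by `y`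
    obtain ⟨g, hgS, hgV⟩ := SetLike.not_le_iff_exists.1 hSV
    haveI : Nontrivial (S : Subgroup G) := ⟨⟨⟨t, htS⟩, 1, fun e => ht1 (congrArg Subtype.val e)⟩⟩
    haveI := S.2.center_nontrivial
    obtain ⟨⟨z, hz⟩, hz1⟩ := exists_ne (1 : Subgroup.center (S : Subgroup G))
    have hzc : ∀ w ∈ (S : Subgroup G), w * (z : G) = z * w := fun w hw =>
      congrArg Subtype.val (Subgroup.mem_center_iff.1 hz ⟨w, hw⟩)
    have hzV := hVS _ z.2 (hzc t htS).symm
    have hzy : (z : G) = t * u := by
      rcases hzV with e | e | e | e
      · exact absurd (Subtype.ext (Subtype.ext e)) hz1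
      · exact absurd (hVS g hgS (e ▸ hzc g hgS)) hgV
      · exfalso
        -- otherwise a normalizing element exchanges `t` and `y`
        have hlt : V.subgroupOf (S : Subgroup G) < ⊤ :=
          lt_top_iff_ne_top.2 fun e' => hSV (subgroupOf_eq_top.1 e')
        haveI := S.2.isNilpotent
        obtain ⟨⟨n, hnS⟩, hnn, hnV⟩ := SetLike.exists_of_lt
          (Group.normalizerCondition_of_isNilpotent _ hlt)
        have himg : n * t * n⁻¹ ∈ V := (mem_normalizer_iff.1 hnn ⟨t, htS⟩).1 (Or.inr (Or.inl rfl))
        have hnu : n * u * n⁻¹ = u := by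
          rw [← e]
          rw [hzc n hnS, mul_inv_cancel_right]
        rcases himg with e' | e' | e' | e'
        · exact ht1 (conj_eq_one_iff.1 e')
        · exact hnV (hVS n hnS (mul_inv_eq_iff_eq_mul.1 e'))
        · exact hdist.1 (mul_left_cancel (mul_right_cancel (e'.trans hnu.symm)))
        · exact h.not_conj_t_y n e'
      · exact e
    have hcen : ∀ s ∈ (S : Subgroup G), s * (t * u) = t * u * s := fun s hs => hzy ▸ hzc s hs
    have hcardC : Nat.card (Subgroup.centralizer ({(⟨t, htS⟩ : (S : Subgroup G))} :
        Set (S : Subgroup G))) = 4 := by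
      have hiff : ∀ w : (S : Subgroup G), w ∈ Subgroup.centralizer ({(⟨t, htS⟩ :
          (S : Subgroup G))} : Set (S : Subgroup G)) ↔ (w : G) ∈ V := fun w => by
        rw [mem_centralizer_singleton_iff]
        refine ⟨fun hw => hVS w w.2 (congrArg Subtype.val hw), fun hw => Subtype.ext ?_⟩
        show (w : G) * t = t * w
        rcases hw with e | e | e | e <;> rw [e]
        · simp
        · exact hut
        · rw [mul_assoc, hut]
      have he : Subgroup.centralizer ({(⟨t, htS⟩ : (S : Subgroup G))} : Set (S : Subgroup G)) =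
          V.subgroupOf (S : Subgroup G) := by
        ext w; rw [hiff, mem_subgroupOf]
      rw [he, Nat.card_congr (subgroupOfEquivOfLe hS).toEquiv]
      have : Nat.card V = ({1, t, u, t * u} : Finset G).card := by
        rw [← Nat.card_eq_finsetCard]
        exact Nat.card_congr (Equiv.subtypeEquivRight fun w => by
          simp only [Finset.mem_insert, Finset.mem_singleton]
          exact Iff.rfl)
      rw [this, Finset.card_insert_of_notMem (by
          simp [Ne.symm ht1, Ne.symm hu1, Ne.symm hy1]),
        Finset.card_insert_of_notMem (by simp [hdist.1, hdist.2.1]),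
        Finset.card_pair hdist.2.2]
    rcases Cfsg.Agent.S3224.result S.2 (⟨t, htS⟩ : (S : Subgroup G))
      (by rw [Subgroup.orderOf_mk]; exact hto) hcardC with ⟨m, ⟨e⟩⟩ | hqd | h4
    · exact (h.not_dihedral S hyS htS hcen hVS hgS hgV e).elim
    · obtain ⟨R, hR2, hRc, hR8, hRconj⟩ := semidihedral_data hqd
      haveI := hRc
      -- the only involution of the cyclic subgroup is central
      have hRinv : ∀ w : (S : Subgroup G), w ∈ R → w * w = 1 → w = 1 ∨ (w : G) = t * u := by
        intro w hw hw2
        by_cases hw1 : w = 1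
        · exact Or.inl hw1
        right
        haveI := normal_of_index_eq_two hR2
        have huniq : ∀ a b : R, a * a = 1 → b * b = 1 → a ≠ 1 → b ≠ 1 → a = b := by
          intro a b ha hb ha1 hb1
          have ha2 : orderOf a = 2 := orderOf_eq_prime (by rw [pow_two]; exact ha) ha1
          have hb2 : orderOf b = 2 := orderOf_eq_prime (by rw [pow_two]; exact hb) hb1
          by_contra hab
          haveI := Fintype.ofFinite R
          have h3 : ({1, a, b} : Finset R).card ≤
              (Finset.univ.filter fun c : R => c ^ 2 = 1).card := by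
            refine Finset.card_le_card fun c hc => ?_
            simp only [Finset.mem_insert, Finset.mem_singleton] at hc
            rcases hc with rfl | rfl | rfl <;> simp [pow_two, ha, hb]
          have h4 := IsCyclic.card_pow_eq_one_le (α := R) (n := 2) (by norm_num)
          rw [Finset.card_insert_of_notMem (by simp [Ne.symm ha1, Ne.symm hb1]),
            Finset.card_pair hab] at h3
          convert Nat.lt_irrefl _ (lt_of_lt_of_le (show 2 < 3 by norm_num) (h3.trans ?_))
          convert h4
        have hwc : ∀ s : (S : Subgroup G), s * w * s⁻¹ = w := fun s => by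
          have := huniq ⟨s * w * s⁻¹, (inferInstance : R.Normal).conj_mem w hw s⟩ ⟨w, hw⟩
            (Subtype.ext (by
              show s * w * s⁻¹ * (s * w * s⁻¹) = 1
              rw [show s * w * s⁻¹ * (s * w * s⁻¹) = s * (w * w) * s⁻¹ by group, hw2, mul_one,
                mul_inv_cancel]))
            (Subtype.ext hw2) (fun e' => hw1 (conj_eq_one_iff.1 (congrArg Subtype.val e')))
            (fun e' => hw1 (congrArg Subtype.val e'))
          exact congrArg Subtype.val this
        have hwV : (w : G) ∈ V := hVS _ w.2 (congrArg Subtype.val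
          (mul_inv_eq_iff_eq_mul.1 (hwc ⟨t, htS⟩))).symm
        have hwg : (⟨g, hgS⟩ : (S : Subgroup G)) * w = w * ⟨g, hgS⟩ :=
          mul_inv_eq_iff_eq_mul.1 (hwc _)
        have hwg' : g * (w : G) = w * g := congrArg Subtype.val hwg
        rcases hwV with e | e | e | e
        · exact absurd (Subtype.ext e) hw1
        · exact absurd (hVS g hgS (by rw [← e]; exact hwg')) hgV
        · refine absurd (hVS g hgS ?_) hgV
          rw [e] at hwg'
          have h3 := (show Commute g (t * u) from hcen g hgS).mul_right (show Commute g u from hwg')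
          rwa [mul_assoc, h.sq, mul_one] at h3
        · exact e
      have htR : (⟨t, htS⟩ : (S : Subgroup G)) ∉ R := fun htR => by
        rcases hRinv _ htR (Subtype.ext ht) with e | e
        · exact ht1 (congrArg Subtype.val e)
        · exact hdist.2.1 e
      rcases Cfsg.Agent.S0111.result S (R.map (S : Subgroup G).subtype) (map_subtype_le _)
        (by
          rw [relIndex, show (R.map (S : Subgroup G).subtype).subgroupOf (S : Subgroup G) = R from
            comap_map_eq_self_of_injective (S : Subgroup G).subtype_injective R, hR2])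
        t hto htS (by rintro ⟨w, hw, hwt⟩; exact htR ((Subtype.ext hwt : w = ⟨t, htS⟩) ▸ hw)) with
        ⟨G0, hG0n, hG0, htG0⟩ | ⟨c, w, hw, hwc⟩
      · haveI := hG0n
        have hnc : ∀ s : (S : Subgroup G), s * s = 1 → s ∉ R → (s : G) ∉ G0 := by
          intro s hs hsR hs0
          obtain ⟨c, hc⟩ := isConj_iff.1 (hRconj s ⟨t, htS⟩ hs (Subtype.ext ht) hsR htR)
          apply htG0
          rw [show t = (c : G) * s * (c : G)⁻¹ from (congrArg Subtype.val hc).symm]
          exact hG0n.conj_mem _ hs0 _
        have huR : (⟨u, huS⟩ : (S : Subgroup G)) ∉ R := fun huR => by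
          rcases hRinv _ huR (Subtype.ext h.sq) with e | e
          · exact hu1 (congrArg Subtype.val e)
          · exact hdist.2.2 e
        refine h.normal_of_isolated hG0 S (Or.inr rfl)
          ((mul_mem_iff_of_index_two hG0).2 (iff_of_false htG0 (hnc _ (Subtype.ext h.sq) huR)))
          hyS fun s hs hs0 hs2 => ?_
        by_cases hsR : (⟨s, hs⟩ : (S : Subgroup G)) ∈ R
        · rcases hRinv _ hsR (Subtype.ext hs2) with e | e
          · exact Or.inl (congrArg Subtype.val e)
          · exact Or.inr e
        · exact absurd hs0 (hnc ⟨s, hs⟩ (Subtype.ext hs2) hsR)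
      · rcases hRinv w hw (Subtype.ext (by
          show (w : G) * w = 1
          rw [show (w : G) = c * t * c⁻¹ from hwc, show c * t * c⁻¹ * (c * t * c⁻¹) =
            c * (t * t) * c⁻¹ by group, ht, mul_one, mul_inv_cancel])) with e | e
        · exfalso
          rw [e] at hwc
          exact ht1 (conj_eq_one_iff.1 hwc.symm)
        · exact absurd (hwc.symm.trans e) (h.not_conj_t_y c)
    · exfalso
      apply hSV
      have hVc : Nat.card V = 4 := by
        rw [← hcardC]
        refine Nat.card_congr ((subgroupOfEquivOfLe hS).toEquiv.symm.trans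
          (Equiv.subtypeEquivRight fun w => ?_))
        rw [mem_subgroupOf, mem_centralizer_singleton_iff]
        refine ⟨fun hw => Subtype.ext ?_, fun hw => hVS w w.2 (congrArg Subtype.val hw)⟩
        show (w : G) * t = t * w
        rcases hw with e | e | e | e <;> rw [e]
        · simp
        · exact hut
        · rw [mul_assoc, hut]
      exact (Subgroup.eq_of_le_of_card_ge hS (by rw [hVc, h4])).ge

end Hyp

end CfsgLib.ThreeSymNine
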