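import Cfsg.Agent.ThreeSymNine.CaseI
import Cfsg.Agent.ThreeSymNine.CaseA
import Cfsg.Agent.ThreeSymNine.CasePM

/-!
# From a centralizer isomorphic to that of three three-cycles to the standing hypotheses
-/

set_option autoImplicit false
set_option maxRecDepth 100000
set_option synthInstance.maxSize 100000
set_option linter.style.haveILetI false

namespace CfsgLib.ThreeSymNine

open CfsgLib.AltNine Equiv

attribute [local instance 10000] List.decidableBAll List.decidableBEx

universe u

theorem setup_tables : (∀ i, sgn 0 i = i) ∧ pm 0 0 = 0 ∧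
    (∀ i : Fin 9, bl 0 i = i ∧ shift 0 i = i) ∧ (∀ a, pa a 0 = 0) ∧ nv 26 = (13 : Fin 27) ∧
    ∀ v, av (nv v) v = 0 := by decide +kernel

theorem mper_mdl (v : Fin 27) (a : Fin 6) : mper (v, 0, a) = mdl v a := by
  refine Equiv.ext fun i => ?_
  rw [mper_apply, setup_tables.1]
  show _ = trn v (bl a i)
  rw [trn_table]

theorem mdl_inj {v w : Fin 27} {a b : Fin 6} (h : mdl v a = mdl w b) : v = w ∧ a = b := by
  have := mper_injective ((mper_mdl v a).trans (h.trans (mper_mdl w b).symm))
  exact ⟨congrArg Prod.fst this, congrArg (fun x => x.2.2) this⟩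

theorem trn_zero : trn 0 = 1 := Equiv.ext fun i => by
  rw [trn_table, (setup_tables.2.2.1 i).2]; rfl

theorem blk_zero : blk 0 = 1 := Equiv.ext fun i => (setup_tables.2.2.1 i).1

theorem blk_mul' (a b : Fin 6) : blk a * blk b = blk (pm a b) :=
  Equiv.ext fun i => blk_mul a b i

theorem mdl_mul (v w : Fin 27) (a b : Fin 6) :
    mdl v a * mdl w b = mdl (av v (pa a w)) (pm a b) := by
  show trn v * blk a * (trn w * blk b) = _
  rw [mdl, trn_add, ← blk_mul', ← blk_conj]
  group

theorem mdl_zero : mdl 0 0 = 1 := by rw [mdl, trn_zero, blk_zero, one_mul]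

theorem mdl_eq_one {v : Fin 27} {a : Fin 6} (h : mdl v a = 1) : v = 0 ∧ a = 0 :=
  mdl_inj (h.trans mdl_zero.symm)

theorem mdl_trn (v : Fin 27) : mdl v 0 = trn v := by rw [mdl, blk_zero, mul_one]

theorem mdl_blk (a : Fin 6) : mdl 0 a = blk a := by rw [mdl, trn_zero, one_mul]

theorem mdl_central (v : Fin 27) (a : Fin 6) : mdl v a * trn 13 = trn 13 * mdl v a := by
  rw [← mdl_trn, mdl_mul, mdl_mul, (pa_table.2 a).1, pa_table.1, (pa_table.2 a).2.2.1,
    (pa_table.2 a).2.1, (Hyp.av_table v 13 v).1]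

/-- An elementary abelian group of order 27 in the centralizer consists of translations. -/
theorem abelian_trn (A : Subgroup (Perm (Fin 9))) (hA : ∀ g ∈ A, g * trn 13 = trn 13 * g)
    (hcomm : ∀ a ∈ A, ∀ b ∈ A, a * b = b * a) (hcube : ∀ a ∈ A, a ^ 3 = 1)
    (hcard : Nat.card A = 27) {g : Perm (Fin 9)} : g ∈ A ↔ ∃ v, trn v = g := by
  classical
  have hle : ∀ g ∈ A, ∃ v, trn v = g := by
    intro g hg
    obtain ⟨v, a, rfl⟩ := exists_mdl (hA g hg)
    by_cases ha : a = 0
    · exact ⟨v, by rw [ha, mdl_trn]⟩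
    exfalso
    have h3 := hcube _ hg
    rw [pow_succ', pow_two, mdl_mul, mdl_mul] at h3
    have hc3 : pm a (pm a a) = 0 := (mdl_eq_one h3).2
    choose co hco using fun b : A => exists_mdl (hA b b.2)
    choose ca hca using hco
    have hmem : ∀ b : A, (co b, ca b) ∈ Finset.univ.filter fun p : Fin 27 × Fin 6 =>
        av v (pa a p.1) = av p.1 (pa p.2 v) ∧ pm a p.2 = pm p.2 a := fun b => by
      have := hcomm _ hg _ b.2
      rw [hca b, mdl_mul, mdl_mul] at this
      exact Finset.mem_filter.2 ⟨Finset.mem_univ _, mdl_inj this⟩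
    have hinj : Function.Injective fun b : A => (⟨_, hmem b⟩ : {p // p ∈ Finset.univ.filter
        fun p : Fin 27 × Fin 6 => av v (pa a p.1) = av p.1 (pa p.2 v) ∧ pm a p.2 = pm p.2 a}) := by
      intro b c e
      have e' := congrArg Subtype.val e
      simp only [Prod.mk.injEq] at e'
      exact Subtype.ext (by rw [hca b, hca c, e'.1, e'.2])
    have := Nat.card_le_card_of_injective _ hinj
    rw [hcard, Nat.card_eq_fintype_card, Fintype.card_coe] at this
    exact absurd (abelian_count v a hc3 ha) (by omega)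
  refine ⟨hle g, ?_⟩
  rintro ⟨v, rfl⟩
  choose f hf using fun b : A => hle b b.2
  have hfi : Function.Injective f := fun b c e => Subtype.ext (by rw [← hf b, ← hf c, e])
  have hfb : Function.Bijective f := hfi.bijective_of_nat_card_le (by
    rw [hcard, Nat.card_eq_fintype_card, Fintype.card_fin])
  obtain ⟨b, hb⟩ := hfb.2 v
  rw [← hb, hf b]; exact b.2

/-- The translations and block permutations inside the centralizer. -/
def inC (v : Fin 27) (a : Fin 6) : Subgroup.centralizer ({trn 13} : Set (Perm (Fin 9))) :=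
  ⟨mdl v a, Subgroup.mem_centralizer_singleton_iff.2 (mdl_central v a)⟩

theorem inC_mul (v w : Fin 27) (a b : Fin 6) :
    inC v a * inC w b = inC (av v (pa a w)) (pm a b) := Subtype.ext (mdl_mul v w a b)

theorem inC_add (u v : Fin 27) : inC (av u v) 0 = inC u 0 * inC v 0 := by
  rw [inC_mul, pa_table.1, setup_tables.2.1]

theorem inC_act (a : Fin 6) (v : Fin 27) : inC 0 a * inC v 0 * (inC 0 a)⁻¹ = inC (pa a v) 0 := by
  refine Subtype.ext ?_
  show mdl 0 a * mdl v 0 * (mdl 0 a)⁻¹ = mdl (pa a v) 0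
  rw [mdl_blk, mdl_trn, mdl_trn, blk_conj]

variable {G : Type u} [Group G] [Finite G]

/-- The standing hypotheses hold. -/
theorem exists_hyp (x : G) (hx : orderOf x = 3)
    (eC : Subgroup.centralizer ({x} : Set G) ≃*
      Subgroup.centralizer ({trn 13} : Set (Perm (Fin 9))))
    (J : Subgroup G) (hJC : J ≤ Subgroup.centralizer ({x} : Set G)) (hJcomm : IsMulCommutative J)
    (hJexp : ∀ j ∈ J, j ^ 3 = 1) (hJcard : Nat.card J = 27)
    (hJsig : ∀ K : Subgroup G, (Nat.card K).Coprime 3 →
      (∀ j ∈ J, K.map (MulAut.conj j).toMonoidHom = K) → K = ⊥) :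
    ∃ H : Hyp G, H.J = J := by
  classical
  set C := Subgroup.centralizer ({x} : Set G)
  let em : Fin 27 → G := fun v => (eC.symm (inC v 0) : G)
  -- the image of the subgroup
  set A := (J.subgroupOf C).map ((Subgroup.subtype _).comp eC.toMonoidHom) with hA
  have hAinj : Function.Injective ((Subgroup.subtype _).comp eC.toMonoidHom) :=
    (Subgroup.subtype_injective _).comp eC.injective
  have hAmem : ∀ g, g ∈ A ↔ ∃ v, trn v = g := fun g => by
    refine abelian_trn A ?_ ?_ ?_ ?_
    · rintro _ ⟨c, -, rfl⟩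
      exact Subgroup.mem_centralizer_singleton_iff.1 (eC c).2
    · rintro _ ⟨a, ha, rfl⟩ _ ⟨b, hb, rfl⟩
      rw [← map_mul, ← map_mul]
      refine congrArg _ (Subtype.ext ?_)
      exact setLike_mul_comm (S := Subgroup G) (Subgroup.mem_subgroupOf.1 ha)
        (Subgroup.mem_subgroupOf.1 hb)
    · rintro _ ⟨a, ha, rfl⟩
      rw [← map_pow, show a ^ 3 = 1 from Subtype.ext (hJexp _ (Subgroup.mem_subgroupOf.1 ha)), map_one]
    · rw [hA, ← Nat.card_congr ((J.subgroupOf C).equivMapOfInjective _ hAinj).toEquiv,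
        Nat.card_congr (Subgroup.subgroupOfEquivOfLe hJC).toEquiv, hJcard]
  have hJr : ∀ j, j ∈ J ↔ ∃ v, em v = j := by
    intro j
    constructor
    · intro hj
      obtain ⟨v, hv⟩ := (hAmem _).1 ⟨⟨j, hJC hj⟩, hj, rfl⟩
      refine ⟨v, ?_⟩
      show (eC.symm (inC v 0) : G) = j
      rw [show inC v 0 = eC ⟨j, hJC hj⟩ from Subtype.ext ((mdl_trn v).trans hv),
        MulEquiv.symm_apply_apply]
    · rintro ⟨v, rfl⟩
      obtain ⟨c, hc, hcv⟩ := (hAmem _).2 ⟨v, rfl⟩
      show (eC.symm (inC v 0) : G) ∈ J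
      rw [show inC v 0 = eC c from Subtype.ext ((mdl_trn v).trans hcv.symm),
        MulEquiv.symm_apply_apply]
      exact hc
  -- the distinguished element
  have hxx : (⟨x, Subgroup.mem_centralizer_singleton_iff.2 rfl⟩ : C) ^ 3 = 1 :=
    Subtype.ext (by rw [SubgroupClass.coe_pow]; exact hx ▸ pow_orderOf_eq_one x)
  obtain ⟨v0, a0, hv0⟩ := exists_mdl (Subgroup.mem_centralizer_singleton_iff.1
    (eC ⟨x, Subgroup.mem_centralizer_singleton_iff.2 rfl⟩).2)
  have hx0 : eC ⟨x, Subgroup.mem_centralizer_singleton_iff.2 rfl⟩ = inC v0 a0 := Subtype.ext hv0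
  have hxc : ∀ v a, inC v0 a0 * inC v a = inC v a * inC v0 a0 := fun v a => by
    rw [← hx0, ← eC.apply_symm_apply (inC v a), ← map_mul, ← map_mul]
    exact congrArg eC (Subtype.ext
      (Subgroup.mem_centralizer_singleton_iff.1 (eC.symm (inC v a)).2).symm)
  obtain ⟨ha0, hv⟩ := central_table v0 a0
    (fun i => by
      have := Perm.ext_iff.1 (congrArg Subtype.val (hxc 0 4)) i
      simpa [inC, mdl, trn_table, blk, (setup_tables.2.2.1 _).1, (setup_tables.2.2.1 _).2] using this)
    (fun i => by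
      have := Perm.ext_iff.1 (congrArg Subtype.val (hxc 1 0)) i
      simpa [inC, mdl, trn_table, blk, (setup_tables.2.2.1 _).1] using this)
  have hv13 : v0 = 13 ∨ v0 = 26 := by
    rcases hv with h | h
    · exfalso
      have h1 : (⟨x, Subgroup.mem_centralizer_singleton_iff.2 rfl⟩ : C) = 1 := eC.injective (by
        rw [hx0, map_one]; exact Subtype.ext (by rw [h, ha0]; exact mdl_zero))
      rw [show x = 1 from congrArg Subtype.val h1, orderOf_one] at hx
      norm_num at hx
    · exact h
  have hem : em v0 = x := by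
    show (eC.symm (inC v0 0) : G) = x
    rw [show inC v0 0 = eC ⟨x, Subgroup.mem_centralizer_singleton_iff.2 rfl⟩ by rw [hx0, ha0],
      MulEquiv.symm_apply_apply]
  have hem13 : ∀ g, g * em 13 = em 13 * g → g ∈ C := by
    intro g hg
    refine Subgroup.mem_centralizer_singleton_iff.2 ?_
    rcases hv13 with h | h
    · rwa [← hem, h]
    · have e : em 26 = (em 13)⁻¹ := by
        refine eq_inv_of_mul_eq_one_right ?_
        show ((eC.symm (inC 13 0) : C) : G) * (eC.symm (inC 26 0) : C) = 1
        rw [← Subgroup.coe_mul, ← map_mul, ← inC_add,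
          show inC (av 13 26) 0 = 1 from Subtype.ext (by
            show mdl (av 13 26) 0 = 1
            rw [show av 13 26 = 0 by decide +kernel]; exact mdl_zero), map_one]
        rfl
      rw [← hem, h, e]
      exact ((show Commute g (em 13) from hg).inv_right).eq
  refine ⟨{
    emb := em
    emb_add := fun u v => by
      show (eC.symm (inC (av u v) 0) : G) = (eC.symm (inC u 0) : G) * eC.symm (inC v 0)
      rw [inC_add, map_mul]; rfl
    S := fun a => (eC.symm (inC 0 a) : G)
    S_mul := fun a b => by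
      show (eC.symm (inC 0 a) : G) * eC.symm (inC 0 b) = eC.symm (inC 0 (pm a b))
      rw [← Subgroup.coe_mul, ← map_mul, inC_mul, setup_tables.2.2.2.1, Hyp.av_table 0 0 0 |>.2.2.2.2.1]
    S_act := fun a v => by
      show (eC.symm (inC 0 a) : G) * eC.symm (inC v 0) * (eC.symm (inC 0 a) : G)⁻¹ =
        eC.symm (inC (pa a v) 0)
      rw [← inC_act, map_mul, map_mul, map_inv]; rfl
    indep := fun v a h => by
      have h' : eC.symm (inC v 0 * inC 0 a) = 1 := Subtype.ext (by rw [map_mul]; exact h)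
      have h'' := congrArg Subtype.val (eC.symm.injective (h'.trans (map_one _).symm))
      have e : mdl v 0 * mdl 0 a = 1 := h''
      rw [mdl_trn, mdl_blk] at e
      exact mdl_eq_one e
    cent := fun g hg => by
      obtain ⟨v, a, hva⟩ := exists_mdl (Subgroup.mem_centralizer_singleton_iff.1 (eC ⟨g, hem13 g hg⟩).2)
      refine ⟨v, a, ?_⟩
      show g = (eC.symm (inC v 0) : G) * eC.symm (inC 0 a)
      have e : eC ⟨g, hem13 g hg⟩ = inC v 0 * inC 0 a := Subtype.ext (by
        show _ = mdl v 0 * mdl 0 a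
        rw [mdl_trn, mdl_blk]; exact hva)
      rw [← Subgroup.coe_mul, ← map_mul, ← e, MulEquiv.symm_apply_apply]
    sig := fun K hK hn => hJsig K hK fun j hj => by
      obtain ⟨v, rfl⟩ := (hJr j).1 hj
      refine Subgroup.eq_of_le_of_card_ge (by rintro _ ⟨k, hk, rfl⟩; exact hn v k hk) ?_
      rw [← Nat.card_congr (K.equivMapOfInjective _ (MulAut.conj (em v)).injective).toEquiv] },
    Subgroup.ext fun g => ⟨fun hg => (hJr g).2 hg, fun hg => (hJr g).1 hg⟩⟩

/-- The recognition of the symmetric group of degree nine. -/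
theorem recognition (H : Hyp G) : H.J.Normal ∨ Nonempty (G ≃* Perm (Fin 9)) := by
  obtain ⟨b, hb⟩ := H.exists_mono
  rw [← H.rebase_J b]
  rcases (H.rebase b).four_cases hb with h | h | h | h
  · exact Or.inl ((H.rebase b).caseA h)
  · exact Or.inl (Hyp.casePM h)
  · exact Or.inl (Hyp.caseB h)
  · exact (H.rebase b).caseI h

end CfsgLib.ThreeSymNine
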