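import Cfsg.Agent.ThreeSymNine.Complement
import Mathlib.GroupTheory.Transfer

/-!
# Lifting commuting involutions, transfer of an invariant character, transport of structure
-/

set_option autoImplicit false
set_option maxRecDepth 100000
set_option linter.style.haveILetI false

namespace CfsgLib.ThreeSymNine

open CfsgLib.AltNine Subgroup

universe u

/-- A character of a Sylow subgroup invariant under fusion extends up to a power. -/
theorem exists_fusion_hom {G : Type u} [Group G] [Finite G] {p : ℕ} [Fact p.Prime] (S : Sylow p G)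
    {A : Type*} [CommGroup A] (ψ : (S : Subgroup G) →* A)
    (h : ∀ (a b : (S : Subgroup G)) (g : G), g * a * g⁻¹ = b → ψ a = ψ b) :
    ∃ φ : G →* A, ∀ s : (S : Subgroup G), φ s = ψ s ^ (S : Subgroup G).index := by
  classical
  refine ⟨MonoidHom.transfer ψ, fun s => ?_⟩
  haveI := Fintype.ofFinite (Quotient (MulAction.orbitRel (zpowers (s : G)) (G ⧸ (S : Subgroup G))))
  rw [MonoidHom.transfer_eq_prod_quotient_orbitRel_zpowers_quot,
    index_eq_sum_minimalPeriod (S : Subgroup G) (s : G), ← Finset.prod_pow_eq_pow_sum]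
  refine Finset.prod_congr rfl fun q _ => ?_
  rw [← map_pow]
  refine h _ _ q.out.out ?_
  rw [SubgroupClass.coe_pow]
  group

/-- Two parametrized subgroups with the same law are isomorphic. -/
theorem exists_iso {X G P : Type*} [Group G] [Group P] (op : X → X → X) (e : X → G) (m : X → P)
    (he : ∀ a b, e (op a b) = e a * e b) (hm : ∀ a b, m (op a b) = m a * m b)
    (hei : Function.Injective e) (hmi : Function.Injective m) (H : Subgroup G) (K : Subgroup P)
    (hH : ∀ g, g ∈ H ↔ ∃ a, e a = g) (hK : ∀ g, g ∈ K ↔ ∃ a, m a = g) : Nonempty (H ≃* K) := by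
  let eH : X ≃ H := Equiv.ofBijective (fun a => ⟨e a, (hH _).2 ⟨a, rfl⟩⟩)
    ⟨fun a b h => hei (congrArg Subtype.val h), fun g => by
      obtain ⟨a, ha⟩ := (hH g).1 g.2; exact ⟨a, Subtype.ext ha⟩⟩
  let eK : X ≃ K := Equiv.ofBijective (fun a => ⟨m a, (hK _).2 ⟨a, rfl⟩⟩)
    ⟨fun a b h => hmi (congrArg Subtype.val h), fun g => by
      obtain ⟨a, ha⟩ := (hK g).1 g.2; exact ⟨a, Subtype.ext ha⟩⟩
  refine ⟨{ eH.symm.trans eK with map_mul' := fun g g' => ?_ }⟩
  obtain ⟨a, rfl⟩ := eH.surjective g
  obtain ⟨b, rfl⟩ := eH.surjective g'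
  have hab : eH a * eH b = eH (op a b) := Subtype.ext (he a b).symm
  simp only [Equiv.toFun_as_coe, Equiv.trans_apply, hab, Equiv.symm_apply_apply]
  exact Subtype.ext (hm a b)

theorem mm_one (M : Mat) : mm (pmat 0) M = M ∧ mm M (pmat 0) = M := by
  obtain ⟨h1, h3, h9⟩ := app_one M
  constructor
  · simp [mm, app_pmat, pa_table.1]
  · show (app M (pa 0 1), app M (pa 0 3), app M (pa 0 9)) = M
    rw [pa_table.1, pa_table.1, pa_table.1, h1, h3, h9]

namespace Hyp

variable {G : Type u} [Group G] {H : Hyp G}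

theorem W.exists_involution {M : Mat} (hW : H.W M) (h2 : mm M M = pmat 0) :
    ∃ a, H.Induces a M ∧ a * a = 1 := by
  obtain ⟨n, hn⟩ := hW
  have hnn : H.Induces (n * n) (pmat 0) := h2 ▸ hn.mul hn
  refine ⟨n * n * n, ?_, ?_⟩
  · have := hnn.mul hn
    rwa [(mm_one M).1] at this
  · have hJ := H.J_cube (H.mem_J_of_induces_one hnn)
    rw [show n * n * n * (n * n * n) = (n * n) * (n * n) * (n * n) by group, ← hJ]
    rw [pow_succ, pow_two]

/-- An involution commuting with a given one, inducing a given matrix. -/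
theorem W.exists_commuting {a : G} {A B : Mat} (ha : H.Induces a A) (ha2 : a * a = 1)
    (hB : H.W B) (hB2 : mm B B = pmat 0) (hAB : mm (mm A B) (mm A B) = pmat 0)
    (hB' : mm (mm (mm (mm B A) B) A) B = B) :
    ∃ b, H.Induces b B ∧ b * b = 1 ∧ a * b = b * a := by
  obtain ⟨b, hb, hb2⟩ := hB.exists_involution hB2
  have hj := H.J_cube (H.mem_J_of_induces_one (hAB ▸ (ha.mul hb).mul (ha.mul hb)))
  refine ⟨b * a * b * a * b, hB' ▸ (((hb.mul ha).mul hb).mul ha).mul hb, ?_, ?_⟩
  · calc b * a * b * a * b * (b * a * b * a * b) = b * a * b * a * (b * b) * (a * b * a * b) := by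
          group
      _ = b * a * b * (a * a) * (b * a * b) := by rw [hb2]; group
      _ = b * a * (b * b) * (a * b) := by rw [ha2]; group
      _ = b * (a * a) * b := by rw [hb2]; group
      _ = 1 := by rw [ha2, mul_one, hb2]
  · have hinv : (b * a * b * a * b * a)⁻¹ = a * b * a * b * a * b := by
      rw [mul_inv_rev, mul_inv_rev, mul_inv_rev, mul_inv_rev, mul_inv_rev,
        inv_eq_of_mul_eq_one_right ha2, inv_eq_of_mul_eq_one_right hb2]
      group
    have h6 : (a * b * a * b * a * b) * (a * b * a * b * a * b) = 1 := by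
      rw [← hj, pow_succ, pow_two]; group
    calc a * (b * a * b * a * b) = a * b * a * b * a * b := by group
      _ = (a * b * a * b * a * b)⁻¹ := (inv_eq_of_mul_eq_one_right h6).symm
      _ = b * a * b * a * b * a := by rw [← hinv, inv_inv]
      _ = _ := by group

/-- Involutions inducing the same matrix are conjugate. -/
theorem invol_conj {a b : G} {M : Mat} (ha : H.Induces a M) (hb : H.Induces b M) (ha2 : a * a = 1)
    (hb2 : b * b = 1) : ∃ z ∈ H.J, z * a * z⁻¹ = b := by
  have hJ : a⁻¹ * b ∈ H.J := hb.mul_inv_mem ha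
  have hai : a⁻¹ = a := inv_eq_of_mul_eq_one_right ha2
  rw [hai] at hJ
  refine ⟨a * b, hJ, ?_⟩
  have h3 := H.J_cube hJ
  have hi : (a * b)⁻¹ = b * a := by
    rw [mul_inv_rev, hai, inv_eq_of_mul_eq_one_right hb2]
  rw [hi]
  calc a * b * a * (b * a) = (a * b) ^ 3 * b⁻¹ := by rw [pow_succ, pow_two]; group
    _ = b := by rw [h3, one_mul, inv_eq_of_mul_eq_one_right hb2]

end Hyp

end CfsgLib.ThreeSymNine
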