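import Cfsg.Agent.ThreeSymNine.Cent

/-!
# The four automizers
-/

set_option autoImplicit false
set_option maxRecDepth 100000
set_option linter.style.haveILetI false

namespace CfsgLib.ThreeSymNine

open CfsgLib.AltNine Subgroup

attribute [local instance 10000] List.decidableBAll List.decidableBEx

universe u

theorem mono_tables : (∀ d a, mm (mono d a) (pmat (pinv a)) = dmat d) ∧
    (∀ d a, mm (dmat d) (pmat a) = mono d a) ∧ (∀ d, mono d 0 = dmat d) ∧
    (∀ a, mono 0 a = pmat a) := by decide +kernel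

/-- Conjugation of a diagonal matrix by permutations. -/
def conjDiag (a : Fin 6) (d : Fin 8) : Mat := mm (pmat a) (mm (dmat d) (pmat (pinv a)))

theorem diag_tables : (∀ d : Fin 8, d ∈ ([1, 2, 4] : List (Fin 8)) →
      ∃ a, conjDiag a d = dmat 1) ∧
    (∀ d : Fin 8, d ∈ ([3, 5, 6] : List (Fin 8)) → ∃ a, conjDiag a d = dmat 3) ∧
    (∀ d : Fin 8, d ∈ ([3, 5, 6] : List (Fin 8)) → ∃ a, conjDiag a 3 = dmat d) ∧
    (∀ d : Fin 8, d ∈ ([2, 4] : List (Fin 8)) → ∃ a, conjDiag a 1 = dmat d) ∧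
    (∀ d e : Fin 8, ∃ f : Fin 8, mm (dmat d) (dmat e) = dmat f ∧
      f.1 = Nat.xor d.1 e.1) := by decide +kernel

namespace Hyp

variable {G : Type u} [Group G] (H : Hyp G)

theorem W_mono_iff (d : Fin 8) (a : Fin 6) : H.W (mono d a) ↔ H.W (dmat d) :=
  ⟨fun h => mono_tables.1 d a ▸ H.W_mul h (H.W_pmat _),
    fun h => mono_tables.2.1 d a ▸ H.W_mul h (H.W_pmat _)⟩

theorem W_conjDiag {d : Fin 8} (a : Fin 6) (h : H.W (dmat d)) : H.W (conjDiag a d) :=
  H.W_mul (H.W_pmat _) (H.W_mul h (H.W_pmat _))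

theorem W_xor {d e f : Fin 8} (hd : H.W (dmat d)) (he : H.W (dmat e))
    (h : mm (dmat d) (dmat e) = dmat f) : H.W (dmat f) := h ▸ H.W_mul hd he

/-- The allowed signs are the given ones. -/
def Signs (Ds : List (Fin 8)) : Prop := ∀ M, H.W M ↔ ∃ d ∈ Ds, ∃ a, M = mono d a

theorem four_cases (hm : H.Mono) : H.Signs [0] ∨ H.Signs [0, 7] ∨ H.Signs [0, 3, 5, 6] ∨
    H.Signs [0, 1, 2, 3, 4, 5, 6, 7] := by
  have h0 : H.W (dmat 0) := (mono_tables.2.2.1 0).symm ▸ (mono_tables.2.2.2 0).symm ▸ H.W_pmat 0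
  have key : ∀ Ds : List (Fin 8), (∀ d, H.W (dmat d) ↔ d ∈ Ds) → H.Signs Ds := by
    intro Ds h M
    constructor
    · intro hM
      obtain ⟨d, a, rfl⟩ := hm M hM
      exact ⟨d, (h d).1 ((H.W_mono_iff d a).1 hM), a, rfl⟩
    · rintro ⟨d, hd, a, rfl⟩
      exact (H.W_mono_iff d a).2 ((h d).2 hd)
  obtain ⟨t1, t3, t3', t1', tx⟩ := diag_tables
  have to1 : ∀ d : Fin 8, d ∈ ([1, 2, 4] : List (Fin 8)) → H.W (dmat d) → H.W (dmat 1) :=
    fun d hd h => by obtain ⟨a, ha⟩ := t1 d hd; exact ha ▸ H.W_conjDiag a h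
  have to3 : ∀ d : Fin 8, d ∈ ([3, 5, 6] : List (Fin 8)) → H.W (dmat d) → H.W (dmat 3) :=
    fun d hd h => by obtain ⟨a, ha⟩ := t3 d hd; exact ha ▸ H.W_conjDiag a h
  have e12 : mm (dmat 1) (dmat 2) = dmat 3 ∧ mm (dmat 3) (dmat 4) = dmat 7 ∧
      mm (dmat 3) (dmat 7) = dmat 4 := by decide +kernel
  by_cases h1 : H.W (dmat 1)
  · refine Or.inr (Or.inr (Or.inr (key _ fun d => ⟨fun _ => ?_, fun _ => ?_⟩)))
    · exact (show ∀ d : Fin 8, d ∈ ([0, 1, 2, 3, 4, 5, 6, 7] : List (Fin 8)) by decide) d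
    · have h2 : ∀ d : Fin 8, d ∈ ([2, 4] : List (Fin 8)) → H.W (dmat d) := fun d hd => by
        obtain ⟨a, ha⟩ := t1' d hd; exact ha ▸ H.W_conjDiag a h1
      have h3 := H.W_xor h1 (h2 2 (by decide)) e12.1
      have h356 : ∀ d : Fin 8, d ∈ ([3, 5, 6] : List (Fin 8)) → H.W (dmat d) := fun d hd => by
        obtain ⟨a, ha⟩ := t3' d hd; exact ha ▸ H.W_conjDiag a h3
      have h7 := H.W_xor h3 (h2 4 (by decide)) e12.2.1
      rcases (show d = 0 ∨ d = 1 ∨ d = 7 ∨ d ∈ ([2, 4] : List (Fin 8)) ∨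
        d ∈ ([3, 5, 6] : List (Fin 8)) by revert d; decide) with h | h | h | h | h
      · exact h ▸ h0
      · exact h ▸ h1
      · exact h ▸ h7
      · exact h2 d h
      · exact h356 d h
  · have split : ∀ d : Fin 8, d = 0 ∨ d = 7 ∨ d ∈ ([1, 2, 4] : List (Fin 8)) ∨
        d ∈ ([3, 5, 6] : List (Fin 8)) := by decide
    by_cases h3 : H.W (dmat 3)
    · refine Or.inr (Or.inr (Or.inl (key _ fun d => ⟨fun hd => ?_, fun hd => ?_⟩)))
      · rcases split d with h | h | h | h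
        · subst h; decide
        · subst h
          exact absurd (to1 4 (by decide) (H.W_xor h3 hd e12.2.2)) h1
        · exact absurd (to1 d h hd) h1
        · exact (show ∀ d : Fin 8, d ∈ ([3, 5, 6] : List (Fin 8)) →
            d ∈ ([0, 3, 5, 6] : List (Fin 8)) by decide) d h
      · rcases (show ∀ d : Fin 8, d ∈ ([0, 3, 5, 6] : List (Fin 8)) → d = 0 ∨
          d ∈ ([3, 5, 6] : List (Fin 8)) by decide) d hd with h | h
        · exact h ▸ h0
        · obtain ⟨a, ha⟩ := t3' d h; exact ha ▸ H.W_conjDiag a h3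
    · by_cases h7 : H.W (dmat 7)
      · refine Or.inr (Or.inl (key _ fun d => ⟨fun hd => ?_, fun hd => ?_⟩))
        · rcases split d with h | h | h | h
          · subst h; decide
          · subst h; decide
          · exact absurd (to1 d h hd) h1
          · exact absurd (to3 d h hd) h3
        · rcases (show ∀ d : Fin 8, d ∈ ([0, 7] : List (Fin 8)) → d = 0 ∨ d = 7 by decide) d hd
            with h | h
          · exact h ▸ h0
          · exact h ▸ h7
      · refine Or.inl (key _ fun d => ⟨fun hd => ?_, fun hd => ?_⟩)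
        · rcases split d with h | h | h | h
          · subst h; decide
          · subst h; exact absurd hd h7
          · exact absurd (to1 d h hd) h1
          · exact absurd (to3 d h hd) h3
        · rw [List.mem_singleton] at hd; exact hd ▸ h0

/-- The stabilizer of a list of vectors, from a finite check. -/
theorem Signs.stab {H : Hyp G} {Ds : List (Fin 8)} (hs : H.Signs Ds) (X : List (Fin 27))
    (St : List Mat)
    (h : ∀ d ∈ Ds, ∀ a : Fin 6, (∀ v ∈ X, app (mono d a) v = v) → mono d a ∈ St)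
    {M : Mat} (hM : H.Stab X M) : M ∈ St := by
  obtain ⟨d, hd, a, rfl⟩ := (hs M).1 hM.1
  exact h d hd a hM.2

theorem Signs.mem {H : Hyp G} {Ds : List (Fin 8)} (hs : H.Signs Ds) {d : Fin 8} (hd : d ∈ Ds)
    (a : Fin 6) : H.W (mono d a) := (hs _).2 ⟨d, hd, a, rfl⟩

variable [Finite G]

/-- A reflection stabilizer, from finite checks. -/
theorem Signs.refl_le {H : Hyp G} {Ds : List (Fin 8)} (hs : H.Signs Ds) (X : List (Fin 27))
    (d₀ : Fin 8) (a₀ : Fin 6) (q : Fin 27) (hd₀ : d₀ ∈ Ds)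
    (h : ∀ d ∈ Ds, ∀ a : Fin 6, (∀ v ∈ X, app (mono d a) v = v) →
      mono d a ∈ [pmat 0, mono d₀ a₀])
    (hX : ∀ v ∈ X, app (mono d₀ a₀) v = v) (hq : app (mono d₀ a₀) q = nv q) (hq0 : q ≠ 0)
    (hTT : ∀ v, app (mono d₀ a₀) (app (mono d₀ a₀) v) = v)
    (hdec : ∀ v, ∃ f k, app (mono d₀ a₀) f = f ∧ v = av f (sm k q)) : H.C X ≤ H.N :=
  H.C_le_N_refl X _ q ⟨hs.mem hd₀ a₀, hX⟩ (fun M hM => by
    rcases List.mem_cons.1 (hs.stab X _ h hM) with h | h
    · exact Or.inl h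
    · exact Or.inr (List.mem_singleton.1 h)) hq hq0 hTT hdec

/-- A trivial stabilizer, from a finite check. -/
theorem Signs.free_le {H : Hyp G} {Ds : List (Fin 8)} (hs : H.Signs Ds) (X : List (Fin 27))
    (h : ∀ d ∈ Ds, ∀ a : Fin 6, (∀ v ∈ X, app (mono d a) v = v) → mono d a ∈ [pmat 0]) :
    H.C X ≤ H.N := by
  rw [H.C_eq_J X fun M hM => List.mem_singleton.1 (hs.stab X _ h hM)]
  exact H.J_le_N

end Hyp

end CfsgLib.ThreeSymNine
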