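import Cfsg.Agent.SmithTyrer.Main
import Cfsg.Agent.Solvable.Basics

/-!
# An inverted Sylow three-subgroup of order nine
-/

set_option autoImplicit false
set_option linter.style.haveILetI false

namespace CfsgLib.ThreeSymNine

open Subgroup

universe u

/-- An elementary abelian Sylow `3`-subgroup of order nine, centralized or inverted by its normalizer
and centralizing the largest normal subgroup of order prime to three, is normal. -/
theorem inverted_normal {C : Type u} [Group C] [Finite C] (Q : Sylow 3 C)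
    (hcard : Nat.card (Q : Subgroup C) = 9)
    (hc : ∀ a ∈ (Q : Subgroup C), ∀ b ∈ (Q : Subgroup C), a * b = b * a)
    (hexp : ∀ a ∈ (Q : Subgroup C), a ^ 3 = 1)
    (hinv : ∀ n ∈ normalizer ((Q : Subgroup C) : Set C),
      n ∈ centralizer ((Q : Subgroup C) : Set C) ∨ ∀ a ∈ (Q : Subgroup C), n * a * n⁻¹ = a⁻¹)
    (hex : ∃ n ∈ normalizer ((Q : Subgroup C) : Set C), ∀ a ∈ (Q : Subgroup C), n * a * n⁻¹ = a⁻¹)
    (hO : ∀ R : Subgroup C, R.Normal → (Nat.card R).Coprime 3 →
      ∀ a ∈ (Q : Subgroup C), ∀ r ∈ R, a * r = r * a) : (Q : Subgroup C).Normal := by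
  classical
  haveI : Fact (Nat.Prime 3) := ⟨Nat.prime_three⟩
  haveI := Fintype.ofFinite C
  obtain ⟨n, hn, hni⟩ := hex
  have hncyc : ¬ IsCyclic (Q : Subgroup C) := by
    intro hcy
    obtain ⟨g, hg⟩ := hcy.exists_generator
    have h1 : orderOf g = 9 := (orderOf_eq_card_of_forall_mem_zpowers hg).trans hcard
    have h2 : orderOf g ∣ 3 := orderOf_dvd_of_pow_eq_one (Subtype.ext (hexp g g.2))
    rw [h1] at h2
    norm_num at h2
  have hnc : n ∉ centralizer ((Q : Subgroup C) : Set C) := by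
    intro h
    haveI : Nontrivial (Q : Subgroup C) :=
      (Finite.one_lt_card_iff_nontrivial).1 (by rw [hcard]; norm_num)
    obtain ⟨⟨a, ha⟩, ha1⟩ := exists_ne (1 : (Q : Subgroup C))
    apply ha1
    refine Subtype.ext ?_
    have h3 := hexp a ha
    have h4 := hni a ha
    rw [← mem_centralizer_iff.1 h a ha, mul_inv_cancel_right] at h4
    show a = 1
    rwa [pow_succ, pow_two, mul_eq_one_iff_eq_inv.2 h4, one_mul] at h3
  have D : CfsgLib.SmithTyrer.InvData 3 Q :=
    { ne_two := by norm_num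
      comm := ⟨⟨fun a b => Subtype.ext (hc a a.2 b b.2)⟩⟩
      noncyclic := hncyc
      index := CfsgLib.SmithTyrer.relIndex_eq_two hn hnc hinv
      inverts := hinv }
  set O := Cfsg.pPrimeCore 3 C
  haveI : O.Normal := CfsgLib.Solvable.pPrimeCore_normal 3
  have hOc : (Nat.card O).Coprime 3 := CfsgLib.Solvable.coprime_card_pPrimeCore 3
  haveI := Fintype.ofFinite (C ⧸ O)
  have hcore : Cfsg.pPrimeCore 3 (C ⧸ O) = ⊥ := by
    set f := QuotientGroup.mk' O
    set X := (Cfsg.pPrimeCore 3 (C ⧸ O)).comap f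
    haveI : (Cfsg.pPrimeCore 3 (C ⧸ O)).Normal := CfsgLib.Solvable.pPrimeCore_normal 3
    have hX : X ≤ O := by
      refine CfsgLib.Solvable.le_pPrimeCore 3 inferInstance ?_
      have h1 : O ≤ X := by
        conv_lhs => rw [← QuotientGroup.ker_mk' O]
        exact Subgroup.ker_le_comap _ _
      have h2 : O.relIndex X = Nat.card (Cfsg.pPrimeCore 3 (C ⧸ O)) := by
        have e := Subgroup.relIndex_ker X (f := f)
        rw [QuotientGroup.ker_mk'] at e
        rw [e, Subgroup.map_comap_eq_self_of_surjective (QuotientGroup.mk'_surjective O)]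
      rw [← Subgroup.card_mul_index (O.subgroupOf X),
        Nat.card_congr (Subgroup.subgroupOfEquivOfLe h1).toEquiv]
      exact hOc.mul_left (by
        show (O.relIndex X).Coprime 3
        rw [h2]; exact CfsgLib.Solvable.coprime_card_pPrimeCore 3)
    rw [← Subgroup.map_comap_eq_self_of_surjective (QuotientGroup.mk'_surjective O)
      (Cfsg.pPrimeCore 3 (C ⧸ O)), eq_bot_iff, Subgroup.map_le_iff_le_comap,
      MonoidHom.comap_bot, QuotientGroup.ker_mk']
    exact hX
  have hQn := CfsgLib.SmithTyrer.InvData.normal_aux _ (C ⧸ O)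
    (Q.mapSurjective (QuotientGroup.mk'_surjective O)) le_rfl (D.quotient hOc) hcore
  rw [Sylow.coe_mapSurjective] at hQn
  refine ⟨fun a ha g => ?_⟩
  obtain ⟨b, hb, hbe⟩ := hQn.conj_mem (QuotientGroup.mk' O a) ⟨a, ha, rfl⟩ (QuotientGroup.mk' O g)
  rw [← map_inv, ← map_mul, ← map_mul] at hbe
  have ho : b⁻¹ * (g * a * g⁻¹) ∈ O := QuotientGroup.eq.1 hbe
  set o := b⁻¹ * (g * a * g⁻¹) with hodef
  have hba : g * a * g⁻¹ = b * o := by rw [hodef, mul_inv_cancel_left]
  have h3 : o ^ 3 = 1 := by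
    have h : (g * a * g⁻¹) ^ 3 = (b * o) ^ 3 := by rw [hba]
    rw [conj_pow, hexp a ha, mul_one, mul_inv_cancel,
      (show Commute b o from hO O inferInstance hOc b hb o ho).mul_pow, hexp b hb, one_mul] at h
    exact h.symm
  rw [hba, orderOf_eq_one_iff.1 (Nat.eq_one_of_dvd_coprimes hOc (orderOf_dvd_natCard _ ho)
    (orderOf_dvd_of_pow_eq_one h3)), mul_one]
  exact hb

end CfsgLib.ThreeSymNine
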