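import Cfsg.Agent.S3331
import Cfsg.Agent.SmallSimple.Basic
import Cfsg.Agent.Classical.LinearOrder
import Mathlib.GroupTheory.Transfer

/-!
# Tools: invariant Sylow subgroups, small groups with a self-centralizing element of order three,
transfer into an abelian Sylow subgroup
-/

set_option autoImplicit false
set_option maxRecDepth 100000
set_option linter.style.haveILetI false

namespace CfsgLib.ThreeSymNine

open Subgroup

attribute [local instance 10000] List.decidableBAll List.decidableBEx

universe u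

variable {G : Type u} [Group G] [Finite G]

/-- A `3`-group of operators fixes a Sylow subgroup when their number is prime to three. -/
theorem exists_fixed_sylow {E L : Subgroup G} (hE : IsPGroup 3 E)
    (hn : E ≤ normalizer (L : Set G)) {r : ℕ} [Fact r.Prime]
    (hc : ¬ 3 ∣ Nat.card (Sylow r L)) :
    ∃ Q : Sylow r L, E ≤ normalizer (((Q : Subgroup L).map L.subtype : Subgroup G) : Set G) := by
  classical
  haveI : Fact (Nat.Prime 3) := ⟨Nat.prime_three⟩
  letI : MulDistribMulAction E L :=
    { smul := fun d x => ⟨(d : G) * x * (d : G)⁻¹,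
        (mem_normalizer_iff.1 (hn d.2) x).1 x.2⟩
      one_smul := fun x => Subtype.ext (show (1 : G) * x * (1 : G)⁻¹ = x by simp)
      mul_smul := fun a b x => Subtype.ext (by
        show ((a : G) * b) * x * ((a : G) * b)⁻¹ = a * (b * x * (b : G)⁻¹) * (a : G)⁻¹
        group)
      smul_mul := fun a x y => Subtype.ext (by
        show (a : G) * (x * y) * (a : G)⁻¹ = a * x * (a : G)⁻¹ * (a * y * (a : G)⁻¹)
        group)
      smul_one := fun a => Subtype.ext (show (a : G) * 1 * (a : G)⁻¹ = 1 by simp) }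
  have hmod := hE.card_modEq_card_fixedPoints (Sylow r L)
  obtain ⟨⟨Q, hQ⟩⟩ : Nonempty (MulAction.fixedPoints E (Sylow r L)) := by
    refine (Nat.card_pos_iff.1 (Nat.pos_of_ne_zero fun h => hc ?_)).1
    rw [h] at hmod
    exact Nat.modEq_zero_iff_dvd.1 hmod
  refine ⟨Q, fun d hd => ?_⟩
  refine mem_normalizer_iff.2 fun y => ?_
  have key : ∀ e : E, ∀ w ∈ (Q : Subgroup L),
      (e : G) * w * (e : G)⁻¹ ∈ (Q : Subgroup L).map L.subtype := fun e w hw => by
    refine ⟨e • w, ?_, rfl⟩
    have h := hQ e
    rw [← h]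
    exact Subgroup.smul_mem_pointwise_smul w e _ hw
  refine ⟨?_, fun hy => ?_⟩
  · rintro ⟨w, hw, rfl⟩
    exact key ⟨d, hd⟩ w hw
  · obtain ⟨w, hw, hwy⟩ := hy
    have h := key ⟨d, hd⟩⁻¹ w hw
    rw [show ((w : G)) = d * y * d⁻¹ from hwy] at h
    simpa [mul_assoc] using h

theorem normal_coprime_perm_three (M : Subgroup (Equiv.Perm (Fin 3))) (hM : M.Normal)
    (hc : (Nat.card M).Coprime 3) : M = ⊥ := by
  rw [eq_bot_iff]
  intro σ hσ
  have h2 : Nat.card M ∣ 2 := by
    have := Subgroup.card_subgroup_dvd_card M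
    rw [Nat.card_eq_fintype_card (α := Equiv.Perm (Fin 3)), Fintype.card_perm] at this
    exact hc.dvd_of_dvd_mul_left (show Nat.card M ∣ 3 * 2 from this)
  have hsq : ∀ τ ∈ M, τ ^ 2 = 1 := fun τ hτ =>
    orderOf_dvd_iff_pow_eq_one.1 ((orderOf_dvd_natCard M hτ).trans h2)
  have key : ∀ σ : Equiv.Perm (Fin 3), σ ^ 2 = 1 →
      (∀ π : Equiv.Perm (Fin 3), (σ * (π * σ * π⁻¹)) ^ 2 = 1) → σ = 1 := by decide +kernel
  exact mem_bot.2 (key σ (hsq σ hσ) fun π => hsq _ (mul_mem hσ (hM.conj_mem σ hσ π)))

theorem card_sylow_two_alt5 : ¬ 3 ∣ Nat.card (Sylow 2 (alternatingGroup (Fin 5))) := by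
  classical
  haveI : Fact (Nat.Prime 2) := ⟨Nat.prime_two⟩
  let V : Subgroup (alternatingGroup (Fin 5)) :=
    { carrier := {g | g.1 4 = 4 ∧ g * g = 1}
      mul_mem' := by
        rintro a b ⟨h1, h2⟩ ⟨h3, h4⟩
        exact (show ∀ a b : alternatingGroup (Fin 5), a.1 4 = 4 → a * a = 1 → b.1 4 = 4 →
          b * b = 1 → (a * b).1 4 = 4 ∧ a * b * (a * b) = 1 by decide +kernel) a b h1 h2 h3 h4
      one_mem' := ⟨rfl, mul_one 1⟩
      inv_mem' := by
        rintro a ⟨h1, h2⟩
        rw [inv_eq_of_mul_eq_one_right h2]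
        exact ⟨h1, h2⟩ }
  have hV : Nat.card V = 4 := by
    rw [Nat.card_congr (show V ≃ {g : alternatingGroup (Fin 5) // g.1 4 = 4 ∧ g * g = 1} from
      Equiv.refl _), Nat.card_eq_fintype_card]
    decide +kernel
  have h60 : Nat.card (alternatingGroup (Fin 5)) = 60 := by
    rw [Nat.card_eq_fintype_card]; decide
  obtain ⟨P, hP⟩ := (IsPGroup.of_card (n := 2) (show Nat.card V = 2 ^ 2 from hV)).exists_le_sylow
  have hPV : V = P := Subgroup.eq_of_le_of_card_ge hP (by
    rw [hV, CfsgLib.SmallSimple.card_sylow_eq P (k := 2) (m := 15) (by rw [h60]; norm_num)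
      (by norm_num)]; norm_num)
  rw [P.card_eq_index_normalizer, show ((P : Sylow 2 (alternatingGroup (Fin 5))) :
    Set (alternatingGroup (Fin 5))) = (V : Set (alternatingGroup (Fin 5))) from by rw [hPV]; rfl]
  intro h3
  let A : Subgroup (alternatingGroup (Fin 5)) :=
    { carrier := {g | g.1 4 = 4}
      mul_mem' := by
        intro a b h1 h2
        show a.1 (b.1 4) = 4
        rw [show b.1 4 = 4 from h2]; exact h1
      one_mem' := rfl
      inv_mem' := by
        intro a h1
        show a.1.symm 4 = 4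
        exact a.1.symm_apply_eq.2 (show a.1 4 = 4 from h1).symm }
  have hA : Nat.card A = 12 := by
    rw [Nat.card_congr (show A ≃ {g : alternatingGroup (Fin 5) // g.1 4 = 4} from Equiv.refl _),
      Nat.card_eq_fintype_card]
    decide +kernel
  have hle : A ≤ normalizer (V : Set (alternatingGroup (Fin 5))) := by
    intro a ha
    have key : ∀ a g : alternatingGroup (Fin 5), a.1 4 = 4 → g.1 4 = 4 → g * g = 1 →
        (a * g * a⁻¹).1 4 = 4 ∧ (a * g * a⁻¹) * (a * g * a⁻¹) = 1 := by decide +kernel
    refine mem_normalizer_iff.2 fun g => ⟨fun hg => key a g ha hg.1 hg.2, fun hg => ?_⟩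
    have := key a⁻¹ _ (A.inv_mem ha) hg.1 hg.2
    simp only [mul_assoc, inv_mul_cancel_left, inv_inv, mul_inv_cancel_left, inv_mul_cancel,
      mul_one] at this
    exact ⟨this.1, by simpa [mul_assoc] using this.2⟩
  have h12 := Subgroup.card_dvd_of_le hle
  have hm := (normalizer (V : Set (alternatingGroup (Fin 5)))).card_mul_index
  rw [h60] at hm
  obtain ⟨k, hk⟩ := h12
  obtain ⟨l, hl⟩ := h3
  rw [hk, hA, hl] at hm
  have : 36 * (k * l) = 60 := by rw [← hm]; ring
  omega

theorem card_sylow_seven_psl :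
    ¬ 3 ∣ Nat.card (Sylow 7 (Matrix.ProjectiveSpecialLinearGroup (Fin 2) (ZMod 7))) := by
  haveI : Fact (Nat.Prime 7) := ⟨by norm_num⟩
  set M := Matrix.ProjectiveSpecialLinearGroup (Fin 2) (ZMod 7)
  have h168 : Nat.card M = 168 := by
    have h1 := CfsgLib.Linear.card_PSL_mul (F := ZMod 7) (ZMod.card 7) 2 (by norm_num)
    norm_num [Nat.gcd] at h1
    simp_all [M, Finset.prod_range_succ]
    omega
  haveI : Finite M := Nat.finite_of_card_ne_zero (by rw [h168]; norm_num)
  obtain ⟨P⟩ : Nonempty (Sylow 7 M) := Sylow.nonempty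
  have hP := CfsgLib.SmallSimple.card_sylow_eq P (k := 1) (m := 24) (by rw [h168]; norm_num)
    (by norm_num)
  have h1 := P.card_dvd_index
  have hi := (P : Subgroup M).card_mul_index
  rw [hP, h168] at hi
  rw [show (P : Subgroup M).index = 24 by omega] at h1
  have h2 := card_sylow_modEq_one 7 M
  intro h3
  exact (show ∀ n < 25, n ∣ 24 → n % 7 = 1 % 7 → ¬ 3 ∣ n by decide) _
    (Nat.lt_succ_of_le (Nat.le_of_dvd (by norm_num) h1)) h1 h2 h3

theorem card_sylow_congr {A B : Type*} [Group A] [Group B] [Finite A] (e : A ≃* B) (r : ℕ)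
    [Fact r.Prime] : Nat.card (Sylow r A) = Nat.card (Sylow r B) := by
  haveI : Finite B := Finite.of_equiv A e.toEquiv
  exact le_antisymm
    (Nat.card_le_card_of_surjective _ (Sylow.mapSurjective_surjective (f := e.symm.toMonoidHom)
      e.symm.surjective r))
    (Nat.card_le_card_of_surjective _ (Sylow.mapSurjective_surjective (f := e.toMonoidHom)
      e.surjective r))

/-- A group with a self-centralizing element of order three which has no nontrivial invariant
subgroup of order prime to three for a `3`-group of operators has order three or six. -/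
theorem small_of_self_centralizing {E L : Subgroup G} (hE : IsPGroup 3 E)
    (hn : E ≤ normalizer (L : Set G))
    (hR : ∀ R : Subgroup G, R ≤ L → (Nat.card R).Coprime 3 →
      E ≤ normalizer (R : Set G) → R = ⊥)
    {q : G} (hq : q ∈ L) (hq3 : orderOf q = 3)
    (hself : ∀ y ∈ L, y * q = q * y → y ∈ zpowers q) :
    (Nat.card L = 3 ∨ Nat.card L = 6) ∧ ∀ y ∈ L, y * q * y⁻¹ ∈ zpowers q := by
  classical
  haveI : Fact (Nat.Prime 3) := ⟨Nat.prime_three⟩
  let q' : L := ⟨q, hq⟩
  have hX : Nat.card (zpowers q') = 3 := by rw [Nat.card_zpowers, Subgroup.orderOf_mk, hq3]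
  have hC : centralizer ((zpowers q' : Subgroup L) : Set L) = zpowers q' := by
    refine le_antisymm (fun y hy => ?_) fun y hy => mem_centralizer_iff.2 fun z hz => ?_
    · have h := congrArg Subtype.val (mem_centralizer_iff.1 hy q' (mem_zpowers q'))
      obtain ⟨k, hk⟩ := hself y y.2 h.symm
      exact ⟨k, Subtype.ext (by simpa using hk)⟩
    · obtain ⟨i, rfl⟩ := hy
      obtain ⟨j, rfl⟩ := hz
      exact ((Commute.refl q').zpow_zpow j i).eq
  -- the image of a normal subgroup under an operator
  have himg : ∀ (N : Subgroup L), N.Normal → (Nat.card N).Coprime 3 →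
      (∀ M : Subgroup L, M.Normal → (Nat.card M).Coprime 3 → M ≤ N) → N = ⊥ := by
    intro N hN hcN hmax
    have hb := hR (N.map L.subtype) (map_subtype_le N)
      (by rw [← Nat.card_congr (N.equivMapOfInjective _ L.subtype_injective).toEquiv]; exact hcN) ?_
    · exact (map_eq_bot_iff_of_injective N L.subtype_injective).1 hb
    intro e he
    have hconj : ∀ e ∈ E, ∀ w ∈ N, e * (w : G) * e⁻¹ ∈ N.map L.subtype := by
      intro e he w hw
      let f : L →* L := MonoidHom.mk' (fun z => ⟨e * z * e⁻¹,
        (mem_normalizer_iff.1 (hn he) z).1 z.2⟩) fun a b => Subtype.ext (by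
          show e * (a * b : G) * e⁻¹ = e * a * e⁻¹ * (e * b * e⁻¹); group)
      have hf : Function.Bijective f := by
        have hfi : Function.Injective f := fun a b h => Subtype.ext
          (mul_left_cancel (mul_right_cancel (show e * (a : G) * e⁻¹ = e * b * e⁻¹ from
            congrArg Subtype.val h)))
        exact ⟨hfi, Finite.surjective_of_injective hfi⟩
      have hM := hmax (N.map f) (hN.map f hf.2) (by
        rw [← Nat.card_congr (N.equivMapOfInjective f hf.1).toEquiv]; exact hcN)
      exact ⟨f w, hM ⟨w, hw, rfl⟩, rfl⟩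
    refine mem_normalizer_iff.2 fun y => ⟨?_, fun hy => ?_⟩
    · rintro ⟨w, hw, rfl⟩
      exact hconj e he w hw
    · obtain ⟨w, hw, hwy⟩ := hy
      have := hconj e⁻¹ (inv_mem he) w hw
      rw [show (w : G) = e * y * e⁻¹ from hwy] at this
      simpa [mul_assoc] using this
  rcases Cfsg.Agent.S3331.result (zpowers q') hX hC with
    ⟨N, hN, -, hcN, hq'⟩ | ⟨N, hN, -, hN2, ⟨e⟩⟩ | ⟨⟨e⟩⟩
  · have hbot : N = ⊥ := by
      refine himg N hN hcN fun M hM hcM => ?_
      have hc : (Nat.card (M.map (QuotientGroup.mk' N))).Coprime 3 :=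
        hcM.coprime_dvd_left (card_map_dvd (f := QuotientGroup.mk' N) M)
      have : M.map (QuotientGroup.mk' N) = ⊥ := by
        rcases hq' with h | ⟨⟨e⟩⟩
        · exact Subgroup.eq_bot_of_card_eq _ (Nat.eq_one_of_dvd_coprimes hc dvd_rfl
            (h ▸ Subgroup.card_subgroup_dvd_card _))
        · refine (map_eq_bot_iff_of_injective _ (show Function.Injective e.toMonoidHom from
            e.injective)).1 (normal_coprime_perm_three _
            ((hM.map _ (QuotientGroup.mk'_surjective N)).map _ e.surjective) ?_)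
          rw [← Nat.card_congr (Subgroup.equivMapOfInjective _ e.toMonoidHom e.injective).toEquiv]
          exact hc
      rw [Subgroup.map_eq_bot_iff, QuotientGroup.ker_mk'] at this
      exact this
    have hcard : Nat.card L = 3 ∨ Nat.card L = 6 := by
      have h := Subgroup.card_eq_card_quotient_mul_card_subgroup N
      have h1 : Nat.card N = 1 := by rw [hbot, Subgroup.card_bot]
      rw [h1, mul_one] at h
      rcases hq' with h3 | ⟨⟨e⟩⟩
      · exact Or.inl (h.trans h3)
      · right
        rw [h, Nat.card_congr e.toEquiv, Nat.card_eq_fintype_card, Fintype.card_perm]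
        rfl
    refine ⟨hcard, fun y hy => ?_⟩
    have hnorm : (zpowers q').Normal := by
      have hi := (zpowers q').card_mul_index
      rw [hX] at hi
      by_cases h1 : (zpowers q').index = 1
      · rw [index_eq_one.1 h1]; infer_instance
      · exact Subgroup.normal_of_index_eq_two (by rcases hcard with h | h <;> omega)
    obtain ⟨k, hk⟩ := hnorm.conj_mem q' (mem_zpowers q') ⟨y, hy⟩
    exact ⟨k, by simpa using congrArg Subtype.val hk⟩
  · exfalso
    haveI := alternatingGroup.isSimpleGroup_five
    have hcN : (Nat.card N).Coprime 3 :=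
      (Nat.prime_three.coprime_iff_not_dvd.2 fun h => by
        obtain ⟨y, hy⟩ := exists_prime_orderOf_dvd_card' (G := N) 3 h
        have h2 : y ^ 2 = 1 := Subtype.ext (hN2 y y.2)
        have := orderOf_dvd_of_pow_eq_one h2
        rw [hy] at this; norm_num at this).symm
    have hbot : N = ⊥ := by
      refine himg N hN hcN fun M hM hcM => ?_
      have hn' := (hM.map _ (QuotientGroup.mk'_surjective N)).map e.toMonoidHom e.surjective
      rcases hn'.eq_bot_or_eq_top with h | h
      · rw [map_eq_bot_iff_of_injective _ (show Function.Injective e.toMonoidHom from e.injective),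
          Subgroup.map_eq_bot_iff, QuotientGroup.ker_mk'] at h
        exact h
      · exfalso
        have hd : Nat.card (alternatingGroup (Fin 5)) ∣ Nat.card M := by
          have h1 := (card_map_dvd (f := e.toMonoidHom) (M.map (QuotientGroup.mk' N))).trans
            (card_map_dvd (f := QuotientGroup.mk' N) M)
          rwa [h, Subgroup.card_top] at h1
        rw [Nat.card_eq_fintype_card,
          show Fintype.card (alternatingGroup (Fin 5)) = 60 by decide] at hd
        exact Nat.prime_three.coprime_iff_not_dvd.1 hcM.symm ((by norm_num : 3 ∣ 60).trans hd)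
    let eL : L ≃* alternatingGroup (Fin 5) :=
      ((QuotientGroup.quotientBot (G := L)).symm.trans
        (QuotientGroup.quotientMulEquivOfEq hbot.symm)).trans e
    haveI : Fact (Nat.Prime 2) := ⟨Nat.prime_two⟩
    obtain ⟨Q, hQ⟩ := exists_fixed_sylow (r := 2) hE hn (by
      rw [card_sylow_congr eL]
      exact card_sylow_two_alt5)
    have hcardL : Nat.card L = 2 ^ 2 * 15 := by
      rw [Nat.card_congr eL.toEquiv, Nat.card_eq_fintype_card]; decide
    have hQc := CfsgLib.SmallSimple.card_sylow_eq Q hcardL (by norm_num)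
    have := hR _ (map_subtype_le _) (by
      rw [← Nat.card_congr ((Q : Subgroup L).equivMapOfInjective _ L.subtype_injective).toEquiv,
        hQc]; norm_num) hQ
    rw [map_eq_bot_iff_of_injective _ L.subtype_injective] at this
    rw [this, Subgroup.card_bot] at hQc
    norm_num at hQc
  · exfalso
    haveI : Fact (Nat.Prime 7) := ⟨by norm_num⟩
    obtain ⟨Q, hQ⟩ := exists_fixed_sylow (r := 7) hE hn (by
      rw [card_sylow_congr e]
      exact card_sylow_seven_psl)
    have hcardL : Nat.card L = 7 ^ 1 * 24 := by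
      rw [Nat.card_congr e.toEquiv]
      have h1 := CfsgLib.Linear.card_PSL_mul (F := ZMod 7) (ZMod.card 7) 2 (by norm_num)
      norm_num [Nat.gcd] at h1
      simp_all [Finset.prod_range_succ]
      omega
    have hQc := CfsgLib.SmallSimple.card_sylow_eq Q hcardL (by norm_num)
    have := hR _ (map_subtype_le _) (by
      rw [← Nat.card_congr ((Q : Subgroup L).equivMapOfInjective _ L.subtype_injective).toEquiv,
        hQc]; norm_num) hQ
    rw [map_eq_bot_iff_of_injective _ L.subtype_injective] at this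
    rw [this, Subgroup.card_bot] at hQc
    norm_num at hQc

/-- Transfer into an abelian Sylow subgroup. -/
theorem exists_transfer {p : ℕ} [Fact p.Prime] (P : Sylow p G)
    (hc : ∀ a ∈ (P : Subgroup G), ∀ b ∈ (P : Subgroup G), a * b = b * a) :
    ∃ φ : G →* (P : Subgroup G),
      (∀ v ∈ (P : Subgroup G),
        (∀ n ∈ normalizer ((P : Subgroup G) : Set G), n * v * n⁻¹ = v) →
          (φ v : G) = v ^ (P : Subgroup G).index) ∧
      ∀ q n : G, n * q * n⁻¹ = q⁻¹ → φ q * φ q = 1 := by
  letI : CommGroup (P : Subgroup G) :=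
    { (inferInstance : Group (P : Subgroup G)) with
      mul_comm := fun a b => Subtype.ext (hc a a.2 b b.2) }
  refine ⟨MonoidHom.transfer (MonoidHom.id (P : Subgroup G)), fun v hv hfix => ?_,
    fun q n h => ?_⟩
  · have hkey : ∀ (k : ℕ) (g₀ : G), g₀⁻¹ * v ^ k * g₀ ∈ (P : Subgroup G) →
        g₀⁻¹ * v ^ k * g₀ = v ^ k := by
      intro k g₀ h
      haveI : IsMulCommutative (P : Subgroup G) := ⟨⟨fun a b => Subtype.ext (hc a a.2 b b.2)⟩⟩
      obtain ⟨n, hn, he⟩ := Sylow.conj_eq_normalizer_conj_of_mem P (v ^ k) g₀ (pow_mem hv k) h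
      rw [he]
      have := hfix n⁻¹ (inv_mem hn)
      rw [inv_inv] at this
      calc n⁻¹ * v ^ k * n = n⁻¹ * v ^ k * n⁻¹⁻¹ := by rw [inv_inv]
        _ = (n⁻¹ * v * n⁻¹⁻¹) ^ k := conj_pow.symm
        _ = v ^ k := by rw [inv_inv, this]
    rw [MonoidHom.transfer_eq_pow (MonoidHom.id (P : Subgroup G)) v hkey]
    rfl
  · have := congrArg (MonoidHom.transfer (MonoidHom.id (P : Subgroup G))) h
    rw [map_mul, map_mul, map_inv, map_inv, mul_right_comm, mul_inv_cancel, one_mul] at this
    rw [← mul_inv_cancel (MonoidHom.transfer (MonoidHom.id (P : Subgroup G)) q)]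
    nth_rw 2 [this]

end CfsgLib.ThreeSymNine
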