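import Cfsg.Agent.ThreeSymNine.Classes

/-!
# Finite checks for the even monomial automizer
-/

set_option autoImplicit false
set_option maxRecDepth 100000
set_option synthInstance.maxSize 100000
set_option synthInstance.maxHeartbeats 200000

namespace CfsgLib.ThreeSymNine

open CfsgLib.AltNine

attribute [local instance 10000] List.decidableBAll List.decidableBEx

/-- The even sign vectors. -/
def evenSigns : List (Fin 8) := [0, 3, 5, 6]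

/-- The code of a product of two even sign vectors. -/
def kx (i j : Fin 4) : Fin 4 := ⟨Nat.xor i.1 j.1 % 4, Nat.mod_lt _ (by decide)⟩

/-- The even sign vector with given code. -/
def kd (i : Fin 4) : Fin 8 := ⟨[0, 3, 5, 6].getD i.1 0 % 8, Nat.mod_lt _ (by decide)⟩

theorem b_reps : ∀ v : Fin 27, v ≠ 0 → ∃ d ∈ evenSigns, ∃ a : Fin 6,
    ∃ r ∈ ([13, 26, 4, 9] : List (Fin 27)), app (mono d a) r = v := by decide +kernel

theorem b_four : (∀ d ∈ evenSigns, ∀ a : Fin 6,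
      (∀ w ∈ ([4] : List (Fin 27)), app (mono d a) w = w) → mono d a ∈ [pmat 0, mono 0 1]) ∧
    app (mono 0 1) 4 = 4 ∧ app (mono 0 1) 7 = nv 7 ∧
    (∀ v, app (mono 0 1) (app (mono 0 1) v) = v) ∧
    (∀ v : Fin 27, ∃ f k, app (mono 0 1) f = f ∧ v = av f (sm k 7)) := by decide +kernel

/-- The stabilizer of the third basis vector. -/
def nineStab : List Mat := [pmat 0, mono 3 0, mono 0 1, mono 3 1]

theorem b_nine : (∀ d ∈ evenSigns, ∀ a : Fin 6,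
      (∀ w ∈ ([9] : List (Fin 27)), app (mono d a) w = w) → mono d a ∈ nineStab) ∧
    (∀ M ∈ nineStab, app M 9 = 9 ∧ mm M M = pmat 0 ∧ (∀ v, app M (app M v) = v) ∧
      ∃ d ∈ evenSigns, ∃ a, M = mono d a) ∧
    app (mono 3 0) 1 = nv 1 ∧ app (mono 3 0) 3 = nv 3 ∧
    (∀ d ∈ evenSigns, ∀ a : Fin 6,
      (∀ w ∈ ([9, 1, 3] : List (Fin 27)), app (mono d a) w = w) → mono d a ∈ [pmat 0]) ∧
    (∀ v : Fin 27, ∃ k a b, v = av (sm k 9) (av (sm a 1) (sm b 3))) := by decide +kernel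

theorem b_nine_loc : ∀ a b : Fin 3, av (sm a 1) (sm b 3) ≠ 0 →
    (∀ d ∈ evenSigns, ∀ e : Fin 6,
      (∀ w ∈ ([9, av (sm a 1) (sm b 3)] : List (Fin 27)), app (mono d e) w = w) →
        mono d e ∈ [pmat 0]) ∨
    ∃ T ∈ ([(0, 7), (3, 4)] : List (Fin 8 × Fin 27)),
      (∀ d ∈ evenSigns, ∀ e : Fin 6,
        (∀ w ∈ ([9, av (sm a 1) (sm b 3)] : List (Fin 27)), app (mono d e) w = w) →
          mono d e ∈ [pmat 0, mono T.1 1]) ∧
      T.1 ∈ evenSigns ∧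
      (∀ w ∈ ([9, av (sm a 1) (sm b 3)] : List (Fin 27)), app (mono T.1 1) w = w) ∧
      app (mono T.1 1) T.2 = nv T.2 ∧ T.2 ≠ 0 ∧
      (∀ v, app (mono T.1 1) (app (mono T.1 1) v) = v) ∧
      ∀ v : Fin 27, ∃ f k, app (mono T.1 1) f = f ∧ v = av f (sm k T.2) := by decide +kernel

theorem b_not_real : ∀ d ∈ evenSigns, ∀ a : Fin 6, app (mono d a) 13 ≠ 26 := by decide +kernel

theorem b_cube : (∀ d ∈ evenSigns, ∀ a : Fin 6, mm (mono d a) (mm (mono d a) (mono d a)) = pmat 0 →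
      (app (mono d a) 9 = 9 ∨ app (mono d a) 4 = 4) → mono d a = pmat 0) ∧
    (∀ w : Fin 27, ∀ a : Fin 6, pm a (pm a a) = 0 → a ≠ 0 → av w (pa a (av w (pa a w))) = 0 →
      (a = 4 ∨ a = 5) ∧ ∃ j, av j (nv (pa a j)) = w) ∧
    (∀ w : Fin 27, ∀ a : Fin 6, a ∈ ([4, 5] : List (Fin 6)) → av w (pa a (av w (pa a w))) ≠ 0 →
      av w (pa a (av w (pa a w))) = 13 ∨ av w (pa a (av w (pa a w))) = 26) := by decide +kernel

theorem b_cent_tau : (∀ d ∈ evenSigns, ∀ a : Fin 6,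
    (∀ v, app (mono d a) (app (pmat 1) v) = app (pmat 1) (app (mono d a) v)) →
      (d = 0 ∨ d = 3) ∧ (a = 0 ∨ a = 1) ∧
      (∀ v, app (mono d a) (app (mono d a) (app (mono d a) (app (mono d a) v))) = v) ∧
      app (mono d a) 9 = 9) ∧
    (∀ d ∈ evenSigns, ∀ a : Fin 6, (∀ v, app (pmat 1) v = v → app (mono d a) v = v) →
      mono d a = pmat 0 ∨ mono d a = pmat 1) ∧
    app (dmat 3) 4 = nv 4 ∧ app (dmat 3) 9 = 9 ∧ app (pmat 1) 4 = 4 ∧ app (pmat 1) 9 = 9 ∧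
    mm (dmat 3) (dmat 3) = pmat 0 ∧ mm (mm (pmat 1) (dmat 3)) (mm (pmat 1) (dmat 3)) = pmat 0 ∧
    mm (mm (mm (mm (dmat 3) (pmat 1)) (dmat 3)) (pmat 1)) (dmat 3) = dmat 3 ∧
    (∀ v, app (dmat 3) v = v → app (pmat 1) v = v) ∧
    (∀ v, app (pmat 1) v = v → ∃ k m : Fin 3, v = av (sm k 4) (sm m 9)) ∧
    (∀ d ∈ ([0, 3] : List (Fin 8)), ∀ a ∈ ([0, 1] : List (Fin 6)),
      mono d a = mm (pmat a) (dmat d)) := by decide +kernel

theorem b_klein : mm (dmat 5) (dmat 5) = pmat 0 ∧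
    mm (mm (dmat 3) (dmat 5)) (mm (dmat 3) (dmat 5)) = pmat 0 ∧
    mm (mm (mm (mm (dmat 5) (dmat 3)) (dmat 5)) (dmat 3)) (dmat 5) = dmat 5 ∧
    mm (mm (pmat 1) (dmat 5)) (pmat 1) = mm (dmat 3) (dmat 5) ∧
    mm (mm (pmat 4) (dmat 3)) (pmat 5) = dmat 6 ∧
    (∀ i j, mm (dmat (kd i)) (dmat (kd j)) = dmat (kd (kx i j))) ∧
    (∀ i j, dmat (kd i) = dmat (kd j) → i = j) ∧ (∀ d ∈ evenSigns, ∃ i, kd i = d) ∧
    (∀ d ∈ evenSigns, mm (dmat d) (mm (dmat d) (dmat d)) = pmat 0 → d = 0) := by decide +kernel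

theorem b_sigma : (∀ v, pa 4 v = v → v = 0 ∨ v = 13 ∨ v = 26) ∧
    (∀ a : Fin 6, pm a 4 = pm 4 a → a ∈ ([0, 4, 5] : List (Fin 6))) ∧
    (∀ i ∈ ([4, 5] : List (Fin 6)), ∀ k ∈ ([0, 13, 26] : List (Fin 27)),
      ∃ z, av z (nv (pa i z)) = k) ∧
    (∀ a ∈ ([0, 4, 5] : List (Fin 6)), ∀ c ∈ ([0, 4, 5] : List (Fin 6)),
      pm (pm c a) (pinv c) = a) ∧
    pm (pm 1 4) 1 = 5 ∧ pm (pm 1 5) 1 = 4 ∧ pm 4 4 = 5 := by decide +kernel

open Equiv in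
/-- The permutation with given code. -/
def pk (i : Fin 4) : Perm (Fin 9) :=
  if i = 0 then 1 else if i = 1 then swap 0 1 * swap 3 4
  else if i = 2 then swap 0 1 * swap 6 7 else swap 0 1 * swap 3 4 * (swap 0 1 * swap 6 7)

theorem b_perm : (∀ i w p, pk i (shift w p) = shift (app (dmat (kd i)) w) (pk i p)) ∧
    (∀ i j p, pk i (pk j p) = pk (kx i j) p) ∧
    (∀ v i, (∀ p, shift v (pk i p) = p) → v = 0 ∧ i = 0) ∧
    (∀ v : Fin 27, v = av (sm (dig v 0) 1) (av (sm (dig v 1) 3) (sm (dig v 2) 9))) ∧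
    (∀ i, kx i i = 0 ∧ kx 0 i = i) := by
  decide +kernel

open Equiv in
theorem b_gens : (∀ p : Fin 9, (swap 0 1 * swap 1 2 : Perm (Fin 9)) p = shift 1 p) ∧
    (∀ p : Fin 9, (swap 3 4 * swap 4 5 : Perm (Fin 9)) p = shift 3 p) ∧
    (∀ p : Fin 9, (swap 6 7 * swap 7 8 : Perm (Fin 9)) p = shift 9 p) := by decide +kernel

end CfsgLib.ThreeSymNine
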