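import Cfsg.Agent.ThreeSymNine.FullData
import Cfsg.Agent.ThreeSymNine.CaseA
import Cfsg.Agent.S3805
import Cfsg.Agent.S3333

/-!
# The full monomial automizer: centralizers of elements of the elementary abelian subgroup

Only the centralizer of a basis vector may escape the normalizer; it then has a direct factor
isomorphic to the symmetric group of degree six.
-/

set_option autoImplicit false
set_option maxRecDepth 100000
set_option synthInstance.maxSize 100000
set_option linter.style.haveILetI false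
set_option linter.unusedSectionVars false

namespace CfsgLib.ThreeSymNine

open CfsgLib.AltNine Subgroup

attribute [local instance 10000] List.decidableBAll List.decidableBEx

universe u

/-- The stabilizer of a vector of weight two. -/
def fourStab : List Mat := [pmat 0, mono 0 1, mono 4 0, mono 4 1]

/-- The character of that stabilizer. -/
def fourChar (M : Mat) : Multiplicative (ZMod 2 × ZMod 2) :=
  Multiplicative.ofAdd ((if app M 7 = 7 then 0 else 1), (if app M 9 = 9 then 0 else 1))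

/-- The stabilizer of a basis vector, with its elements named in the dihedral group. -/
def nineTab : List (Mat × DihedralGroup 4) :=
  [(pmat 0, DihedralGroup.r 0), (mono 1 1, DihedralGroup.r 1), (mono 3 0, DihedralGroup.r 2),
   (mono 2 1, DihedralGroup.r 3), (mono 0 1, DihedralGroup.sr 0), (mono 2 0, DihedralGroup.sr 1),
   (mono 3 1, DihedralGroup.sr 2), (mono 1 0, DihedralGroup.sr 3)]

/-- The isomorphism with the dihedral group. -/
def nineDih (M : Mat) : DihedralGroup 4 := ((nineTab.find? fun p => p.1 == M).map Prod.snd).getD 1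

theorem full_reps : ∀ v : Fin 27, v ≠ 0 → ∃ d ∈ allSigns, ∃ a : Fin 6,
    ∃ r ∈ ([13, 4, 9] : List (Fin 27)), app (mono d a) r = v := by decide +kernel

theorem four_tables : (∀ d ∈ allSigns, ∀ a : Fin 6,
      (∀ w ∈ ([4] : List (Fin 27)), app (mono d a) w = w) → mono d a ∈ fourStab) ∧
    (∀ M ∈ fourStab, app M 4 = 4 ∧ (∀ v, app M (app M v) = v) ∧
      ∃ d ∈ allSigns, ∃ a, M = mono d a) ∧
    app (mono 0 1) 7 = nv 7 ∧ app (mono 4 0) 9 = nv 9 ∧
    (∀ d ∈ allSigns, ∀ a : Fin 6,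
      (∀ w ∈ ([4, 7, 9] : List (Fin 27)), app (mono d a) w = w) → mono d a ∈ [pmat 0]) ∧
    (∀ v : Fin 27, ∃ k a b, v = av (sm k 4) (av (sm a 7) (sm b 9))) ∧
    (∀ A ∈ fourStab, ∀ B ∈ fourStab, fourChar (mm A B) = fourChar A * fourChar B) ∧
    (∀ A ∈ fourStab, fourChar A = 1 → A = pmat 0) ∧ fourChar (pmat 0) = 1 ∧
    ∀ k, ∃ A ∈ fourStab, fourChar A = k := by decide +kernel

theorem four_loc : ∀ a b : Fin 3, av (sm a 7) (sm b 9) ≠ 0 →
    (∀ d ∈ allSigns, ∀ e : Fin 6,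
      (∀ w ∈ ([4, av (sm a 7) (sm b 9)] : List (Fin 27)), app (mono d e) w = w) →
        mono d e ∈ [pmat 0]) ∨
    ∃ T ∈ ([(0, 1, 7), (4, 0, 9)] : List (Fin 8 × Fin 6 × Fin 27)),
      (∀ d ∈ allSigns, ∀ e : Fin 6,
        (∀ w ∈ ([4, av (sm a 7) (sm b 9)] : List (Fin 27)), app (mono d e) w = w) →
          mono d e ∈ [pmat 0, mono T.1 T.2.1]) ∧
      T.1 ∈ allSigns ∧
      (∀ w ∈ ([4, av (sm a 7) (sm b 9)] : List (Fin 27)), app (mono T.1 T.2.1) w = w) ∧
      app (mono T.1 T.2.1) T.2.2 = nv T.2.2 ∧ T.2.2 ≠ 0 ∧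
      (∀ v, app (mono T.1 T.2.1) (app (mono T.1 T.2.1) v) = v) ∧
      ∀ v : Fin 27, ∃ f k, app (mono T.1 T.2.1) f = f ∧ v = av f (sm k T.2.2) := by decide +kernel

theorem nine_tables : (∀ d ∈ allSigns, ∀ a : Fin 6,
      (∀ w ∈ ([9] : List (Fin 27)), app (mono d a) w = w) → mono d a ∈ nineTab.map Prod.fst) ∧
    (∀ M ∈ nineTab.map Prod.fst, app M 9 = 9 ∧ (∀ v, app M (app M (app M (app M v))) = v) ∧
      ∃ d ∈ allSigns, ∃ a, M = mono d a) ∧
    app (mono 3 0) 1 = nv 1 ∧ app (mono 3 0) 3 = nv 3 ∧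
    (∀ d ∈ allSigns, ∀ a : Fin 6,
      (∀ w ∈ ([9, 1, 3] : List (Fin 27)), app (mono d a) w = w) → mono d a ∈ [pmat 0]) ∧
    (∀ v : Fin 27, ∃ k a b, v = av (sm k 9) (av (sm a 1) (sm b 3))) ∧
    (∀ A ∈ nineTab.map Prod.fst, ∀ B ∈ nineTab.map Prod.fst,
      nineDih (mm A B) = nineDih A * nineDih B) ∧
    (∀ A ∈ nineTab.map Prod.fst, nineDih A = 1 → A = pmat 0) ∧ nineDih (pmat 0) = 1 ∧
    ∀ k, ∃ A ∈ nineTab.map Prod.fst, nineDih A = k := by decide +kernel

theorem nine_full_loc : ∀ a b : Fin 3, av (sm a 1) (sm b 3) ≠ 0 →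
    (∀ d ∈ allSigns, ∀ e : Fin 6,
      (∀ w ∈ ([9, av (sm a 1) (sm b 3)] : List (Fin 27)), app (mono d e) w = w) →
        mono d e ∈ [pmat 0]) ∨
    ∃ T ∈ ([(2, 0, 3), (1, 0, 1), (0, 1, 7), (3, 1, 4)] : List (Fin 8 × Fin 6 × Fin 27)),
      (∀ d ∈ allSigns, ∀ e : Fin 6,
        (∀ w ∈ ([9, av (sm a 1) (sm b 3)] : List (Fin 27)), app (mono d e) w = w) →
          mono d e ∈ [pmat 0, mono T.1 T.2.1]) ∧
      T.1 ∈ allSigns ∧
      (∀ w ∈ ([9, av (sm a 1) (sm b 3)] : List (Fin 27)), app (mono T.1 T.2.1) w = w) ∧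
      app (mono T.1 T.2.1) T.2.2 = nv T.2.2 ∧ T.2.2 ≠ 0 ∧
      (∀ v, app (mono T.1 T.2.1) (app (mono T.1 T.2.1) v) = v) ∧
      ∀ v : Fin 27, ∃ f k, app (mono T.1 T.2.1) f = f ∧ v = av f (sm k T.2.2) := by decide +kernel

namespace Hyp

variable {G : Type u} [Group G] [Finite G] {H : Hyp G}

/-- A centralizer of a pair with a vector of the complement normalizes. -/
theorem Signs.nine_loc (hs : H.Signs allSigns) (a b : Fin 3) (hne : av (sm a 1) (sm b 3) ≠ 0) :
    H.C [9, av (sm a 1) (sm b 3)] ≤ H.N := by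
  rcases nine_full_loc a b hne with h | ⟨T, -, t1, t2, t3, t4, t5, t6, t7⟩
  · exact hs.free_le _ h
  · exact hs.refl_le _ T.1 T.2.1 T.2.2 t2 t1 t3 t4 t5 t6 t7

theorem Signs.C_four (hs : H.Signs allSigns) : H.C [4] ≤ H.N := by
  obtain ⟨h1, h2, h3, h5, h6, h7, p1, p2, p3, p4⟩ := four_tables
  have hStW : ∀ M ∈ fourStab, H.Stab [4] M := fun M hM => by
    obtain ⟨e1, -, d, hd, a, rfl⟩ := h2 M hM
    exact ⟨hs.mem hd a, fun w hw => by rw [List.mem_singleton.1 hw]; exact e1⟩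
  have hSt : ∀ M, H.Stab [4] M ↔ M ∈ fourStab :=
    fun M => ⟨fun hM => hs.stab [4] _ h1 hM, hStW M⟩
  have hp : H.Pair 4 7 9 :=
    { inv1 := ⟨_, hStW (mono 0 1) (by decide +kernel), h3⟩
      inv2 := ⟨_, hStW (mono 4 0) (by decide +kernel), h5⟩
      free := fun M hM => List.mem_singleton.1 (hs.stab _ _ h6 hM)
      span := h7
      ne := by decide
      loc := fun a b hne => by
        rcases four_loc a b hne with h | ⟨T, -, t1, t2, t3, t4, t5, t6, t7⟩
        · exact hs.free_le _ h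
        · exact hs.refl_le _ T.1 T.2.1 T.2.2 t2 t1 t3 t4 t5 t6 t7 }
  obtain ⟨L, hL⟩ := H.exists_ker [4] fun M hM => (h2 M ((hSt M).1 hM)).2.1
  obtain ⟨T, hT, hcard, hcent, hexp, ⟨π, hπ, hker⟩, hloc, hfin⟩ :=
    H.pair_complement hp fourStab _ hSt p1 p2 p3 p4 L hL
  refine hfin (normalizer_eq_top_iff.1 ?_)
  haveI hn : ((T : Subgroup L).subgroupOf (normalizer ((T : Subgroup L) : Set L))).Normal :=
    hker ▸ π.normal_ker
  refine Cfsg.Agent.S3805.result T ⟨⟨⟨fun p q => ?_⟩⟩, fun t ht => hexp t ht⟩ hcard hcent ?_ hloc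
  · exact Subtype.ext (Subtype.ext (H.J_comm (mem_subgroupOf.1 (hT ▸ p.2))
      (mem_subgroupOf.1 (hT ▸ q.2))))
  · have e : (↥(normalizer ((T : Subgroup L) : Set L)) ⧸
        (T : Subgroup L).subgroupOf (normalizer ((T : Subgroup L) : Set L))) ≃*
        Multiplicative (ZMod 2 × ZMod 2) :=
      (QuotientGroup.quotientMulEquivOfEq hker.symm).trans
        (QuotientGroup.quotientKerEquivOfSurjective π hπ)
    haveI : IsKleinFour (Multiplicative (ZMod 2 × ZMod 2)) := inferInstance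
    exact ⟨(Nat.card_congr e.toEquiv).trans IsKleinFour.card_four,
      (Monoid.exponent_eq_of_mulEquiv e).trans IsKleinFour.exponent_two⟩

/-- The centralizer of a basis vector normalizes or has the symmetric group of degree six as
complement. -/
theorem Signs.C_nine (hs : H.Signs allSigns) : H.C [9] ≤ H.N ∨
    ∃ L : Subgroup G, H.Ker [9] L ∧ Nonempty (L ≃* Equiv.Perm (Fin 6)) := by
  obtain ⟨h1, h2, h3, h5, h6, h7, p1, p2, p3, p4⟩ := nine_tables
  have hStW : ∀ M ∈ nineTab.map Prod.fst, H.Stab [9] M := fun M hM => by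
    obtain ⟨e1, -, d, hd, a, rfl⟩ := h2 M hM
    exact ⟨hs.mem hd a, fun w hw => by rw [List.mem_singleton.1 hw]; exact e1⟩
  have hSt : ∀ M, H.Stab [9] M ↔ M ∈ nineTab.map Prod.fst :=
    fun M => ⟨fun hM => hs.stab [9] _ h1 hM, hStW M⟩
  have hp : H.Pair 9 1 3 :=
    { inv1 := ⟨_, hStW (mono 3 0) (by decide +kernel), h3⟩
      inv2 := ⟨_, hStW (mono 3 0) (by decide +kernel), h5⟩
      free := fun M hM => List.mem_singleton.1 (hs.stab _ _ h6 hM)
      span := h7
      ne := by decide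
      loc := hs.nine_loc }
  obtain ⟨L, hL⟩ := H.exists_ker' [9] fun M hM => (h2 M ((hSt M).1 hM)).2.1
  obtain ⟨T, hT, hcard, hcent, -, ⟨π, hπ, hker⟩, hloc, hfin⟩ :=
    H.pair_complement hp _ _ hSt p1 p2 p3 p4 L hL
  haveI hn : ((T : Subgroup L).subgroupOf (normalizer ((T : Subgroup L) : Set L))).Normal :=
    hker ▸ π.normal_ker
  rcases Cfsg.Agent.S3333.result T (T : Subgroup L) rfl hcard hcent
    ((QuotientGroup.quotientMulEquivOfEq hker.symm).trans
      (QuotientGroup.quotientKerEquivOfSurjective π hπ)) hloc with h | h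
  · exact Or.inl (hfin h)
  · exact Or.inr ⟨L, hL, h⟩

theorem Signs.C_thirteen (hs : H.Signs allSigns) {v : Fin 27} (hv : v ≠ 0)
    (h9 : H.C [9] ≤ H.N) : centralizer ({H.emb v} : Set G) ≤ H.N := by
  obtain ⟨d, hd, a, r, hr, rfl⟩ := full_reps v hv
  refine H.cent_le_transport (hs.mem hd a) ?_
  simp only [List.mem_cons, List.not_mem_nil, or_false] at hr
  rcases hr with rfl | rfl | rfl
  · exact H.cent_x_le
  · exact (H.C_singleton 4).symm.le.trans hs.C_four
  · exact (H.C_singleton 9).symm.le.trans h9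

/-- The elementary abelian subgroup is a Sylow subgroup of the centralizer of a basis vector. -/
theorem Signs.conj_into_J (hs : H.Signs allSigns) {U : Subgroup G} (hU : IsPGroup 3 U)
    (hUC : U ≤ H.C [9]) : ∃ k ∈ H.C [9], ∀ w ∈ U, k * w * k⁻¹ ∈ H.J := by
  haveI : Fact (Nat.Prime 3) := ⟨Nat.prime_three⟩
  obtain ⟨h1, h2, -⟩ := nine_tables
  obtain ⟨Q, hQ⟩ := H.sylow_C' [9] fun M hM => (h2 M (hs.stab [9] _ h1 hM)).2.1
  obtain ⟨R, hR⟩ :=
    (hU.of_equiv (subgroupOfEquivOfLe hUC).symm : IsPGroup 3 (U.subgroupOf (H.C [9]))).exists_le_sylow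
  obtain ⟨c, hc⟩ := MulAction.exists_smul_eq (H.C [9]) R Q
  refine ⟨c, c.2, fun w hw => ?_⟩
  have : c * ⟨w, hUC hw⟩ * c⁻¹ ∈ (Q : Subgroup (H.C [9])) := by
    rw [← hc, Sylow.coe_subgroup_smul]
    exact ⟨⟨w, hUC hw⟩, hR (show (⟨w, hUC hw⟩ : H.C [9]) ∈ U.subgroupOf (H.C [9]) from hw), rfl⟩
  rw [hQ] at this
  exact this

end Hyp

end CfsgLib.ThreeSymNine
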