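import Cfsg.Agent.ThreeSymNine.Auto
import Mathlib.GroupTheory.Sylow

/-!
# The Sylow three-subgroup and fusion in the elementary abelian group
-/

set_option autoImplicit false
set_option maxRecDepth 100000
set_option linter.style.haveILetI false

namespace CfsgLib.ThreeSymNine

open CfsgLib.AltNine Subgroup

attribute [local instance 10000] List.decidableBAll List.decidableBEx

universe u

namespace Hyp

variable {G : Type u} [Group G] (H : Hyp G)

/-- The normalizer of the elementary abelian subgroup. -/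
def N : Subgroup G := normalizer (H.J : Set G)

theorem mem_N [Finite G] {g : G} (hg : ∀ v, g * H.emb v * g⁻¹ ∈ H.J) : g ∈ H.N := by
  let f : H.J → H.J := fun y => ⟨g * y * g⁻¹, by
    obtain ⟨v, hv⟩ := y.2
    rw [← hv]
    exact hg v⟩
  have hf : Function.Injective f := fun a b e => Subtype.ext
    (mul_left_cancel (mul_right_cancel (show g * (a : G) * g⁻¹ = g * b * g⁻¹ from
      congrArg Subtype.val e)))
  refine mem_normalizer_iff.2 fun y => ⟨fun hy => (f ⟨y, hy⟩).2, fun hy => ?_⟩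
  obtain ⟨z, hz⟩ := Finite.surjective_of_injective hf ⟨_, hy⟩
  have e : g * (z : G) * g⁻¹ = g * y * g⁻¹ := congrArg Subtype.val hz
  rw [← mul_left_cancel (mul_right_cancel e)]
  exact z.2

theorem exists_induces_of_mem {g : G} (hg : g ∈ H.N) : ∃ M, H.Induces g M :=
  H.exists_induces fun v => (mem_normalizer_iff.1 hg _).1 (H.emb_mem v)

theorem Induces.mem_N {H : Hyp G} [Finite G] {g : G} {M : Mat} (hg : H.Induces g M) : g ∈ H.N :=
  H.mem_N fun v => by rw [hg v]; exact H.emb_mem _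

theorem J_le_N : H.J ≤ H.N := le_normalizer

theorem induces_J {j : G} (hj : j ∈ H.J) : H.Induces j (pmat 0) := fun v => by
  rw [app_pmat, pa_table.1 v, H.J_comm hj (H.emb_mem v), mul_inv_cancel_right]

theorem mem_J_of_induces_one {g : G} (hg : H.Induces g (pmat 0)) : g ∈ H.J :=
  H.mem_J_of_centralizes fun j hj => by
    obtain ⟨v, rfl⟩ := hj
    have := hg v
    rw [app_pmat, pa_table.1 v] at this
    exact mul_inv_eq_iff_eq_mul.1 this

theorem Induces.mul_inv_mem {H : Hyp G} {g h : G} {M : Mat} (hg : H.Induces g M)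
    (hh : H.Induces h M) : h⁻¹ * g ∈ H.J :=
  H.mem_J_of_centralizes fun j hj => by
    obtain ⟨v, rfl⟩ := hj
    have e : g * H.emb v * g⁻¹ = h * H.emb v * h⁻¹ := by rw [hg v, hh v]
    calc h⁻¹ * g * H.emb v = h⁻¹ * (g * H.emb v * g⁻¹) * g := by group
      _ = h⁻¹ * (h * H.emb v * h⁻¹) * g := by rw [e]
      _ = _ := by group

theorem mk_induces (v : Fin 27) (a : Fin 6) : H.Induces (H.emb v * H.S a) (pmat a) := fun w => by
  rw [app_pmat, mul_inv_rev, ← mul_assoc, mul_assoc (H.emb v), mul_assoc (H.emb v), H.S_act,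
    H.emb_comm v, mul_inv_cancel_right]

theorem abelian_eq {A : Subgroup G} (hA : A ≤ centralizer ({H.x} : Set G))
    (hcomm : ∀ a ∈ A, ∀ b ∈ A, a * b = b * a) (hcube : ∀ a ∈ A, a ^ 3 = 1)
    (hcard : Nat.card A = 27) : A = H.J := by
  classical
  haveI : Finite A := Nat.finite_of_card_ne_zero (by rw [hcard]; norm_num)
  haveI : Finite H.J := Nat.finite_of_card_ne_zero (by rw [H.card_J]; norm_num)
  refine Subgroup.eq_of_le_of_card_ge (fun g hg => ?_) (by rw [hcard, H.card_J])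
  obtain ⟨v, a, rfl⟩ := H.cent g (mem_centralizer_singleton_iff.1 (hA hg))
  by_cases ha : a = 0
  · rw [ha, H.S_zero, mul_one]; exact H.emb_mem v
  exfalso
  have h3 := hcube _ hg
  rw [pow_succ', pow_two, H.mul_mk, H.mul_mk] at h3
  have hc3 : pm a (pm a a) = 0 := (H.indep _ _ h3).2
  choose co hco using fun b : A => H.cent (b : G) (mem_centralizer_singleton_iff.1 (hA b.2))
  choose ca hca using hco
  have hmem : ∀ b : A, (co b, ca b) ∈ Finset.univ.filter fun p : Fin 27 × Fin 6 =>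
      av v (pa a p.1) = av p.1 (pa p.2 v) ∧ pm a p.2 = pm p.2 a := fun b => by
    have := hcomm _ hg _ b.2
    rw [hca b, H.mul_mk, H.mul_mk] at this
    exact Finset.mem_filter.2 ⟨Finset.mem_univ _, H.mk_inj this⟩
  have hinj : Function.Injective fun b : A => (⟨_, hmem b⟩ : {p // p ∈ Finset.univ.filter
      fun p : Fin 27 × Fin 6 => av v (pa a p.1) = av p.1 (pa p.2 v) ∧ pm a p.2 = pm p.2 a}) := by
    intro b c e
    have e' := congrArg Subtype.val e
    simp only [Prod.mk.injEq] at e'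
    exact Subtype.ext (by rw [hca b, hca c, e'.1, e'.2])
  have := Nat.card_le_card_of_injective _ hinj
  rw [hcard, Nat.card_eq_fintype_card, Fintype.card_coe] at this
  exact absurd (abelian_count v a hc3 ha) (by omega)

theorem three_codes : ∀ a b : Fin 6, a ∈ ([0, 4, 5] : List (Fin 6)) →
    b ∈ ([0, 4, 5] : List (Fin 6)) →
    pm a b ∈ ([0, 4, 5] : List (Fin 6)) ∧ pinv a ∈ ([0, 4, 5] : List (Fin 6)) := by decide +kernel

/-- The Sylow three-subgroup. -/
def P : Subgroup G where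
  carrier := {g | ∃ v a, a ∈ ([0, 4, 5] : List (Fin 6)) ∧ g = H.emb v * H.S a}
  mul_mem' := by
    rintro _ _ ⟨v, a, ha, rfl⟩ ⟨w, b, hb, rfl⟩
    exact ⟨_, _, (three_codes a b ha hb).1, H.mul_mk v w a b⟩
  one_mem' := ⟨0, 0, by simp, by rw [H.emb_zero, H.S_zero, mul_one]⟩
  inv_mem' := by
    rintro _ ⟨v, a, ha, rfl⟩
    refine ⟨pa (pinv a) (nv v), pinv a, (three_codes a a ha ha).2, ?_⟩
    rw [mul_inv_rev, H.S_inv, ← H.emb_nv, H.S_emb]

theorem P_le : H.P ≤ centralizer ({H.x} : Set G) := by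
  rintro _ ⟨v, a, -, rfl⟩
  exact mem_centralizer_singleton_iff.2 (H.commute_x_iff.2 ⟨v, a, rfl⟩)

theorem J_le_P : H.J ≤ H.P := by
  rintro _ ⟨v, rfl⟩
  exact ⟨v, 0, by simp, by rw [H.S_zero, mul_one]⟩

theorem card_P : Nat.card H.P = 81 := by
  let f : Fin 27 × Fin 3 → H.P := fun p =>
    ⟨H.emb p.1 * H.S ([0, 4, 5].getD p.2.1 0), p.1, _,
      (show ∀ i : Fin 3, ([0, 4, 5] : List (Fin 6)).getD i.1 0 ∈ ([0, 4, 5] : List (Fin 6)) by
        decide) p.2, rfl⟩
  have hf : Function.Bijective f := by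
    refine ⟨fun p q h => ?_, fun ⟨g, v, a, ha, hg⟩ => ?_⟩
    · obtain ⟨h1, h2⟩ := H.mk_inj (congrArg Subtype.val h)
      exact Prod.ext h1 ((show ∀ i j : Fin 3, ([0, 4, 5] : List (Fin 6)).getD i.1 0 =
        ([0, 4, 5] : List (Fin 6)).getD j.1 0 → i = j by decide) _ _ h2)
    · obtain ⟨i, rfl⟩ : ∃ i : Fin 3, ([0, 4, 5] : List (Fin 6)).getD i.1 0 = a :=
        (show ∀ a : Fin 6, a ∈ ([0, 4, 5] : List (Fin 6)) →
          ∃ i : Fin 3, ([0, 4, 5] : List (Fin 6)).getD i.1 0 = a by decide) a ha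
      exact ⟨(v, i), Subtype.ext hg.symm⟩
  rw [← Nat.card_congr (Equiv.ofBijective f hf)]
  simp

theorem isPGroup_P : IsPGroup 3 H.P := IsPGroup.of_card (n := 4) (H.card_P.trans rfl)

theorem isPGroup_J : IsPGroup 3 H.J := IsPGroup.of_card (n := 3) (H.card_J.trans rfl)

variable [Finite G]

theorem sylow_exists : ∃ Q : Sylow 3 G, (Q : Subgroup G) = H.P := by
  haveI : Fact (Nat.Prime 3) := ⟨Nat.prime_three⟩
  obtain ⟨Q, hQ⟩ := H.isPGroup_P.exists_le_sylow
  refine ⟨Q, le_antisymm ?_ hQ⟩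
  by_contra hne
  have hlt : H.P.subgroupOf (Q : Subgroup G) < ⊤ :=
    lt_top_iff_ne_top.2 fun e => hne (subgroupOf_eq_top.1 e)
  haveI := Q.2.isNilpotent
  obtain ⟨⟨g, hgQ⟩, hgn, hgP⟩ := SetLike.exists_of_lt
    (Group.normalizerCondition_of_isNilpotent _ hlt)
  have hgn' : ∀ y ∈ H.P, g * y * g⁻¹ ∈ H.P := fun y hy =>
    ((mem_normalizer_iff.1 hgn) ⟨y, hQ hy⟩).1 hy
  have e : H.J.map (MulAut.conj g).toMonoidHom = H.J := by
    refine H.abelian_eq ?_ ?_ ?_ ?_
    · rintro _ ⟨y, hy, rfl⟩; exact H.P_le (hgn' y (H.J_le_P hy))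
    · rintro _ ⟨y, hy, rfl⟩ _ ⟨z, hz, rfl⟩; rw [← map_mul, ← map_mul, H.J_comm hy hz]
    · rintro _ ⟨y, hy, rfl⟩; rw [← map_pow, H.J_cube hy, map_one]
    · rw [← Nat.card_congr (H.J.equivMapOfInjective _ (MulAut.conj g).injective).toEquiv, H.card_J]
  obtain ⟨M, hM⟩ := H.exists_induces (g := g) fun v => by
    rw [← e]; exact ⟨H.emb v, H.emb_mem v, rfl⟩
  have hfix : pa 4 (app M 13) = app M 13 := H.emb_inj (by
    have h4 : H.S 4 ∈ H.P := ⟨0, 4, by simp, by rw [H.emb_zero, one_mul]⟩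
    have hgi : g⁻¹ * H.S 4 * g ∈ H.P := by
      obtain ⟨y, hy⟩ : ∃ y ∈ H.P, g * y * g⁻¹ = H.S 4 := by
        let f : H.P → H.P := fun y => ⟨g * y * g⁻¹, hgn' y y.2⟩
        have hf : Function.Injective f := fun a b e => Subtype.ext (mul_left_cancel
          (mul_right_cancel (show g * (a : G) * g⁻¹ = g * b * g⁻¹ from congrArg Subtype.val e)))
        obtain ⟨y, hy⟩ := Finite.surjective_of_injective hf ⟨_, h4⟩
        exact ⟨y, y.2, congrArg Subtype.val hy⟩
      rw [← hy.2]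
      simpa [mul_assoc] using hy.1
    have hcx : g⁻¹ * H.S 4 * g * H.emb 13 = H.emb 13 * (g⁻¹ * H.S 4 * g) :=
      mem_centralizer_singleton_iff.1 (H.P_le hgi)
    rw [← H.S_act, ← hM]
    calc H.S 4 * (g * H.emb 13 * g⁻¹) * (H.S 4)⁻¹
        = g * (g⁻¹ * H.S 4 * g * H.emb 13) * g⁻¹ * (H.S 4)⁻¹ := by group
      _ = g * (H.emb 13 * (g⁻¹ * H.S 4 * g)) * g⁻¹ * (H.S 4)⁻¹ := by rw [hcx]
      _ = _ := by group)
  have hdiag : ∀ v, pa 4 v = v → v = 0 ∨ v = 13 ∨ v = 26 := by decide +kernel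
  have hgx : g * H.emb 13 = H.emb 13 * g := by
    rcases hdiag _ hfix with h | h | h
    · exact absurd (hM.eq_zero h) (by decide +kernel)
    · have := hM 13
      rw [h] at this
      exact mul_inv_eq_iff_eq_mul.1 this
    · exfalso
      have h1 := hM 13
      rw [h, show (26 : Fin 27) = nv 13 by decide +kernel, H.emb_nv] at h1
      obtain ⟨k, hk⟩ := Q.2 ⟨g, hgQ⟩
      have hk' : g ^ 3 ^ k = 1 := congrArg Subtype.val hk
      have hi : ∀ n : ℕ, g ^ (2 * n + 1) * H.emb 13 * (g ^ (2 * n + 1))⁻¹ = (H.emb 13)⁻¹ := by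
        intro n
        induction n with
        | zero => simpa using h1
        | succ n ih =>
          rw [show 2 * (n + 1) + 1 = 2 * n + 1 + 1 + 1 by ring, pow_succ, pow_succ]
          calc g ^ (2 * n + 1) * g * g * H.emb 13 * (g ^ (2 * n + 1) * g * g)⁻¹
              = g ^ (2 * n + 1) * (g * (g * H.emb 13 * g⁻¹) * g⁻¹) * (g ^ (2 * n + 1))⁻¹ := by
                group
            _ = g ^ (2 * n + 1) * (g * H.emb 13 * g⁻¹)⁻¹ * (g ^ (2 * n + 1))⁻¹ := by
                conv_lhs => rw [h1]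
                group
            _ = _ := by rw [h1, inv_inv, ih]
      obtain ⟨n, hn⟩ := (show Odd (3 ^ k) from Odd.pow (by decide))
      have := hi n
      rw [← hn, hk', one_mul, inv_one, mul_one, ← H.emb_nv] at this
      exact absurd (H.emb_inj this) (by decide +kernel)
  obtain ⟨v, a, hva⟩ := H.cent g hgx
  have ha : a ∈ ([0, 4, 5] : List (Fin 6)) := by
    by_contra ha
    have h2 : pm a a = 0 := (show ∀ a : Fin 6, a ∉ ([0, 4, 5] : List (Fin 6)) → pm a a = 0 by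
      decide +kernel) a ha
    have hg2 : g * g ∈ H.J := by rw [hva, H.mul_mk, h2, H.S_zero, mul_one]; exact H.emb_mem _
    obtain ⟨k, hk⟩ := Q.2 ⟨g, hgQ⟩
    have hk' : g ^ 3 ^ k = 1 := congrArg Subtype.val hk
    obtain ⟨n, hn⟩ := (show Odd (3 ^ k) from Odd.pow (by decide))
    rw [hn, pow_succ, pow_mul, pow_two] at hk'
    apply hgP
    have : g = ((g * g) ^ n)⁻¹ := eq_inv_of_mul_eq_one_right hk'
    show g ∈ H.P
    rw [this]
    exact inv_mem (pow_mem (H.J_le_P hg2) n)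
  exact hgP (show g ∈ H.P from ⟨v, a, ha, hva⟩)

/-- Two conjugates of the elementary abelian subgroup in a common three-subgroup coincide. -/
theorem mem_N_of_conj {Q : Subgroup G} (hQ : IsPGroup 3 Q) (hJ : H.J ≤ Q) {g : G}
    (hg : ∀ v, g * H.emb v * g⁻¹ ∈ Q) : g ∈ H.N := by
  haveI : Fact (Nat.Prime 3) := ⟨Nat.prime_three⟩
  obtain ⟨T, hT⟩ := hQ.exists_le_sylow
  obtain ⟨S, hS⟩ := H.sylow_exists
  obtain ⟨u, hu⟩ := MulAction.exists_smul_eq G T S
  have hmap : ∀ y ∈ Q, u * y * u⁻¹ ∈ H.P := fun y hy => by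
    rw [← hS, ← hu, Sylow.coe_subgroup_smul]
    exact ⟨y, hT hy, rfl⟩
  have key : ∀ c : G, (∀ v, c * H.emb v * c⁻¹ ∈ H.P) → c ∈ H.N := by
    intro c hc
    have e : H.J.map (MulAut.conj c).toMonoidHom = H.J := by
      refine H.abelian_eq ?_ ?_ ?_ ?_
      · rintro _ ⟨y, ⟨v, rfl⟩, rfl⟩; exact H.P_le (hc v)
      · rintro _ ⟨y, hy, rfl⟩ _ ⟨z, hz, rfl⟩; rw [← map_mul, ← map_mul, H.J_comm hy hz]
      · rintro _ ⟨y, hy, rfl⟩; rw [← map_pow, H.J_cube hy, map_one]
      · rw [← Nat.card_congr (H.J.equivMapOfInjective _ (MulAut.conj c).injective).toEquiv,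
          H.card_J]
    exact H.mem_N fun v => by rw [← e]; exact ⟨H.emb v, H.emb_mem v, rfl⟩
  have hu' : u ∈ H.N := key u fun v => hmap _ (hJ (H.emb_mem v))
  have hug : u * g ∈ H.N := key _ fun v => by
    have := hmap _ (hg v)
    simpa [mul_assoc] using this
  have := mul_mem (inv_mem hu') hug
  rwa [inv_mul_cancel_left] at this

/-- Fusion in the elementary abelian subgroup is controlled by the normalizer. -/
theorem fusion {v w : Fin 27} {g : G} (hg : g * H.emb v * g⁻¹ = H.emb w) :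
    ∃ c, c * H.emb w = H.emb w * c ∧ c * g ∈ H.N := by
  haveI : Fact (Nat.Prime 3) := ⟨Nat.prime_three⟩
  set C := centralizer ({H.emb w} : Set G)
  have hJC : H.J ≤ C := fun z hz =>
    mem_centralizer_singleton_iff.2 (H.J_comm hz (H.emb_mem w))
  set J' := H.J.map (MulAut.conj g).toMonoidHom
  have hJ'C : J' ≤ C := by
    rintro _ ⟨z, hz, rfl⟩
    refine mem_centralizer_singleton_iff.2 ?_
    rw [← hg]
    show MulAut.conj g z * MulAut.conj g (H.emb v) = MulAut.conj g (H.emb v) * MulAut.conj g z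
    rw [← map_mul, ← map_mul, H.J_comm hz (H.emb_mem v)]
  have hp : IsPGroup 3 (H.J.subgroupOf C) :=
    H.isPGroup_J.of_equiv (subgroupOfEquivOfLe hJC).symm
  have hp' : IsPGroup 3 (J'.subgroupOf C) :=
    (H.isPGroup_J.map _).of_equiv (subgroupOfEquivOfLe hJ'C).symm
  obtain ⟨Q1, hQ1⟩ := hp.exists_le_sylow
  obtain ⟨Q2, hQ2⟩ := hp'.exists_le_sylow
  obtain ⟨c, hc⟩ := MulAction.exists_smul_eq C Q2 Q1
  refine ⟨c, mem_centralizer_singleton_iff.1 c.2, ?_⟩
  refine H.mem_N_of_conj (Q := (Q1 : Subgroup C).map C.subtype) (Q1.2.map _)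
    (fun z hz => ⟨⟨z, hJC hz⟩, hQ1 hz, rfl⟩) fun z => ?_
  have hz' : g * H.emb z * g⁻¹ ∈ J' := ⟨_, H.emb_mem z, rfl⟩
  refine ⟨c * ⟨_, hJ'C hz'⟩ * c⁻¹, ?_, by simp [mul_assoc]⟩
  rw [← hc, Sylow.coe_subgroup_smul]
  exact ⟨⟨_, hJ'C hz'⟩, hQ2 hz', rfl⟩

/-- Conjugate elements of the elementary abelian subgroup are conjugate by an induced matrix. -/
theorem fusion_app {v w : Fin 27} {g : G} (hg : g * H.emb v * g⁻¹ = H.emb w) :
    ∃ M, H.W M ∧ app M v = w := by
  obtain ⟨c, hc, hcg⟩ := H.fusion hg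
  obtain ⟨M, hM⟩ := H.exists_induces_of_mem hcg
  refine ⟨M, ⟨_, hM⟩, H.emb_inj ?_⟩
  rw [← hM]
  calc c * g * H.emb v * (c * g)⁻¹ = c * (g * H.emb v * g⁻¹) * c⁻¹ := by group
    _ = _ := by rw [hg, hc, mul_inv_cancel_right]

/-- An element conjugating a member to one with centralizer in the normalizer normalizes. -/
theorem mem_N_of_fusion {v w : Fin 27} {g : G} (hg : g * H.emb v * g⁻¹ = H.emb w)
    (hC : centralizer ({H.emb w} : Set G) ≤ H.N) : g ∈ H.N := by
  obtain ⟨c, hc, hcg⟩ := H.fusion hg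
  have := mul_mem (inv_mem (hC (mem_centralizer_singleton_iff.2 hc))) hcg
  rwa [inv_mul_cancel_left] at this

/-- Centralizers in the normalizer pass to fused elements. -/
theorem cent_le_transport {M : Mat} (hM : H.W M) {v : Fin 27}
    (hC : centralizer ({H.emb v} : Set G) ≤ H.N) :
    centralizer ({H.emb (app M v)} : Set G) ≤ H.N := by
  obtain ⟨n, hn⟩ := hM
  intro c hc
  have h1 : n⁻¹ * c * n ∈ centralizer ({H.emb v} : Set G) := by
    rw [mem_centralizer_singleton_iff] at hc ⊢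
    rw [← hn] at hc
    calc n⁻¹ * c * n * H.emb v = n⁻¹ * (c * (n * H.emb v * n⁻¹)) * n := by group
      _ = n⁻¹ * (n * H.emb v * n⁻¹ * c) * n := by rw [hc]
      _ = _ := by group
  have := mul_mem (mul_mem hn.mem_N (hC h1)) (inv_mem hn.mem_N)
  simpa [mul_assoc] using this

theorem cent_x_le : centralizer ({H.x} : Set G) ≤ H.N := fun g hg => by
  obtain ⟨v, a, rfl⟩ := H.cent g (mem_centralizer_singleton_iff.1 hg)
  exact (H.mk_induces v a).mem_N

end Hyp

end CfsgLib.ThreeSymNine
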