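import Cfsg.Agent.ThreeSymNine.Model

/-!
# Matrices over the field of three elements preserving the stabilizer condition

A matrix is the triple of images of the basis. The condition is that the stabilizer of `(1,1,1)`
in the group consists of the coordinate permutations; this forces monomial matrices, up to a change
of basis commuting with the coordinate permutations.
-/

set_option autoImplicit false
set_option maxRecDepth 100000

namespace CfsgLib.ThreeSymNine

open CfsgLib.AltNine

attribute [local instance 10000] List.decidableBAll List.decidableBEx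

/-- A matrix. -/
abbrev Mat := Fin 27 × Fin 27 × Fin 27

/-- Scalar multiplication. -/
def sm (k : Fin 3) (v : Fin 27) : Fin 27 := if k = 0 then 0 else if k = 1 then v else nv v

/-- Application of a matrix. -/
def app (M : Mat) (v : Fin 27) : Fin 27 :=
  av (av (sm (dig v 0) M.1) (sm (dig v 1) M.2.1)) (sm (dig v 2) M.2.2)

/-- Product of matrices. -/
def mm (A B : Mat) : Mat := (app A B.1, app A B.2.1, app A B.2.2)

/-- A permutation matrix. -/
def pmat (a : Fin 6) : Mat := (pa a 1, pa a 3, pa a 9)

/-- A diagonal matrix, from three sign bits. -/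
def dmat (d : Fin 8) : Mat :=
  (if d.1 % 2 = 0 then 1 else 2, if d.1 / 2 % 2 = 0 then 3 else 6, if d.1 / 4 = 0 then 9 else 18)

/-- A monomial matrix. -/
def mono (d : Fin 8) (a : Fin 6) : Mat := mm (dmat d) (pmat a)

/-- The permutation matrices. -/
def pList : List Mat := (List.finRange 6).map pmat

/-- Injectivity. -/
def injB (M : Mat) : Bool := (List.finRange 27).all fun v => v == 0 || app M v != 0

/-- A word with three occurrences violating the stabilizer condition. -/
def bad3 (A B : Mat) : Bool :=
  (List.finRange 6).any fun s => (List.finRange 6).any fun t =>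
    app A (pa s (app B (pa t (app A 13)))) == 13 &&
      !(pList.contains (mm A (mm (pmat s) (mm B (mm (pmat t) A)))))

/-- A word with four occurrences violating the stabilizer condition. -/
def bad4 (M : Mat) : Bool :=
  (List.finRange 6).any fun s => (List.finRange 6).any fun t => (List.finRange 6).any fun u =>
    app M (pa s (app M (pa t (app M (pa u (app M 13)))))) == 13 &&
      !(pList.contains (mm M (mm (pmat s) (mm M (mm (pmat t) (mm M (mm (pmat u) M)))))))

/-- The monomial matrices commuting with the first transposition. -/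
def monoGood : List Mat := [(1, 3, 18), (3, 1, 18), (2, 6, 9), (6, 2, 9)]

/-- The matrices commuting with the first transposition without violation. -/
def goodList : List Mat :=
  monoGood ++ [(2, 6, 13), (6, 2, 13), (1, 3, 26), (3, 1, 26), (19, 21, 18), (21, 19, 18),
    (11, 15, 9), (15, 11, 9)]

/-- The representatives of the short orbits. -/
def pSix : List (Fin 27) := [9, 18, 4, 8, 22, 17]

/-- A change of basis commuting with the permutations. -/
def zv (b : Fin 3) (v : Fin 27) : Fin 27 :=
  av v (sm ⟨(b.1 * ((dig v 0).1 + (dig v 1).1 + (dig v 2).1)) % 3, Nat.mod_lt _ (by decide)⟩ 13)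

theorem app_pmat : ∀ a v, app (pmat a) v = pa a v := by decide +kernel

theorem app_basis : ∀ c0 c1 : Fin 27, av (av (sm 1 c0) (sm 0 c1)) (sm 0 c1) = c0 ∧
    av (av (sm 0 c1) (sm 1 c0)) (sm 0 c1) = c0 ∧ av (av (sm 0 c1) (sm 0 c1)) (sm 1 c0) = c0 := by
  decide +kernel

theorem app_one (M : Mat) : app M 1 = M.1 ∧ app M 3 = M.2.1 ∧ app M 9 = M.2.2 := by
  obtain ⟨a, b, c⟩ := M
  refine ⟨?_, ?_, ?_⟩
  · show av (av (sm 1 a) (sm 0 b)) (sm 0 c) = a
    rw [show sm 0 c = sm 0 b from rfl]
    exact (app_basis a b).1
  · show av (av (sm 0 a) (sm 1 b)) (sm 0 c) = b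
    rw [show sm 0 c = sm 0 a from rfl]
    exact (app_basis b a).2.1
  · show av (av (sm 0 a) (sm 0 b)) (sm 1 c) = c
    rw [show sm 0 b = sm 0 a from rfl]
    exact (app_basis c a).2.2

theorem ext_app {A B : Mat} (h : ∀ v, app A v = app B v) : A = B := by
  obtain ⟨a1, a3, a9⟩ := app_one A
  obtain ⟨b1, b3, b9⟩ := app_one B
  refine Prod.ext ?_ (Prod.ext ?_ ?_)
  · rw [← a1, h, b1]
  · rw [← a3, h, b3]
  · rw [← a9, h, b9]

theorem neg_table : ∀ c0 c1 : Fin 27,
    let M : Mat := (c0, c1, av (nv (av c0 c1)) 26)
    injB M = true → pList.contains (mm M M) = true →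
      (∀ a : Fin 6, ∃ b : Fin 6, mm (pmat a) M = mm M (pmat b)) →
      ∃ a : Fin 6, M = mono 7 a := by decide +kernel

theorem six_table : ∀ c0 c1 : Fin 27,
    let M : Mat := (c0, c1, av (nv (av c0 c1)) 7)
    injB M = true → (bad3 M M || bad4 M) = true := by decide +kernel

theorem tau_table : ∀ c0 c2 : Fin 27, pa 1 c2 = c2 →
    let M : Mat := (c0, pa 1 c0, c2)
    pSix.contains (app M 13) = true → injB M = true →
      (bad4 M || goodList.contains M) = true := by decide +kernel

theorem good_table : ∀ M ∈ goodList, ∃ b : Fin 3, ∃ A ∈ monoGood,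
    (∀ v : Fin 27, zv b (app A v) = app M (zv b v)) ∧ pSix.contains (app A 13) = true := by
  decide +kernel

theorem pair_table : ∀ A ∈ monoGood, ∀ B ∈ goodList, B ∈ monoGood ∨
    (bad3 A B || bad3 B A) = true := by decide +kernel

theorem monoGood_table : ∀ A ∈ monoGood, ∃ d : Fin 8, ∃ a : Fin 6, A = mono d a := by
  decide +kernel

theorem mono_closed : ∀ d a b c, ∃ d' a',
    mm (pmat b) (mm (mono d a) (pmat c)) = mono d' a' := by decide +kernel

theorem rep_table : ∀ p : Fin 27, p = 0 ∨ p = 13 ∨ p = 26 ∨
    ∃ a : Fin 6, pSix.contains (pa a p) = true ∨ pa a p = 7 := by decide +kernel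

theorem zv_table : (∀ b a v, zv b (pa a v) = pa a (zv b v)) ∧
    (∀ b u v, zv b (av u v) = av (zv b u) (zv b v)) ∧ (∀ b, zv b 13 = 13) ∧
    (∀ b v, zv b v = 0 → v = 0) ∧ (∀ b v, ∃ w, zv b w = v) := by decide +kernel

theorem mono_neg : ∀ a, mono 7 a = mm (dmat 7) (pmat a) := fun _ => rfl

end CfsgLib.ThreeSymNine
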