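import Cfsg.Agent.ThreeLocalNine.AltSix

/-!
# Normalized isomorphisms with the symmetric group of degree six
-/

set_option autoImplicit false
set_option maxRecDepth 100000
set_option synthInstance.maxSize 100000

namespace CfsgLib.ThreeSymNine.Six

open Equiv CfsgLib.ThreeLocalNine

attribute [local instance 10000] List.decidableBAll List.decidableBEx

universe u

/-- The permutation exchanging the two triples. -/
def tp : Perm (Fin 6) := swap 0 3 * swap 1 4 * swap 2 5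

theorem conj_a_table : ∀ σ : Perm (Fin 6), σ * σ = 1 → σ * p2 * σ = p2⁻¹ → σ * p3 = p3 * σ →
    ∃ i : Fin 3, p2 ^ (i : ℕ) * σ * (p2 ^ (i : ℕ))⁻¹ = swap 0 1 := by decide +kernel

theorem conj_s_table : ∀ σ : Perm (Fin 6), σ * σ = 1 → σ * p2 * σ = p3 →
    ∃ j : Fin 3, p3 ^ (j : ℕ) * σ * (p3 ^ (j : ℕ))⁻¹ = tp := by decide +kernel

theorem gen_table : (∀ i : Fin 3, p2 ^ (i : ℕ) * p3 = p3 * p2 ^ (i : ℕ)) ∧
    (∀ j : Fin 3, p3 ^ (j : ℕ) * p2 = p2 * p3 ^ (j : ℕ) ∧
      p3 ^ (j : ℕ) * swap 0 1 = swap 0 1 * p3 ^ (j : ℕ)) ∧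
    tp * swap 0 1 * tp = swap 3 4 ∧
    ∃ i j : Fin 3, ∃ k l m : Fin 2,
      pw = p2 ^ (i : ℕ) * p3 ^ (j : ℕ) * swap 0 1 ^ (k : ℕ) * swap 3 4 ^ (l : ℕ) * tp ^ (m : ℕ) := by
  decide +kernel

theorem center_table : ∀ σ : Perm (Fin 6), σ * p2 = p2 * σ → σ * pw = pw * σ →
    σ * px = px * σ → σ = 1 := by decide +kernel

theorem eq_one_of_commute_alt {σ : Perm (Fin 6)} (h : ∀ x : A6, σ * x = x * σ) : σ = 1 :=
  center_table σ (h T2) (h W) (h ⟨px, px_facts.1⟩)

theorem exotic_bijective : Function.Bijective exotic := by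
  refine Finite.injective_iff_bijective.1 ((MonoidHom.ker_eq_bot_iff _).1 ?_)
  refine (Subgroup.eq_bot_iff_forall _).2 fun k hk => eq_one_of_commute_alt fun x => ?_
  -- the commutator lies in the kernel of the restriction
  have hc : k * (x : Perm (Fin 6)) * k⁻¹ * (x : Perm (Fin 6))⁻¹ ∈ A6 := by
    refine Perm.mem_alternatingGroup.2 ?_
    rw [map_mul, map_mul, map_mul, map_inv, map_inv, mul_right_comm (Perm.sign k), mul_inv_cancel,
      one_mul, mul_inv_cancel]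
  have h1 : exotic6 ⟨_, hc⟩ = 1 := Subtype.ext (by
    rw [exotic6_val]
    show exotic (k * (x : Perm (Fin 6)) * k⁻¹ * (x : Perm (Fin 6))⁻¹) = 1
    rw [map_mul, map_mul, map_mul, map_inv, map_inv, (MonoidHom.mem_ker).1 hk]
    simp)
  have h2 : (⟨_, hc⟩ : A6) = 1 := exotic6_bijective.1 (h1.trans (map_one _).symm)
  have h3 := congrArg Subtype.val h2
  simp only [OneMemClass.coe_one] at h3
  exact mul_inv_eq_iff_eq_mul.1 (mul_inv_eq_one.1 h3)

theorem sign_of_cube {σ : Perm (Fin 6)} (h : σ ^ 3 = 1) : Perm.sign σ = 1 := by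
  have h1 := congrArg Perm.sign h
  rw [map_pow, map_one] at h1
  rcases Int.units_eq_one_or (Perm.sign σ) with e | e
  · exact e
  · rw [e] at h1; exact absurd h1 (by decide)

/-- An isomorphism carrying the given generators to the standard ones. -/
theorem exists_normal {L : Type u} [Group L] (φ₀ : L ≃* Perm (Fin 6)) {e1 e2 a s : L}
    (he1 : e1 ≠ 1) (h13 : e1 ^ 3 = 1) (h23 : e2 ^ 3 = 1) (hcomm : e1 * e2 = e2 * e1)
    (ha2 : a * a = 1) (ha1 : a * e1 * a = e1⁻¹) (hae2 : a * e2 = e2 * a)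
    (hs2 : s * s = 1) (hs1 : s * e1 * s = e2) :
    ∃ φ : L ≃* Perm (Fin 6), φ e1 = p2 ∧ φ e2 = p3 ∧ φ a = swap 0 1 ∧ φ s = tp ∧
      φ (s * a * s) = swap 3 4 := by
  obtain ⟨φ1, hcard⟩ : ∃ φ : L ≃* Perm (Fin 6), (φ e1).support.card = 3 := by
    rcases order_three_table (φ₀ e1) (by rw [← map_pow, h13, map_one])
      (fun e => he1 (φ₀.map_eq_one_iff.1 e)) with h | h
    · exact ⟨φ₀, h⟩
    · refine ⟨φ₀.trans (MulEquiv.ofBijective exotic exotic_bijective), ?_⟩
      obtain ⟨c, hc⟩ := isConj_iff.1 (Perm.isConj_iff_cycleType_eq.2 h)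
      have e : φ₀ e1 = c⁻¹ * p23 * c := by rw [← hc]; group
      show (exotic (φ₀ e1)).support.card = 3
      rw [e, map_mul, map_mul, map_inv, show (exotic c)⁻¹ * exotic p23 * exotic c =
        (exotic c)⁻¹ * exotic p23 * ((exotic c)⁻¹)⁻¹ by rw [inv_inv], Perm.card_support_conj,
        exotic_p23]
      exact exotic_p23_table.2.2.2.2.2.2
  obtain ⟨c, hc⟩ := isConj_iff.1 (Perm.isConj_iff_cycleType_eq.2
    (show (φ1 e1).cycleType = p2.cycleType by
      rw [(card_support_eq_three_iff.1 hcard : Perm.IsThreeCycle _),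
        (card_support_eq_three_iff.1 flip_table.2.2.1 : Perm.IsThreeCycle p2)]))
  let φ2 := φ1.trans (MulAut.conj c)
  have h2 : φ2 e1 = p2 := hc
  have hy : φ2 e2 = p3 ∨ φ2 e2 = p3⁻¹ := by
    have e : φ2 e2 = φ2 s * p2 * (φ2 s)⁻¹ := by
      rw [← hs1, map_mul, map_mul, h2, ← map_inv, inv_eq_of_mul_eq_one_right hs2]
    have hne : e2 ≠ e1 ∧ e2 ≠ e1⁻¹ := by
      have hee : e1⁻¹ ≠ e1 := fun he => he1 (by
        have h' : e1 * e1 = 1 := mul_eq_one_iff_eq_inv.2 he.symm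
        rw [pow_succ, pow_two, h', one_mul] at h13
        exact h13)
      have hconj : ∀ z, a * z = z * a → a * z * a = z := fun z hz => by
        rw [hz, mul_assoc, ha2, mul_one]
      constructor
      · intro h
        rw [h] at hae2
        exact hee (ha1.symm.trans (hconj _ hae2))
      · intro h
        rw [h] at hae2
        have h' : a * e1 = e1 * a := by
          have := (show Commute a e1⁻¹ from hae2).inv_right.eq
          rwa [inv_inv] at this
        exact hee (ha1.symm.trans (hconj _ h'))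
    rcases centralizer_p2_table (φ2 e2) (by rw [← map_pow, h23, map_one])
      (by rw [← h2, ← map_mul, ← map_mul, hcomm])
      (by rw [e, Perm.card_support_conj]; exact flip_table.2.2.1) with h | h | h | h
    · exact Or.inl h
    · exact Or.inr h
    · exact absurd (φ2.injective (h.trans h2.symm)) hne.1
    · exact absurd (φ2.injective (h.trans (by rw [map_inv, h2]))) hne.2
  obtain ⟨φ3, g1, g2⟩ : ∃ φ : L ≃* Perm (Fin 6), φ e1 = p2 ∧ φ e2 = p3 := by
    rcases hy with h | h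
    · exact ⟨φ2, h2, h⟩
    · obtain ⟨f1, f2, -, -⟩ := flip_table
      refine ⟨φ2.trans (MulAut.conj (swap 3 4)), ?_, ?_⟩
      · show swap 3 4 * φ2 e1 * (swap 3 4)⁻¹ = p2
        rw [h2]; exact f1
      · show swap 3 4 * φ2 e2 * (swap 3 4)⁻¹ = p3
        rw [h]; exact f2
  obtain ⟨hp23, hp32, htp, -⟩ := gen_table
  obtain ⟨i, hi⟩ := conj_a_table (φ3 a) (by rw [← map_mul, ha2, map_one])
    (by rw [← g1, ← map_inv, ← map_mul, ← map_mul, ha1])
    (by rw [← g2, ← map_mul, ← map_mul, hae2])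
  let φ4 := φ3.trans (MulAut.conj (p2 ^ (i : ℕ)))
  have k1 : φ4 e1 = p2 := by
    show p2 ^ (i : ℕ) * φ3 e1 * (p2 ^ (i : ℕ))⁻¹ = p2
    rw [g1, ((Commute.refl p2).pow_left _).eq, mul_inv_cancel_right]
  have k2 : φ4 e2 = p3 := by
    show p2 ^ (i : ℕ) * φ3 e2 * (p2 ^ (i : ℕ))⁻¹ = p3
    rw [g2, hp23, mul_inv_cancel_right]
  have k3 : φ4 a = swap 0 1 := hi
  obtain ⟨j, hj⟩ := conj_s_table (φ4 s) (by rw [← map_mul, hs2, map_one])
    (by rw [← k1, ← map_mul, ← map_mul, hs1, k2])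
  refine ⟨φ4.trans (MulAut.conj (p3 ^ (j : ℕ))), ?_, ?_, ?_, hj, ?_⟩
  · show p3 ^ (j : ℕ) * φ4 e1 * (p3 ^ (j : ℕ))⁻¹ = p2
    rw [k1, (hp32 j).1, mul_inv_cancel_right]
  · show p3 ^ (j : ℕ) * φ4 e2 * (p3 ^ (j : ℕ))⁻¹ = p3
    rw [k2, ((Commute.refl p3).pow_left _).eq, mul_inv_cancel_right]
  · show p3 ^ (j : ℕ) * φ4 a * (p3 ^ (j : ℕ))⁻¹ = swap 0 1
    rw [k3, (hp32 j).2, mul_inv_cancel_right]
  · rw [map_mul, map_mul, show (φ4.trans (MulAut.conj (p3 ^ (j : ℕ)))) s = tp from hj,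
      show (φ4.trans (MulAut.conj (p3 ^ (j : ℕ)))) a = swap 0 1 by
        show p3 ^ (j : ℕ) * φ4 a * (p3 ^ (j : ℕ))⁻¹ = swap 0 1
        rw [k3, (hp32 j).2, mul_inv_cancel_right], htp]

/-- An endomorphism fixing the standard generators is the identity. -/
theorem rigid (δ : Perm (Fin 6) →* Perm (Fin 6)) (hinj : Function.Injective δ) (h2 : δ p2 = p2)
    (h3 : δ p3 = p3) (ha : δ (swap 0 1) = swap 0 1) (hb : δ (swap 3 4) = swap 3 4)
    (hs : δ tp = tp) (x : Perm (Fin 6)) : δ x = x := by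
  obtain ⟨-, -, -, i, j, k, l, m, hw⟩ := gen_table
  have hpw : δ pw = pw := by simp only [hw, map_mul, map_pow, h2, h3, ha, hb, hs]
  have hA : ∀ y : A6, δ y ∈ A6 := by
    intro y
    suffices A6 ≤ (Perm.sign.comp δ).ker from Perm.mem_alternatingGroup.2 (this y.2)
    rw [show A6 = alternatingGroup (Fin 6) from rfl, ← Perm.closure_three_cycles_eq_alternating,
      Subgroup.closure_le]
    intro σ hσ
    refine (MonoidHom.mem_ker).2 (sign_of_cube ?_)
    rw [← map_pow, ← hσ.orderOf, pow_orderOf_eq_one, map_one]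
  let d : A6 →* A6 := (δ.comp A6.subtype).codRestrict A6 hA
  have hdi : Function.Injective d := fun p q e => Subtype.ext (hinj (congrArg Subtype.val e))
  let e : A6 ≃* A6 := MulEquiv.ofBijective d (Finite.injective_iff_bijective.1 hdi)
  have hfix : ∀ y : A6, δ y = y := fun y => congrArg Subtype.val
    (hom_rigid e (Subtype.ext h2) (Subtype.ext h3) (Subtype.ext hpw) y)
  have hx : x⁻¹ * δ x = 1 := eq_one_of_commute_alt fun y => by
    have hc : x * (y : Perm (Fin 6)) * x⁻¹ ∈ A6 :=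
      (inferInstance : (alternatingGroup (Fin 6)).Normal).conj_mem y y.2 x
    have := hfix ⟨_, hc⟩
    rw [show ((⟨_, hc⟩ : A6) : Perm (Fin 6)) = x * y * x⁻¹ from rfl, map_mul, map_mul, map_inv,
      hfix y, mul_inv_eq_iff_eq_mul] at this
    rw [mul_assoc, this]
    group
  exact (inv_mul_eq_one.1 hx).symm

end CfsgLib.ThreeSymNine.Six
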