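import Cfsg.Agent.ThreeSymNine.IotaBeta
import Cfsg.Agent.S0111

/-!
# The full monomial automizer when all centralizers of the elementary group normalize

The centralizer of the sign change of the last coordinate then normalizes or is the product of
that involution with a symmetric group of degree six.
-/

set_option autoImplicit false
set_option maxRecDepth 100000
set_option synthInstance.maxSize 100000
set_option linter.style.haveILetI false
set_option linter.unusedSectionVars false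

namespace CfsgLib.ThreeSymNine

open CfsgLib.AltNine Subgroup

attribute [local instance 10000] List.decidableBAll List.decidableBEx

universe u

/-- The matrices commuting with the sign change of the last coordinate. -/
def alphaTab : List Mat := (List.finRange 8).flatMap fun d => [mono d 0, mono d 1]

/-- Those matrices modulo that sign change, named in the dihedral group. -/
def alphaD (M : Mat) : DihedralGroup 4 := nineDih (if app M 9 = 9 then M else mm M (dmat 4))

/-- The sign character of the stabilizer of a basis vector. -/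
def charD (M : Mat) : ℤˣ := if M ∈ refls then -1 else 1

theorem alpha_tables :
    (∀ d a, mm (mono d a) (dmat 4) = mm (dmat 4) (mono d a) → mono d a ∈ alphaTab) ∧
    (∀ A ∈ alphaTab, ∀ B ∈ alphaTab, alphaD (mm A B) = alphaD A * alphaD B) ∧
    (∀ A ∈ alphaTab, alphaD A = 1 → A = pmat 0 ∨ A = dmat 4) ∧
    dmat 4 ∈ alphaTab ∧ alphaD (dmat 4) = 1 ∧ alphaD (pmat 0) = 1 ∧
    (∀ k, ∃ d : Fin 8, ∃ a : Fin 6, (a = 0 ∨ a = 1) ∧ alphaD (mono d a) = k) ∧
    (∀ d a, app (mono d a) 1 = 1 → app (mono d a) 3 = 3 → mono d a = pmat 0 ∨ mono d a = dmat 4) ∧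
    (∀ A ∈ nineTab.map Prod.fst, ∀ B ∈ nineTab.map Prod.fst,
      charD (mm A B) = charD A * charD B) ∧
    charD (mono 3 0) = 1 ∧ app (dmat 4) 1 = 1 ∧ app (dmat 4) 3 = 3 ∧ app (pmat 1) 1 = 3 ∧
    app (dmat 1) 1 = nv 1 ∧ app (dmat 1) 3 = 3 ∧ dmat 4 ≠ pmat 0 := by decide +kernel

namespace Six

open Equiv CfsgLib.ThreeLocalNine

theorem lift_table : (∀ i, ∃ σ : Perm (Fin 6), σ * swap 0 1 * σ⁻¹ = tri i) ∧
    (∀ i j, i ≠ j → ∃ σ : Perm (Fin 6), σ * (swap 0 1 * swap 3 4) * σ⁻¹ = tri i * tri j) ∧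
    (∃ σ : Perm (Fin 6), σ * (swap 0 1 * swap 3 4) * σ⁻¹ = swap 0 1 * tri 2) ∧
    (∃ σ : Perm (Fin 6), σ * (swap 0 1 * swap 3 4) * σ⁻¹ = swap 3 4 * tri 2) ∧
    swap 0 1 * swap 3 4 * tri 0 * (swap 0 1 * swap 3 4) = tri 1 ∧
    (∀ i j k l i' j' k' l' : Fin 2,
      tri 0 ^ (i : ℕ) * tri 1 ^ (j : ℕ) * tri 2 ^ (k : ℕ) * (swap 0 1 * swap 3 4) ^ (l : ℕ) =
        tri 0 ^ (i' : ℕ) * tri 1 ^ (j' : ℕ) * tri 2 ^ (k' : ℕ) * (swap 0 1 * swap 3 4) ^ (l' : ℕ) →
      i = i' ∧ j = j' ∧ k = k' ∧ l = l') := by decide +kernel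

end Six

/-- The product of three commuting involutions and one more, as a map from exponents. -/
def qel {C : Type u} [Group C] (a0 a1 a2 r : C) (i j k l : ℕ) : C := a0 ^ i * a1 ^ j * a2 ^ k * r ^ l

namespace Hyp

variable {G : Type u} [Group G] [Finite G] {H : Hyp G} {t : G}

theorem Full.t_ne_one (h : H.Full t) : t ≠ 1 := fun e =>
  alpha_tables.2.2.2.2.2.2.2.2.2.2.2.2.2.2.2 (h.ind.unique (e ▸ H.induces_J (one_mem _)))

theorem Full.oddChar_alpha (h : H.Full t) (h9 : H.C [9] ≤ H.N) : ∃ χ, H.OddChar t χ := by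
  obtain ⟨h1, -⟩ := nine_tables
  obtain ⟨-, -, -, -, -, -, -, -, hmul, h30, -⟩ := alpha_tables
  choose M hM using fun w : H.C [9] => H.exists_induces_of_mem (h9 w.2)
  have hmem : ∀ w, M w ∈ nineTab.map Prod.fst := fun w => h.signs.stab [9] _ h1 ((hM w).stab w.2)
  let χ : H.C [9] →* ℤˣ := MonoidHom.mk' (fun w => charD (M w)) fun p q => by
    rw [← hmul _ (hmem p) _ (hmem q)]
    exact congrArg charD ((hM (p * q)).unique ((hM p).mul (hM q)))
  refine ⟨χ, fun w M' hM' _ => ⟨fun hr => ?_, fun h3 => ?_⟩⟩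
  · show charD (M w) = -1
    rw [(hM w).unique hM', charD, if_pos hr]
  · show charD (M w) = 1
    rw [(hM w).unique hM', h3, h30]

theorem Full.t_comm_ti (h : H.Full t) (i : Fin 3) : Commute (H.ti t i) t := by
  have := h.ti_comm i 2
  rwa [ti_two] at this

theorem Full.t_comm_dd (h : H.Full t) (d : Fin 8) : Commute (H.dd t d) t :=
  (((h.t_comm_ti 0).pow_left _).mul_left ((h.t_comm_ti 1).pow_left _)).mul_left
    ((h.t_comm_ti 2).pow_left _)

/-- An element of the normalizer centralizing the sign change induces one of sixteen matrices. -/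
theorem Full.cent_t_N (h : H.Full t) {n : G} (hn : n ∈ H.N) (ht : n * t = t * n) :
    ∃ M ∈ alphaTab, H.Induces n M := by
  obtain ⟨v, d, a, rfl⟩ := h.mem_N_iff.1 hn
  refine ⟨_, alpha_tables.1 d a ?_, h.el_ind v d a⟩
  exact ((h.el_ind v d a).mul h.ind).unique (ht ▸ h.ind.mul (h.el_ind v d a))

theorem Full.cent_t_small (h : H.Full t) {n : G} (ht : n * t = t * n) {M : Mat}
    (hM : H.Induces n M) (hM' : M = pmat 0 ∨ M = dmat 4) :
    ∃ e ∈ H.Fix t, n = e ∨ n = e * t := by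
  have hti : t⁻¹ = t := inv_eq_of_mul_eq_one_right h.sq
  rcases hM' with rfl | rfl
  · exact ⟨n, ⟨H.mem_J_of_induces_one hM, mem_centralizer_singleton_iff.2 ht⟩, Or.inl rfl⟩
  · refine ⟨n * t, ⟨H.mem_J_of_induces_one ?_, mem_centralizer_singleton_iff.2 ?_⟩, Or.inr ?_⟩
    · exact pd_table.2.2.2.2.2.2.2.1 ▸ hM.mul h.ind
    · rw [ht, mul_assoc, ← ht]
    · rw [mul_assoc, h.sq, mul_one]

/-- The Sylow three-subgroup of the centralizer of the sign change of the last coordinate. -/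
theorem Full.sylow_t (h : H.Full t) {R : Subgroup G} (hR : IsPGroup 3 R)
    (hRy : R ≤ centralizer {t}) : ∃ c, c * t = t * c ∧ ∀ w ∈ R, c * w * c⁻¹ ∈ H.Fix t := by
  set s := H.S (bc 0) with hs
  have e0 : H.ti t 0 = s * t * s⁻¹ := rfl
  obtain ⟨c, hc, hcR⟩ := h.sylow_t0 (R := R.map (MulAut.conj s).toMonoidHom) (hR.map _) (by
    rintro _ ⟨w, hw, rfl⟩
    refine mem_centralizer_singleton_iff.2 ?_
    show MulAut.conj s w * MulAut.conj s t = MulAut.conj s t * MulAut.conj s w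
    rw [← map_mul, ← map_mul, mem_centralizer_singleton_iff.1 (hRy hw)])
  refine ⟨s⁻¹ * c * s, ?_, fun w hw => ?_⟩
  · calc s⁻¹ * c * s * t = s⁻¹ * (c * H.ti t 0) * s := by rw [e0]; group
      _ = s⁻¹ * (H.ti t 0 * c) * s := by rw [hc]
      _ = _ := by rw [e0]; group
  · obtain ⟨v, hv, e⟩ := (H.mem_Fix h.t0.1).1 (hcR _ ⟨w, hw, rfl⟩)
    have e' : s⁻¹ * c * s * w * (s⁻¹ * c * s)⁻¹ = s⁻¹ * H.emb v * s := by
      rw [← e]; show _ = s⁻¹ * (c * (s * w * s⁻¹) * c⁻¹) * s; group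
    rw [e']
    refine ⟨?_, mem_centralizer_singleton_iff.2 ?_⟩
    · rw [hs, show (H.S (bc 0))⁻¹ * H.emb v * H.S (bc 0) =
        H.S (pinv (bc 0)) * H.emb v * (H.S (pinv (bc 0)))⁻¹ by rw [← H.S_inv, inv_inv], H.S_act]
      exact H.emb_mem _
    · have hc' := h.t0.1 v
      rw [hv, mul_inv_eq_iff_eq_mul, e0] at hc'
      calc s⁻¹ * H.emb v * s * t = s⁻¹ * (H.emb v * (s * t * s⁻¹)) * s := by group
        _ = s⁻¹ * (s * t * s⁻¹ * H.emb v) * s := by rw [hc']
        _ = _ := by group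

/-- The centralizer of the sign change normalizes or has the symmetric group of degree six as
quotient by that involution. -/
theorem Full.alpha_dichotomy (h : H.Full t) (h9 : H.C [9] ≤ H.N) :
    centralizer ({t} : Set G) ≤ H.N ∨
      ∃ θ : centralizer ({t} : Set G) →* Equiv.Perm (Fin 6), Function.Surjective θ ∧
        (∀ a b, θ a = θ b → (b : G) = a ∨ (b : G) = a * t) ∧ ∀ a : centralizer ({t} : Set G), (a : G) = t → θ a = 1 := by
  classical
  haveI : Fact (Nat.Prime 3) := ⟨Nat.prime_three⟩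
  haveI : Fact (Nat.Prime 2) := ⟨Nat.prime_two⟩
  obtain ⟨-, hDmul, hDker, h4tab, hD4, hD0, hDsurj, hfix13, -, -, t41, t43, t13, a11, a13, -⟩ :=
    alpha_tables
  set C := centralizer ({t} : Set G)
  have hCmem : ∀ {g : G}, g ∈ C ↔ g * t = t * g := fun {g} => mem_centralizer_singleton_iff
  let tC : C := ⟨t, hCmem.2 rfl⟩
  set Z := zpowers tC
  haveI hZn : Z.Normal := ⟨fun z hz c => by
    obtain ⟨k, rfl⟩ := hz
    have : Commute c tC := Subtype.ext (hCmem.1 c.2)
    rw [(this.zpow_right k).eq, mul_inv_cancel_right]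
    exact zpow_mem (mem_zpowers _) k⟩
  have ht2 : tC * tC = 1 := Subtype.ext h.sq
  set π := QuotientGroup.mk' Z
  have hπs : Function.Surjective π := QuotientGroup.mk'_surjective _
  have hπt : π tC = 1 := (QuotientGroup.eq_one_iff _).2 (mem_zpowers _)
  have hZ : ∀ {a b : C}, π a = π b → b = a ∨ b = a * tC := by
    intro a b e
    obtain ⟨k, hk⟩ := mem_zpowers_iff.1 (QuotientGroup.eq.1 e)
    rcases Int.even_or_odd k with ⟨m, rfl⟩ | ⟨m, rfl⟩
    · left
      rw [← two_mul, zpow_mul, zpow_two, ht2, one_zpow] at hk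
      exact (inv_mul_eq_one.1 hk.symm).symm
    · right
      rw [zpow_add, zpow_mul, zpow_two, ht2, one_zpow, one_mul, zpow_one] at hk
      rw [hk, mul_inv_cancel_left]
  have hcube : ∀ {a b : C}, π a = π b → (a : G) ^ 3 = 1 → (b : G) ^ 3 = 1 → b = a := by
    intro a b e ha hb
    rcases hZ e with e' | e'
    · exact e'
    exfalso
    rw [e', show ((a * tC : C) : G) = a * t from rfl,
      (show Commute (a : G) t from hCmem.1 a.2).mul_pow, ha, one_mul, pow_succ, pow_two, h.sq,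
      one_mul] at hb
    exact h.t_ne_one hb
  have hnr : ∀ {v : Fin 27}, v ≠ 0 → centralizer ({H.emb v} : Set G) ≤ H.N := fun hv =>
    h.signs.C_thirteen hv h9
  have hFC : H.Fix t ≤ C := inf_le_right
  set Ec := (H.Fix t).subgroupOf C
  set Eb := Ec.map π with hEb
  -- the Sylow subgroup
  obtain ⟨Q, hQ⟩ := ((H.isPGroup_J.to_le (inf_le_left : H.Fix t ≤ H.J)).of_equiv
    (subgroupOfEquivOfLe hFC).symm : IsPGroup 3 Ec).exists_le_sylow
  have hQE : (Q : Subgroup C) = Ec := by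
    refine (Subgroup.eq_of_le_of_card_ge hQ ?_).symm
    obtain ⟨c, -, hc⟩ := h.sylow_t (R := (Q : Subgroup C).map C.subtype) (Q.2.map _)
      (map_subtype_le _)
    rw [Nat.card_congr (subgroupOfEquivOfLe hFC).toEquiv]
    refine Nat.card_le_card_of_injective (fun q : (Q : Subgroup C) =>
      (⟨c * ((q : C) : G) * c⁻¹, hc _ ⟨q, q.2, rfl⟩⟩ : H.Fix t)) fun p q e => ?_
    exact Subtype.ext (Subtype.ext (mul_left_cancel (mul_right_cancel (congrArg Subtype.val e))))
  have hcardF : Nat.card (H.Fix t) = 9 := by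
    rw [H.card_Fix h.ind, show (Finset.univ.filter fun v => app (dmat 4) v = v).card = 9 by
      decide +kernel]
  have hEcard : Nat.card Eb = 9 := by
    refine (Nat.card_congr (Equiv.ofBijective (fun e : H.Fix t =>
      (⟨π ⟨e, hFC e.2⟩, ⟨⟨e, hFC e.2⟩, e.2, rfl⟩⟩ : Eb)) ⟨fun a b e => ?_, ?_⟩).symm).trans hcardF
    · exact Subtype.ext (congrArg Subtype.val (hcube (congrArg Subtype.val e) (H.J_cube a.2.1)
        (H.J_cube b.2.1))).symm
    · rintro ⟨-, e, he, rfl⟩
      exact ⟨⟨e, he⟩, rfl⟩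
  have hNE : ∀ c : C, (c : G) ∈ H.N → π c ∈ normalizer (Eb : Set (C ⧸ Z)) := by
    have hf : ∀ c : C, (c : G) ∈ H.N → ∀ x ∈ Eb, π c * x * (π c)⁻¹ ∈ Eb := by
      rintro c hc _ ⟨e, he, rfl⟩
      refine ⟨c * e * c⁻¹, mem_subgroupOf.2 ⟨?_, (c * e * c⁻¹).2⟩, ?_⟩
      · exact (mem_normalizer_iff.1 hc _).1 (mem_subgroupOf.1 he).1
      · rw [map_mul, map_mul, map_inv]
    intro c hc
    refine mem_normalizer_iff.2 fun x => ⟨hf c hc x, fun hx => ?_⟩
    have := hf c⁻¹ (inv_mem hc) _ hx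
    rwa [map_inv, show (π c)⁻¹ * (π c * x * (π c)⁻¹) * (π c)⁻¹⁻¹ = x by group] at this
  have he1 : H.emb 1 ∈ H.Fix t := (H.mem_Fix h.ind).2 ⟨1, t41, rfl⟩
  have he3 : H.emb 3 ∈ H.Fix t := (H.mem_Fix h.ind).2 ⟨3, t43, rfl⟩
  have hconj : ∀ (c : C) {e : G} (he : e ∈ H.Fix t) {y : C},
      π c * π ⟨e, hFC he⟩ * (π c)⁻¹ = π y → (y : G) ^ 3 = 1 → (c : G) * e * (c : G)⁻¹ = y := by
    intro c e he y hy h3
    rw [← map_inv, ← map_mul, ← map_mul] at hy
    refine (congrArg Subtype.val (hcube hy ?_ h3)).symm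
    show ((c : G) * e * (c : G)⁻¹) ^ 3 = 1
    rw [conj_pow, H.J_cube he.1, mul_one, mul_inv_cancel]
  have hNmem : ∀ c : C, π c ∈ normalizer (Eb : Set (C ⧸ Z)) → (c : G) ∈ H.N := by
    intro c hc
    obtain ⟨y, hy, hye⟩ := (mem_normalizer_iff.1 hc (π ⟨_, hFC he1⟩)).1 ⟨⟨_, hFC he1⟩, he1, rfl⟩
    have hy' : (y : G) ∈ H.Fix t := mem_subgroupOf.1 hy
    obtain ⟨q, -, hq⟩ := (H.mem_Fix h.ind).1 hy'
    have e := hconj c he1 hye.symm (H.J_cube hy'.1)
    rw [hq] at e
    refine H.mem_N_of_fusion e (hnr fun q0 => ?_)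
    rw [q0, H.emb_zero, conj_eq_one_iff] at e
    exact absurd (H.emb_inj (e.trans H.emb_zero.symm)) (by decide)
  have hcentX : centralizer (Eb : Set (C ⧸ Z)) = Eb := by
    refine le_antisymm (fun x hx => ?_) fun x hx => mem_centralizer_iff.2 fun y hy => ?_
    · obtain ⟨c, rfl⟩ := hπs x
      have hc : ∀ {e : G} (he : e ∈ H.Fix t), (c : G) * e * (c : G)⁻¹ = e := by
        intro e he
        refine hconj c he (y := ⟨e, hFC he⟩) ?_ (H.J_cube he.1)
        rw [← mem_centralizer_iff.1 hx _ ⟨⟨e, hFC he⟩, he, rfl⟩, mul_inv_cancel_right]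
      have hcN : (c : G) ∈ H.N := hnr (v := 1) (by decide)
        (mem_centralizer_singleton_iff.2 (mul_inv_eq_iff_eq_mul.1 (hc he1)))
      obtain ⟨v, d, a, hel⟩ := h.mem_N_iff.1 hcN
      have hI : H.Induces (c : G) (mono d a) := hel ▸ h.el_ind v d a
      have hfix : ∀ {w : Fin 27}, H.emb w ∈ H.Fix t → app (mono d a) w = w := fun hw =>
        H.emb_inj ((hI _).symm.trans (hc hw))
      obtain ⟨e, he, hce⟩ := h.cent_t_small (hCmem.1 c.2) hI (hfix13 d a (hfix he1) (hfix he3))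
      refine ⟨⟨e, hFC he⟩, he, ?_⟩
      rcases hce with e' | e'
      · exact congrArg π (Subtype.ext e'.symm)
      · rw [show c = ⟨e, hFC he⟩ * tC from Subtype.ext e', map_mul, hπt, mul_one]
    · obtain ⟨a, ha, rfl⟩ := hx
      obtain ⟨b, hb, rfl⟩ := hy
      rw [← map_mul, ← map_mul]
      exact congrArg π (Subtype.ext (H.J_comm (mem_subgroupOf.1 hb).1 (mem_subgroupOf.1 ha).1))
  have hloc : ∀ x ∈ Eb, x ≠ 1 →
      centralizer ({x} : Set (C ⧸ Z)) ≤ normalizer (Eb : Set (C ⧸ Z)) := by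
    rintro _ ⟨e, he, rfl⟩ hne y hy
    obtain ⟨c, rfl⟩ := hπs y
    obtain ⟨v, -, hv⟩ := (H.mem_Fix h.ind).1 (mem_subgroupOf.1 he)
    have e1 : (c : G) * (e : G) * (c : G)⁻¹ = e :=
      hconj c (mem_subgroupOf.1 he) (y := e)
        (by rw [show π ⟨(e : G), hFC (mem_subgroupOf.1 he)⟩ = π e from rfl, mem_centralizer_singleton_iff.1 hy,
          mul_inv_cancel_right]) (H.J_cube (mem_subgroupOf.1 he).1)
    refine hNE c (hnr (v := v) (fun v0 => hne ?_) (mem_centralizer_singleton_iff.2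
      (hv ▸ mul_inv_eq_iff_eq_mul.1 e1)))
    rw [show e = 1 from Subtype.ext (by rw [hv, v0, H.emb_zero]; rfl), map_one]
  -- the automizer
  set P := normalizer (Eb : Set (C ⧸ Z))
  choose rep hrep using fun x : P => hπs x
  have hrN : ∀ x : P, ((rep x : C) : G) ∈ H.N := fun x => hNmem _ (by rw [hrep]; exact x.2)
  choose Mx hMtab hMx using fun x : P => h.cent_t_N (hrN x) (hCmem.1 (rep x).2)
  have hval : ∀ (x : P) (c : C) (A : Mat), π c = x → A ∈ alphaTab → H.Induces (c : G) A →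
      alphaD (Mx x) = alphaD A := by
    intro x c A hc hA hI
    rcases hZ (hc.trans (hrep x).symm) with e | e
    · rw [(hMx x).unique (e ▸ hI)]
    · have : H.Induces ((rep x : C) : G) (mm A (dmat 4)) := by rw [e]; exact hI.mul h.ind
      rw [(hMx x).unique this, hDmul _ hA _ h4tab, hD4, mul_one]
  let ρ : P →* DihedralGroup 4 := MonoidHom.mk' (fun x => alphaD (Mx x)) fun p q => by
    rw [← hDmul _ (hMtab p) _ (hMtab q)]
    obtain ⟨A, hA, hI⟩ := h.cent_t_N (mul_mem (hrN p) (hrN q)) (hCmem.1 (rep p * rep q).2)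
    rw [hval (p * q) (rep p * rep q) A (by rw [map_mul, hrep, hrep]; rfl) hA hI,
      hI.unique ((hMx p).mul (hMx q))]
  have hρs : Function.Surjective ρ := by
    intro k
    obtain ⟨d, a, ha, hk⟩ := hDsurj k
    have hS : Commute (H.S a) t := by
      rcases ha with rfl | rfl
      · rw [H.S_zero]; exact Commute.one_left t
      · exact h.comm
    have hel : Commute (H.el t 0 d a) t := by
      show Commute (H.emb 0 * H.dd t d * H.S a) t
      rw [H.emb_zero, one_mul]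
      exact (h.t_comm_dd d).mul_left hS
    let c : C := ⟨H.el t 0 d a, hCmem.2 hel.eq⟩
    let x : P := ⟨π c, hNE c (h.el_mem 0 d a)⟩
    obtain ⟨A, hA, hI⟩ := h.cent_t_N (h.el_mem 0 d a) hel.eq
    exact ⟨x, (hval x c A rfl hA hI).trans (by rw [hI.unique (h.el_ind 0 d a)]; exact hk)⟩
  have hker : ρ.ker = Eb.subgroupOf P := by
    ext x
    refine ⟨fun hx => ?_, fun hx => ?_⟩
    · obtain ⟨e, he, hce⟩ := h.cent_t_small (hCmem.1 (rep x).2) (hMx x)
        (hDker _ (hMtab x) (MonoidHom.mem_ker.1 hx))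
      refine mem_subgroupOf.2 ⟨⟨e, hFC he⟩, he, ?_⟩
      rw [← hrep x]
      rcases hce with e' | e'
      · exact congrArg π (Subtype.ext e'.symm)
      · rw [show rep x = ⟨e, hFC he⟩ * tC from Subtype.ext e', map_mul, hπt, mul_one]
    · obtain ⟨e, he, hex⟩ := mem_subgroupOf.1 hx
      obtain ⟨A, hA, hI⟩ := h.cent_t_N (H.J_le_N (mem_subgroupOf.1 he).1) (hCmem.1 e.2)
      refine MonoidHom.mem_ker.2 ((hval x e A hex hA hI).trans ?_)
      rw [hI.unique (H.induces_J (mem_subgroupOf.1 he).1), hD0]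
  rcases Cfsg.Agent.S3333.result (Q.mapSurjective hπs) Eb
      (by rw [Sylow.coe_mapSurjective, hQE]) hEcard hcentX
      ((QuotientGroup.quotientMulEquivOfEq hker.symm).trans
        (QuotientGroup.quotientKerEquivOfSurjective ρ hρs)) hloc with hn | ⟨⟨φ₀⟩⟩
  · left
    intro g hg
    exact hNmem ⟨g, hg⟩ (by rw [show P = ⊤ from normalizer_eq_top_iff.2 hn]; exact mem_top _)
  · refine Or.inr ⟨φ₀.toMonoidHom.comp π, φ₀.surjective.comp hπs, fun a b e => ?_, fun a e => ?_⟩
    · rcases hZ (φ₀.injective e) with e' | e'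
      · exact Or.inl (congrArg Subtype.val e')
      · exact Or.inr (congrArg Subtype.val e')
    · show φ₀ (π a) = 1
      rw [show a = tC from Subtype.ext e, hπt, map_one]

set_option maxHeartbeats 800000 in
/-- The centralizer of the sign change normalizes or contains a symmetric group of degree six in
standard position. -/
theorem Full.alpha_local (h : H.Full t) (h9 : H.C [9] ≤ H.N) :
    centralizer ({t} : Set G) ≤ H.N ∨ ∃ ι : Equiv.Perm (Fin 6) →* G, H.Iota t ι := by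
  classical
  set C := centralizer ({t} : Set G) with hC
  rcases h.alpha_dichotomy h9 with hl | ⟨θ₀, hθ0s, hθ0k, hθ0t⟩
  · exact Or.inl hl
  right
  haveI : Fact (Nat.Prime 2) := ⟨Nat.prime_two⟩
  obtain ⟨-, -, -, -, -, -, -, -, -, -, t41, t43, t13, a11, a13, -⟩ := alpha_tables
  have hCmem : ∀ {g : G}, g ∈ C ↔ g * t = t * g := fun {g} => mem_centralizer_singleton_iff
  let tC : C := ⟨t, hCmem.2 rfl⟩
  have ht2 : tC * tC = 1 := Subtype.ext h.sq
  have htc : ∀ c : C, Commute tC c := fun c => Subtype.ext (hCmem.1 c.2).symm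
  set Z := zpowers tC
  haveI hZn : Z.Normal := ⟨fun z hz c => by
    obtain ⟨k, rfl⟩ := hz
    rw [((htc c).symm.zpow_right k).eq, mul_inv_cancel_right]
    exact zpow_mem (mem_zpowers _) k⟩
  have hFC : H.Fix t ≤ C := inf_le_right
  have he1 : H.emb 1 ∈ H.Fix t := (H.mem_Fix h.ind).2 ⟨1, t41, rfl⟩
  have he3 : H.emb 3 ∈ H.Fix t := (H.mem_Fix h.ind).2 ⟨3, t43, rfl⟩
  -- the isomorphism in standard position
  have ha0 : (H.ti t 0) ∈ C := hCmem.2 (h.t_comm_ti 0).eq
  have ha1 : (H.ti t 1) ∈ C := hCmem.2 (h.t_comm_ti 1).eq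
  have hs1 : H.S 1 ∈ C := hCmem.2 h.comm
  let E1 : C := ⟨H.emb 1, hFC he1⟩
  let E3 : C := ⟨H.emb 3, hFC he3⟩
  let A0 : C := ⟨H.ti t 0, ha0⟩
  let A1 : C := ⟨H.ti t 1, ha1⟩
  let S1 : C := ⟨H.S 1, hs1⟩
  have hSi : (H.S 1)⁻¹ = H.S 1 := inv_eq_of_mul_eq_one_right S_one.1
  have hai : (H.ti t 0)⁻¹ = H.ti t 0 := inv_eq_of_mul_eq_one_right (h.ti_sq 0)
  obtain ⟨φ, f1, f2, f3, f4, f5⟩ := Six.exists_normal (MulEquiv.refl (Equiv.Perm (Fin 6)))
    (e1 := θ₀ E1) (e2 := θ₀ E3) (a := θ₀ A0) (s := θ₀ S1)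
    (fun e => by
      rcases hθ0k 1 E1 (by rw [map_one]; exact e.symm) with e' | e'
      · exact absurd (H.emb_inj (e'.trans H.emb_zero.symm)) (by decide)
      · have h3 := H.emb_cube 1
        rw [show H.emb 1 = t from e'.trans (one_mul t), pow_succ, pow_two, h.sq, one_mul] at h3
        exact h.t_ne_one h3)
    (by rw [← map_pow, ← map_one θ₀]; exact congrArg θ₀ (Subtype.ext (H.emb_cube 1)))
    (by rw [← map_pow, ← map_one θ₀]; exact congrArg θ₀ (Subtype.ext (H.emb_cube 3)))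
    (by rw [← map_mul, ← map_mul]; exact congrArg θ₀ (Subtype.ext (H.emb_comm 1 3)))
    (by rw [← map_mul, ← map_one θ₀]; exact congrArg θ₀ (Subtype.ext (h.ti_sq 0)))
    (by
      rw [← map_mul, ← map_mul, ← map_inv]
      refine congrArg θ₀ (Subtype.ext ?_)
      show H.ti t 0 * H.emb 1 * H.ti t 0 = (H.emb 1)⁻¹
      have := h.t0.1 1
      rwa [hai, a11, H.emb_nv] at this)
    (by
      rw [← map_mul, ← map_mul]
      refine congrArg θ₀ (Subtype.ext ?_)
      show H.ti t 0 * H.emb 3 = H.emb 3 * H.ti t 0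
      have := h.t0.1 3
      rwa [a13, mul_inv_eq_iff_eq_mul] at this)
    (by rw [← map_mul, ← map_one θ₀]; exact congrArg θ₀ (Subtype.ext S_one.1))
    (by
      rw [← map_mul, ← map_mul]
      refine congrArg θ₀ (Subtype.ext ?_)
      show H.S 1 * H.emb 1 * H.S 1 = H.emb 3
      have := H.induces_S 1 1
      rwa [hSi, t13] at this)
  have hA1 : S1 * A0 * S1 = A1 := Subtype.ext (by
    show H.S 1 * H.ti t 0 * H.S 1 = H.ti t 1
    have := h.ti_conj 1 0
    rwa [hSi, show img 1 0 = 1 by decide +kernel] at this)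
  have f5' : φ (θ₀ A1) = Equiv.swap 3 4 := by
    rw [← hA1, map_mul θ₀, map_mul θ₀]; exact f5
  set θ : C →* Equiv.Perm (Fin 6) := φ.toMonoidHom.comp θ₀ with hθ
  have hθs : Function.Surjective θ := φ.surjective.comp hθ0s
  have hθt : θ tC = 1 := by
    show φ (θ₀ tC) = 1
    rw [hθ0t tC rfl, map_one]
  have hZ : ∀ {a b : C}, θ a = θ b → b = a ∨ b = a * tC := by
    intro a b e
    rcases hθ0k a b (φ.injective e) with e' | e'
    · exact Or.inl (Subtype.ext e')
    · exact Or.inr (Subtype.ext e')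
  have hcube : ∀ {a b : C}, θ a = θ b → (a : G) ^ 3 = 1 → (b : G) ^ 3 = 1 → b = a := by
    intro a b e ha hb
    rcases hZ e with e' | e'
    · exact e'
    exfalso
    rw [e', show ((a * tC : C) : G) = a * t from rfl,
      (show Commute (a : G) t from hCmem.1 a.2).mul_pow, ha, one_mul, pow_succ, pow_two, h.sq,
      one_mul] at hb
    exact h.t_ne_one hb
  have hsq : ∀ {c g : C}, θ c = θ g → g * g = 1 → c * c = 1 := by
    intro c g e hg
    rcases hZ e.symm with e' | e'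
    · rw [e']; exact hg
    · rw [e', (show Commute tC g from Subtype.ext (hCmem.1 g.2).symm).mul_mul_mul_comm, hg, ht2,
        one_mul]
  have hsq' : ∀ {c g : C} (σ : Equiv.Perm (Fin 6)), σ * θ g * σ⁻¹ = θ c → g * g = 1 →
      c * c = 1 := by
    intro c g σ e hg
    obtain ⟨s, rfl⟩ := hθs σ
    rw [← map_inv, ← map_mul, ← map_mul] at e
    exact hsq e.symm (by rw [show s * g * s⁻¹ * (s * g * s⁻¹) = s * (g * g) * s⁻¹ by group, hg,
      mul_one, mul_inv_cancel])
  obtain ⟨l1, l2, l3, l4, l5, linj⟩ := Six.lift_table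
  have hA01 : A0 * A1 * (A0 * A1) = 1 := Subtype.ext (by
    show H.ti t 0 * H.ti t 1 * (H.ti t 0 * H.ti t 1) = 1
    rw [(h.ti_comm 1 0).mul_mul_mul_comm, h.ti_sq, h.ti_sq, one_mul])
  have hcommOf : ∀ {a b : C}, a * a = 1 → b * b = 1 → a * b * (a * b) = 1 → Commute a b := by
    intro a b ha hb hab
    calc a * b = (a * b)⁻¹ := (inv_eq_of_mul_eq_one_right hab).symm
      _ = b * a := by
        rw [mul_inv_rev, inv_eq_of_mul_eq_one_right ha, inv_eq_of_mul_eq_one_right hb]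
  have hA0sq : A0 * A0 = 1 := Subtype.ext (h.ti_sq 0)
  have hA1sq : A1 * A1 = 1 := Subtype.ext (h.ti_sq 1)
  have hθr : θ (A0 * A1) = Equiv.swap 0 1 * Equiv.swap 3 4 := by
    rw [map_mul]; exact congrArg₂ (· * ·) f3 f5'
  have htrisq : ∀ {c : C} (i : Fin 3), θ c = Six.tri i → c * c = 1 := by
    intro c i hc
    obtain ⟨σ, hσ⟩ := l1 i
    exact hsq' (g := A0) σ (by rw [hc, show θ A0 = _ from f3]; exact hσ) hA0sq
  obtain ⟨b0, hb0⟩ := hθs (Six.tri 0)
  obtain ⟨b2, hb2⟩ := hθs (Six.tri 2)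
  set r := A0 * A1
  set b1 := r * b0 * r with hb1
  have hb1' : θ b1 = Six.tri 1 := by rw [hb1, map_mul, map_mul, hθr, hb0, l5]
  have s0 := htrisq 0 hb0
  have s1 := htrisq 1 hb1'
  have s2 := htrisq 2 hb2
  have hpair : ∀ {c d : C} (i j : Fin 3), i ≠ j → θ c = Six.tri i → θ d = Six.tri j →
      Commute c d := by
    intro c d i j hij hc hd
    obtain ⟨σ, hσ⟩ := l2 i j hij
    refine hcommOf (htrisq i hc) (htrisq j hd) (hsq' (g := r) σ ?_ hA01)
    rw [hθr, map_mul, hc, hd]; exact hσ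
  have c01 : Commute b0 b1 := hpair 0 1 (by decide) hb0 hb1'
  have c02 : Commute b0 b2 := hpair 0 2 (by decide) hb0 hb2
  have c12 : Commute b1 b2 := hpair 1 2 (by decide) hb1' hb2
  have cr2 : Commute r b2 := by
    obtain ⟨σ, hσ⟩ := l3
    obtain ⟨σ', hσ'⟩ := l4
    refine (hcommOf hA0sq s2 (hsq' (g := r) σ ?_ hA01)).mul_left
      (hcommOf hA1sq s2 (hsq' (g := r) σ' ?_ hA01))
    · rw [hθr, map_mul, hb2, show θ A0 = _ from f3]; exact hσ
    · rw [hθr, map_mul, hb2, show θ A1 = _ from f5']; exact hσ'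
  have hr1 : r * b1 * r = b0 := by
    rw [hb1, show r * (r * b0 * r) * r = (r * r) * b0 * (r * r) by group, hA01, one_mul, mul_one]
  have hparity : ∀ {a : C}, a * a = 1 → ∀ n : ℕ, a ^ n = a ^ (n % 2) := fun {a} ha n => by
    conv_lhs => rw [← Nat.mod_add_div n 2, pow_add, pow_mul, pow_two, ha, one_pow, mul_one]
  have hswap : ∀ i j k : ℕ, r * (b0 ^ i * b1 ^ j * b2 ^ k) = b0 ^ j * b1 ^ i * b2 ^ k * r := by
    intro i j k
    have e0 : r * b0 = b1 * r := by rw [hb1, mul_assoc (r * b0), hA01, mul_one]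
    have e1 : r * b1 = b0 * r := by rw [← hr1, mul_assoc (r * b1), hA01, mul_one]
    rw [← mul_assoc, ← mul_assoc, (show SemiconjBy r b0 b1 from e0).pow_right i |>.eq,
      mul_assoc (b1 ^ i), (show SemiconjBy r b1 b0 from e1).pow_right j |>.eq, ← mul_assoc,
      mul_assoc _ r, (cr2.pow_right k).eq, ← mul_assoc, (c01.symm.pow_pow i j).eq]
  have hmul : ∀ i j k i' j' k' : ℕ, b0 ^ i * b1 ^ j * b2 ^ k * (b0 ^ i' * b1 ^ j' * b2 ^ k') =
      b0 ^ (i + i') * b1 ^ (j + j') * b2 ^ (k + k') := by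
    intro i j k i' j' k'
    rw [((c02.symm.pow_pow k i').mul_right (c12.symm.pow_pow k j')).mul_mul_mul_comm, pow_add,
      pow_add, pow_add, (c01.symm.pow_pow j i').mul_mul_mul_comm]
  let Q2 : Subgroup C :=
    { carrier := {c | ∃ i j k l : ℕ, c = qel b0 b1 b2 r i j k l}
      one_mem' := ⟨0, 0, 0, 0, by simp [qel]⟩
      mul_mem' := by
        rintro _ _ ⟨i, j, k, l, rfl⟩ ⟨i', j', k', l', rfl⟩
        rcases Nat.even_or_odd l with ⟨m, hm⟩ | ⟨m, hm⟩
        · refine ⟨i + i', j + j', k + k', l', ?_⟩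
          simp only [qel]
          rw [hparity hA01 l, show l % 2 = 0 by omega, pow_zero, mul_one, ← mul_assoc, hmul]
        · refine ⟨i + j', j + i', k + k', 1 + l', ?_⟩
          simp only [qel]
          rw [hparity hA01 l, show l % 2 = 1 by omega, pow_one, mul_assoc _ r, ← mul_assoc r,
            hswap, ← mul_assoc, ← mul_assoc, hmul, pow_add r 1, pow_one r, ← mul_assoc]
          simp only [r, mul_assoc]
      inv_mem' := by
        rintro _ ⟨i, j, k, l, rfl⟩
        have hA : (b0 ^ i * b1 ^ j * b2 ^ k)⁻¹ = b0 ^ i * b1 ^ j * b2 ^ k := by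
          refine inv_eq_of_mul_eq_one_right ?_
          rw [hmul, hparity s0, hparity s1, hparity s2, show (i + i) % 2 = 0 by omega,
            show (j + j) % 2 = 0 by omega, show (k + k) % 2 = 0 by omega]
          simp
        rcases Nat.even_or_odd l with ⟨m, hm⟩ | ⟨m, hm⟩
        · refine ⟨i, j, k, 0, ?_⟩
          simp only [qel]
          rw [hparity hA01 l, show l % 2 = 0 by omega, pow_zero, mul_one, hA]
        · refine ⟨j, i, k, 1, ?_⟩
          simp only [qel]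
          rw [hparity hA01 l, show l % 2 = 1 by omega, pow_one, mul_inv_rev, hA,
            inv_eq_of_mul_eq_one_right hA01, hswap] }
  let f : Fin 2 × Fin 2 × Fin 2 × Fin 2 → Q2 :=
    fun p => ⟨qel b0 b1 b2 r p.1 p.2.1 p.2.2.1 p.2.2.2, ⟨_, _, _, _, rfl⟩⟩
  have hθq : ∀ i j k l : ℕ, θ (qel b0 b1 b2 r i j k l) = Six.tri 0 ^ i * Six.tri 1 ^ j *
      Six.tri 2 ^ k * (Equiv.swap 0 1 * Equiv.swap 3 4) ^ l := fun i j k l => by
    simp only [qel, map_mul, map_pow, hb0, hb1', hb2, hθr]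
  have hfθ : ∀ p q, θ (f p : C) = θ (f q : C) → p = q := by
    rintro ⟨i, j, k, l⟩ ⟨i', j', k', l'⟩ e
    rw [hθq, hθq] at e
    obtain ⟨rfl, rfl, rfl, rfl⟩ := linj _ _ _ _ _ _ _ _ e
    rfl
  have hfsurj : Function.Surjective f := by
    rintro ⟨_, i, j, k, l, rfl⟩
    refine ⟨(⟨i % 2, by omega⟩, ⟨j % 2, by omega⟩, ⟨k % 2, by omega⟩, ⟨l % 2, by omega⟩),
      Subtype.ext ?_⟩
    show qel b0 b1 b2 r (i % 2) (j % 2) (k % 2) (l % 2) = qel b0 b1 b2 r i j k l
    simp only [qel, ← hparity s0, ← hparity s1, ← hparity s2, ← hparity hA01]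
  have hQcard : Nat.card Q2 = 16 := by
    rw [← Nat.card_congr (Equiv.ofBijective f
      ⟨fun p q e => hfθ p q (congrArg (fun z : Q2 => θ (z : C)) e), hfsurj⟩)]
    simp
  have htQ : tC ∉ Q2 := fun hmem => by
    obtain ⟨p, hp⟩ := hfsurj ⟨tC, hmem⟩
    have e0 := hfθ p (0, 0, 0, 0) (by
      rw [hp, show ((f (0, 0, 0, 0) : Q2) : C) = 1 by simp [f, qel], map_one]
      exact hθt)
    rw [e0] at hp
    have e1 : (f (0, 0, 0, 0) : C) = 1 := by simp [f, qel]
    rw [hp] at e1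
    exact h.t_ne_one (congrArg Subtype.val e1)
  have hZ2 : IsPGroup 2 Z := by
    refine IsPGroup.of_card (n := 1) ?_
    rw [Nat.card_zpowers, pow_one]
    exact orderOf_eq_prime (by rw [pow_two, ht2]) fun e => h.t_ne_one (congrArg Subtype.val e)
  obtain ⟨P2, hP2⟩ := ((IsPGroup.of_card (n := 4) (by rw [hQcard]; norm_num) :
    IsPGroup 2 Q2).to_sup_of_normal_right hZ2).exists_le_sylow
  have hQP : Q2 ≤ (P2 : Subgroup C) := le_sup_left.trans hP2
  have htP : tC ∈ (P2 : Subgroup C) := hP2 (mem_sup_right (mem_zpowers _))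
  have hkerθ : θ.ker = Z := by
    ext c
    refine ⟨fun hc => ?_, fun hc => ?_⟩
    · rcases hZ (show θ 1 = θ c by rw [map_one]; exact (MonoidHom.mem_ker.1 hc).symm) with e | e
      · rw [e]; exact one_mem _
      · rw [e, one_mul]; exact mem_zpowers _
    · obtain ⟨k, rfl⟩ := hc
      rw [MonoidHom.mem_ker]
      show θ (tC ^ k) = 1
      rw [map_zpow, hθt, one_zpow]
  have hX720 : Nat.card (C ⧸ Z) = 720 := by
    rw [← hkerθ, Nat.card_congr (QuotientGroup.quotientKerEquivOfSurjective θ hθs).toEquiv,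
      Nat.card_perm, Nat.card_fin]; rfl
  have hC1440 : Nat.card C = 1440 := by
    rw [Subgroup.card_eq_card_quotient_mul_card_subgroup Z, hX720, Nat.card_zpowers,
      orderOf_eq_prime (by rw [pow_two, ht2]) fun e => h.t_ne_one (congrArg Subtype.val e)]
  have hPcard : Nat.card (P2 : Subgroup C) = 32 := by
    obtain ⟨n, hn⟩ := IsPGroup.iff_card.1 P2.2
    have hd : 2 ^ n ∣ 1440 := hn ▸ hC1440 ▸ Subgroup.card_subgroup_dvd_card (P2 : Subgroup C)
    have h16 : 16 < 2 ^ n := by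
      rw [← hn, ← hQcard]
      refine lt_of_le_of_ne (Subgroup.card_le_of_le hQP) fun e => htQ ?_
      rw [Subgroup.eq_of_le_of_card_ge hQP e.ge]; exact htP
    have hn5 : n ≤ 5 := by
      by_contra hc
      have : 64 ∣ 1440 := (pow_dvd_pow 2 (show 6 ≤ n by omega)).trans hd
      norm_num at this
    rw [hn]
    interval_cases n <;> omega
  have hrel : Q2.relIndex (P2 : Subgroup C) = 2 := by
    have := (Q2.subgroupOf (P2 : Subgroup C)).index_mul_card
    rw [Nat.card_congr (subgroupOfEquivOfLe hQP).toEquiv, hQcard, hPcard] at this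
    show (Q2.subgroupOf (P2 : Subgroup C)).index = 2
    omega
  rcases Cfsg.Agent.S0111.result P2 Q2 hQP hrel tC
      (orderOf_eq_prime (by rw [pow_two, ht2]) fun e => h.t_ne_one (congrArg Subtype.val e)) htP htQ
    with ⟨M, hMn, hMi, htM⟩ | ⟨g, hg⟩
  swap
  · exfalso
    rw [show g * tC = tC * g from Subtype.ext (hCmem.1 g.2), mul_inv_cancel_right] at hg
    exact htQ hg
  have hMinj : Function.Injective (θ.comp M.subtype) := fun a b e => by
    rcases hZ e with e' | e'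
    · exact Subtype.ext e'.symm
    · exfalso
      refine htM ?_
      have := mul_mem (inv_mem a.2) b.2
      rwa [show (a : C)⁻¹ * (b : C) = tC from by rw [show (b : C) = a * tC from e',
        inv_mul_cancel_left]] at this
  have hMbij : Function.Bijective (θ.comp M.subtype) := by
    refine hMinj.bijective_of_nat_card_le ?_
    have := M.index_mul_card
    rw [hMi, hC1440] at this
    rw [Nat.card_perm, Nat.card_fin]
    simp only [Nat.factorial]
    omega
  let e0 : Equiv.Perm (Fin 6) →* C :=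
    M.subtype.comp (MulEquiv.ofBijective _ hMbij).symm.toMonoidHom
  have he0 : ∀ σ, θ (e0 σ) = σ := fun σ => (MulEquiv.ofBijective _ hMbij).apply_symm_apply σ
  obtain ⟨ιC, hιθ, hιa⟩ : ∃ ιC : Equiv.Perm (Fin 6) →* C, (∀ σ, θ (ιC σ) = σ) ∧
      ιC (Equiv.swap 0 1) = A0 := by
    rcases hZ (a := e0 (Equiv.swap 0 1)) (b := A0) (by rw [he0]; exact f3.symm) with e' | e'
    · exact ⟨e0, he0, e'.symm⟩
    · let ζ : ℤˣ →* C := MonoidHom.mk' (fun u => if u = 1 then 1 else tC) fun u v => by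
        rcases Int.units_eq_one_or u with rfl | rfl <;> rcases Int.units_eq_one_or v with rfl | rfl <;>
          simp [ht2]
      have hζ : ∀ u, θ (ζ u) = 1 := fun u => by
        show θ (if u = 1 then 1 else tC) = 1
        split
        · exact map_one _
        · exact hθt
      refine ⟨MonoidHom.mk' (fun σ => e0 σ * ζ (Equiv.Perm.sign σ)) fun p q => ?_, fun σ => ?_, ?_⟩
      · rw [map_mul, map_mul Equiv.Perm.sign, map_mul ζ]
        refine ((show Commute (ζ (Equiv.Perm.sign p)) (e0 q) from ?_).mul_mul_mul_comm _ _).symm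
        show Commute (if Equiv.Perm.sign p = 1 then 1 else tC) (e0 q)
        split
        · exact Commute.one_left _
        · exact htc (e0 q)
      · show θ (e0 σ * ζ _) = σ
        rw [map_mul, hζ, mul_one]
        exact he0 σ
      · show e0 (Equiv.swap 0 1) * ζ (Equiv.Perm.sign (Equiv.swap 0 1)) = A0
        rw [Six.sign_table.1, e']
        rfl
  have hιinj : Function.Injective ιC := fun p q e => by rw [← hιθ p, e, hιθ]
  have hmod : ∀ (σ : Equiv.Perm (Fin 6)) (c : C), θ c = σ → c = ιC σ ∨ c = ιC σ * tC := fun σ c e =>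
    hZ ((hιθ σ).trans e.symm)
  have hexact : ∀ (σ : Equiv.Perm (Fin 6)) (c : C), θ c = σ → (c : G) ^ 3 = 1 → σ ^ 3 = 1 →
      ιC σ = c := fun σ c e hc hσ => hcube (e.trans (hιθ σ).symm) hc (by
    rw [← SubgroupClass.coe_pow, ← map_pow, hσ, map_one]; rfl)
  have hp23 : CfsgLib.ThreeLocalNine.p2 ^ 3 = (1 : Equiv.Perm (Fin 6)) ∧
      CfsgLib.ThreeLocalNine.p3 ^ 3 = (1 : Equiv.Perm (Fin 6)) := by decide +kernel
  refine ⟨C.subtype.comp ιC, C.subtype_injective.comp hιinj, fun σ => hCmem.1 (ιC σ).2,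
    fun σ e => ?_, congrArg Subtype.val (hexact _ E1 f1 (H.emb_cube 1) hp23.1),
    congrArg Subtype.val (hexact _ E3 f2 (H.emb_cube 3) hp23.2), congrArg Subtype.val hιa, ?_, ?_,
    fun y hy hyc => ?_⟩
  · have e1 : θ (ιC σ) = θ tC := congrArg θ (Subtype.ext e)
    rw [hιθ, hθt] at e1
    rw [e1, map_one] at e
    exact h.t_ne_one e.symm
  · have e2 : ιC (Equiv.swap 3 4) = ιC Six.tp * A0 * ιC Six.tp := by
      rw [← hιa, ← map_mul, ← map_mul, Six.gen_table.2.2.1]
    show ((ιC (Equiv.swap 3 4) : C) : G) = H.ti t 1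
    rw [e2]
    rcases hmod _ S1 f4 with e' | e'
    · rw [← e']; exact congrArg Subtype.val hA1
    · have e'' : ιC Six.tp = S1 * tC := by rw [e', mul_assoc, ht2, mul_one]
      rw [e'', show S1 * tC * A0 * (S1 * tC) = S1 * (tC * A0) * (S1 * tC) by group,
        show tC * A0 = A0 * tC from Subtype.ext (h.t_comm_ti 0).eq.symm,
        show S1 * tC = tC * S1 from Subtype.ext h.comm,
        show S1 * (A0 * tC) * (tC * S1) = S1 * A0 * (tC * tC) * S1 by group, ht2, mul_one]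
      exact congrArg Subtype.val hA1
  · rcases hmod _ S1 f4 with e' | e'
    · exact Or.inl (congrArg Subtype.val e'.symm)
    · right
      show ((ιC Six.tp : C) : G) = t * H.S 1
      rw [show ιC Six.tp = S1 * tC by rw [e', mul_assoc, ht2, mul_one]]
      exact h.comm
  · obtain ⟨x, hx⟩ := Six.trip_table.1 (θ ⟨y, hCmem.2 hy⟩) fun i => by
      have hc : (⟨y, hCmem.2 hy⟩ : C) * ιC (Six.tri i) = ιC (Six.tri i) * ⟨y, hCmem.2 hy⟩ :=
        Subtype.ext (hyc i)
      have := congrArg θ hc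
      rwa [map_mul, map_mul, hιθ] at this
    rcases hmod _ _ hx with e' | e'
    · exact ⟨x, 0, by rw [pow_zero, mul_one]; exact congrArg Subtype.val e'⟩
    · exact ⟨x, 1, by rw [pow_one]; exact congrArg Subtype.val e'⟩

end Hyp

end CfsgLib.ThreeSymNine
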