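import Cfsg.Agent.ThreeSymNine.Basic
import Cfsg.Agent.ThreeSymNine.Mat

/-!
# The automizer of the elementary abelian group of order 27

After a change of basis it consists of monomial matrices, and is one of the symmetric group on
three letters, that group times the inversion, the even monomial group and the monomial group.
-/

set_option autoImplicit false
set_option maxRecDepth 100000
set_option linter.style.haveILetI false

namespace CfsgLib.ThreeSymNine

open CfsgLib.AltNine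

attribute [local instance 10000] List.decidableBAll List.decidableBEx

universe u

namespace Hyp

variable {G : Type u} [Group G] (H : Hyp G)

/-- The element `g` induces the matrix `M`. -/
def Induces (g : G) (M : Mat) : Prop := ∀ v, g * H.emb v * g⁻¹ = H.emb (app M v)

/-- The matrices induced by the normalizer. -/
def W (M : Mat) : Prop := ∃ g, H.Induces g M

theorem induces_S (a : Fin 6) : H.Induces (H.S a) (pmat a) := fun v => by
  rw [app_pmat, H.S_act]

theorem W_pmat (a : Fin 6) : H.W (pmat a) := ⟨_, H.induces_S a⟩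

theorem vec_split : ∀ v : Fin 27,
    av (av (sm (dig v 0) 1) (sm (dig v 1) 3)) (sm (dig v 2) 9) = v := by decide +kernel

theorem emb_sm (k : Fin 3) (v : Fin 27) : H.emb (sm k v) = H.emb v ^ k.1 := by
  fin_cases k
  · simp [sm, H.emb_zero]
  · simp [sm]
  · show H.emb (nv v) = H.emb v ^ 2
    rw [H.emb_nv]
    exact inv_eq_of_mul_eq_one_right (by rw [← pow_succ']; exact H.emb_cube v)

theorem induces_of_basis {g : G} {M : Mat} (h1 : g * H.emb 1 * g⁻¹ = H.emb M.1)
    (h2 : g * H.emb 3 * g⁻¹ = H.emb M.2.1) (h3 : g * H.emb 9 * g⁻¹ = H.emb M.2.2) :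
    H.Induces g M := fun v => by
  conv_lhs => rw [← vec_split v]
  simp only [app, H.emb_add, H.emb_sm, ← h1, ← h2, ← h3, ← MulAut.conj_apply, map_mul, map_pow]

/-- Every element normalizing the subgroup induces a matrix. -/
theorem exists_induces {g : G} (hg : ∀ v, g * H.emb v * g⁻¹ ∈ H.J) : ∃ M, H.Induces g M := by
  obtain ⟨a, ha⟩ := hg 1
  obtain ⟨b, hb⟩ := hg 3
  obtain ⟨c, hc⟩ := hg 9
  exact ⟨(a, b, c), H.induces_of_basis ha.symm hb.symm hc.symm⟩

theorem Induces.comp {H : Hyp G} {g h : G} {A B : Mat} (hg : H.Induces g A) (hh : H.Induces h B) :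
    ∀ v, g * h * H.emb v * (g * h)⁻¹ = H.emb (app A (app B v)) := fun v => by
  rw [← hg, ← hh]
  group

theorem Induces.mul {H : Hyp G} {g h : G} {A B : Mat} (hg : H.Induces g A) (hh : H.Induces h B) :
    H.Induces (g * h) (mm A B) := by
  obtain ⟨b1, b3, b9⟩ := app_one B
  refine H.induces_of_basis ?_ ?_ ?_
  · rw [hg.comp hh, b1]; rfl
  · rw [hg.comp hh, b3]; rfl
  · rw [hg.comp hh, b9]; rfl

theorem Induces.app_mm {H : Hyp G} {g h : G} {A B : Mat} (hg : H.Induces g A) (hh : H.Induces h B)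
    (v : Fin 27) : app (mm A B) v = app A (app B v) :=
  H.emb_inj ((hg.mul hh v).symm.trans (hg.comp hh v))

theorem Induces.unique {H : Hyp G} {g : G} {A B : Mat} (hA : H.Induces g A) (hB : H.Induces g B) :
    A = B := ext_app fun v => H.emb_inj ((hA v).symm.trans (hB v))

theorem Induces.eq_zero {H : Hyp G} {g : G} {M : Mat} (hg : H.Induces g M) {v : Fin 27}
    (h : app M v = 0) : v = 0 := by
  have := hg v
  rw [h, H.emb_zero, conj_eq_one_iff] at this
  exact H.emb_inj (this.trans H.emb_zero.symm)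

theorem Induces.injB {H : Hyp G} {g : G} {M : Mat} (hg : H.Induces g M) : injB M = true := by
  simp only [ThreeSymNine.injB, List.all_eq_true, Bool.or_eq_true, beq_iff_eq, bne_iff_ne]
  intro v _
  by_cases h : v = 0
  · exact Or.inl h
  · exact Or.inr fun e => h (hg.eq_zero e)

theorem W_mul {A B : Mat} (hA : H.W A) (hB : H.W B) : H.W (mm A B) :=
  let ⟨_, hg⟩ := hA; let ⟨_, hh⟩ := hB; ⟨_, hg.mul hh⟩

theorem W_app {A B : Mat} (hA : H.W A) (hB : H.W B) (v : Fin 27) :
    app (mm A B) v = app A (app B v) :=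
  let ⟨_, hg⟩ := hA; let ⟨_, hh⟩ := hB; hg.app_mm hh v

/-- The stabilizer of the central element. -/
theorem stab {M : Mat} (hM : H.W M) (hx : app M 13 = 13) : ∃ a, M = pmat a := by
  obtain ⟨g, hg⟩ := hM
  have hc : g * H.emb 13 = H.emb 13 * g := by
    have := hg 13
    rw [hx] at this
    exact mul_inv_eq_iff_eq_mul.1 this
  obtain ⟨v, a, rfl⟩ := H.cent g hc
  refine ⟨a, hg.unique fun w => ?_⟩
  rw [app_pmat, mul_inv_rev, ← mul_assoc, mul_assoc (H.emb v), mul_assoc (H.emb v), H.S_act,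
    H.emb_comm v, mul_inv_cancel_right]

theorem not_bad3 {A B : Mat} (hA : H.W A) (hB : H.W B) : bad3 A B = false := by
  rw [Bool.eq_false_iff]
  intro h
  simp only [bad3, List.any_eq_true, Bool.and_eq_true, beq_iff_eq, Bool.not_eq_true'] at h
  obtain ⟨s, -, t, -, hx, hn⟩ := h
  have h1 := H.W_mul (H.W_pmat t) hA
  have h2 := H.W_mul hB h1
  have h3 := H.W_mul (H.W_pmat s) h2
  obtain ⟨a, ha⟩ := H.stab (H.W_mul hA h3) (by
    rw [H.W_app hA h3, H.W_app (H.W_pmat s) h2, H.W_app hB h1, H.W_app (H.W_pmat t) hA, app_pmat,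
      app_pmat, hx])
  rw [ha] at hn
  simp [pList] at hn

theorem not_bad4 {M : Mat} (hM : H.W M) : bad4 M = false := by
  rw [Bool.eq_false_iff]
  intro h
  simp only [bad4, List.any_eq_true, Bool.and_eq_true, beq_iff_eq, Bool.not_eq_true'] at h
  obtain ⟨s, -, t, -, u, -, hx, hn⟩ := h
  have h1 := H.W_mul (H.W_pmat u) hM
  have h2 := H.W_mul hM h1
  have h3 := H.W_mul (H.W_pmat t) h2
  have h4 := H.W_mul hM h3
  have h5 := H.W_mul (H.W_pmat s) h4
  obtain ⟨a, ha⟩ := H.stab (H.W_mul hM h5) (by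
    rw [H.W_app hM h5, H.W_app (H.W_pmat s) h4, H.W_app hM h3, H.W_app (H.W_pmat t) h2,
      H.W_app hM h1, H.W_app (H.W_pmat u) hM, app_pmat, app_pmat, app_pmat, hx])
  rw [ha] at hn
  simp [pList] at hn

theorem sum_table : ∀ c0 c1 c2 : Fin 27,
    c2 = av (nv (av c0 c1)) (av (av (sm 1 c0) (sm 1 c1)) (sm 1 c2)) := by decide +kernel

theorem of_sum {M : Mat} {p : Fin 27} (h : app M 13 = p) :
    M = (M.1, M.2.1, av (nv (av M.1 M.2.1)) p) := by
  subst h
  exact Prod.ext rfl (Prod.ext rfl (sum_table M.1 M.2.1 M.2.2))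

theorem neg_x {M : Mat} (hM : H.W M) (hx : app M 13 = 26) : ∃ a, M = mono 7 a := by
  obtain ⟨g, hg⟩ := hM
  have h26 : ∀ a, pa a 26 = 26 := by decide +kernel
  have hn : ∀ a, ∃ b, mm (pmat a) M = mm M (pmat b) := by
    intro a
    have hcomm : g⁻¹ * H.S a * g * H.emb 13 = H.emb 13 * (g⁻¹ * H.S a * g) := by
      have e := hg 13
      rw [hx, mul_inv_eq_iff_eq_mul] at e
      have e2 := H.S_emb a 26
      rw [h26] at e2
      calc g⁻¹ * H.S a * g * H.emb 13 = g⁻¹ * H.S a * (g * H.emb 13) := by group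
        _ = g⁻¹ * (H.S a * H.emb 26) * g := by rw [e]; group
        _ = g⁻¹ * H.emb 26 * g * (g⁻¹ * H.S a * g) := by rw [e2]; group
        _ = _ := by rw [show g⁻¹ * H.emb 26 * g = H.emb 13 by rw [mul_assoc, ← e]; group]
    obtain ⟨v, b, hvb⟩ := H.cent _ hcomm
    refine ⟨b, ext_app fun w => H.emb_inj ?_⟩
    have hSb : H.Induces (H.emb v * H.S b) (pmat b) := fun w => by
      rw [app_pmat, mul_inv_rev, ← mul_assoc, mul_assoc (H.emb v), mul_assoc (H.emb v), H.S_act,
        H.emb_comm v, mul_inv_cancel_right]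
    rw [← hg.mul hSb w, ← (H.induces_S a).mul hg w, ← hvb]
    group
  have h2 : ∃ a, mm M M = pmat a := H.stab (H.W_mul ⟨g, hg⟩ ⟨g, hg⟩) (by
    rw [hg.app_mm hg, hx]
    have hneg : ∀ v : Fin 27, app M (nv v) = nv (app M v) := fun v => H.emb_inj (by
      rw [← hg, H.emb_nv, H.emb_nv, ← hg]; group)
    rw [show (26 : Fin 27) = nv 13 by decide +kernel, hneg, hx]
    decide +kernel)
  obtain ⟨a, ha⟩ := h2
  have hs := of_sum hx
  have := neg_table M.1 M.2.1
  rw [← hs] at this
  exact this hg.injB (by rw [ha]; simp [pList]) hn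

theorem not_six {M : Mat} (hM : H.W M) : app M 13 ≠ 7 := by
  intro hx
  have hs := of_sum hx
  have h := six_table M.1 M.2.1
  rw [← hs] at h
  have := h hM.choose_spec.injB
  rw [H.not_bad3 hM hM, H.not_bad4 hM] at this
  exact absurd this (by simp)

/-- A matrix sending the central element to a short orbit, up to permutations, is one of the
twelve. -/
theorem exists_good {M : Mat} (hM : H.W M) {a : Fin 6}
    (ha : pSix.contains (pa a (app M 13)) = true) :
    ∃ c : Fin 6, mm (mm (pmat a) M) (pmat c) ∈ goodList ∧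
      H.W (mm (mm (pmat a) M) (pmat c)) := by
  obtain ⟨g1, hg1⟩ := H.W_mul (H.W_pmat a) hM
  set M1 := mm (pmat a) M with hM1
  have hp : app M1 13 = pa a (app M 13) := by
    rw [hM1, H.W_app (H.W_pmat a) hM, app_pmat]
  have hfix : ∀ p, pSix.contains p = true → pa 1 p = p := by decide +kernel
  have hp1 : pa 1 (app M1 13) = app M1 13 := by rw [hp]; exact hfix _ ha
  have hcomm : g1⁻¹ * H.S 1 * g1 * H.emb 13 = H.emb 13 * (g1⁻¹ * H.S 1 * g1) := by
    have e := hg1 13
    rw [mul_inv_eq_iff_eq_mul] at e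
    have e2 := H.S_emb 1 (app M1 13)
    rw [hp1] at e2
    calc g1⁻¹ * H.S 1 * g1 * H.emb 13 = g1⁻¹ * H.S 1 * (g1 * H.emb 13) := by group
      _ = g1⁻¹ * (H.S 1 * H.emb (app M1 13)) * g1 := by rw [e]; group
      _ = g1⁻¹ * H.emb (app M1 13) * g1 * (g1⁻¹ * H.S 1 * g1) := by rw [e2]; group
      _ = _ := by
        rw [show g1⁻¹ * H.emb (app M1 13) * g1 = H.emb 13 by rw [mul_assoc, ← e]; group]
  obtain ⟨v, b, hvb⟩ := H.cent _ hcomm
  have hrel : ∀ w, app M1 (pa b w) = pa 1 (app M1 w) := fun w => H.emb_inj (by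
    rw [← hg1, ← H.S_act 1, ← hg1]
    have : H.emb v * H.S b * H.emb w * (H.emb v * H.S b)⁻¹ = H.emb (pa b w) := by
      rw [mul_inv_rev, ← mul_assoc, mul_assoc (H.emb v), mul_assoc (H.emb v), H.S_act,
        H.emb_comm v, mul_inv_cancel_right]
    rw [← this, ← hvb]
    group)
  have hinj : ∀ w w', app M1 w = app M1 w' → w = w' := fun w w' e => H.emb_inj
    (mul_left_cancel (mul_right_cancel (show g1 * H.emb w * g1⁻¹ = g1 * H.emb w' * g1⁻¹ by
      rw [hg1, hg1, e])))
  have hb2 : ∀ w, pa b (pa b w) = w := fun w => hinj _ _ (by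
    have h11 : ∀ v, pa 1 (pa 1 v) = v := by decide +kernel
    rw [hrel, hrel, h11])
  have hb0 : b ≠ 0 := by
    rintro rfl
    obtain ⟨w, hw⟩ := Finite.surjective_of_injective (f := app M1) (fun p q => hinj p q) 1
    have := hrel w
    rw [(pa_table.1 w), hw] at this
    exact absurd this (by decide +kernel)
  have hc : ∀ b : Fin 6, b ≠ 0 → (∀ w, pa b (pa b w) = w) →
      ∃ c : Fin 6, ∀ w, pa c (pa 1 w) = pa b (pa c w) := by decide +kernel
  obtain ⟨c, hc⟩ := hc b hb0 hb2
  have hM2 := H.W_mul ⟨g1, hg1⟩ (H.W_pmat c)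
  refine ⟨c, ?_, hM2⟩
  set M2 := mm M1 (pmat c)
  have happ : ∀ w, app M2 w = app M1 (pa c w) := fun w => by
    rw [H.W_app ⟨g1, hg1⟩ (H.W_pmat c), app_pmat]
  have hτ : ∀ w, app M2 (pa 1 w) = pa 1 (app M2 w) := fun w => by
    rw [happ, happ, hc, hrel]
  have e3 : M2 = (M2.1, pa 1 M2.1, M2.2.2) := by
    obtain ⟨h1, h3, -⟩ := app_one M2
    refine Prod.ext rfl (Prod.ext ?_ rfl)
    show M2.2.1 = pa 1 M2.1
    rw [← h1, ← h3, ← hτ]
    rfl
  have e9 : pa 1 M2.2.2 = M2.2.2 := by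
    obtain ⟨-, -, h9⟩ := app_one M2
    rw [← h9, ← hτ]
    rfl
  have h := tau_table M2.1 M2.2.2 e9
  rw [← e3] at h
  have := h (by rw [happ, (pa_table.2 c).1, hp]; exact ha) hM2.choose_spec.injB
  rw [H.not_bad4 hM2, Bool.false_or] at this
  exact List.contains_iff_mem.1 this

/-- A monomial matrix with prescribed translates. -/
theorem mono_of {M : Mat} (hM : H.W M) {a c : Fin 6} {d : Fin 8} {e : Fin 6}
    (h : mm (mm (pmat a) M) (pmat c) = mono d e) : ∃ d' e', M = mono d' e' := by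
  have h1 := H.W_mul (H.W_pmat a) hM
  have hD : H.W (mono d e) := h ▸ H.W_mul h1 (H.W_pmat c)
  obtain ⟨d', e', he⟩ := mono_closed d e (pinv a) (pinv c)
  refine ⟨d', e', he ▸ ext_app fun w => ?_⟩
  have hi : ∀ a v, pa (pinv a) (pa a v) = v ∧ pa a (pa (pinv a) v) = v := by decide +kernel
  rw [H.W_app (H.W_pmat _) (H.W_mul hD (H.W_pmat _)), H.W_app hD (H.W_pmat _), ← h,
    H.W_app h1 (H.W_pmat _), H.W_app (H.W_pmat _) hM, app_pmat, app_pmat, app_pmat, app_pmat,
    (hi c w).2, (hi a _).1]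

/-- All matrices are monomial. -/
def Mono : Prop := ∀ M, H.W M → ∃ d a, M = mono d a

/-- The hypotheses in a new basis. -/
def rebase (b : Fin 3) : Hyp G where
  emb v := H.emb (zv b v)
  emb_add u v := by simp only [zv_table.2.1, H.emb_add]
  S := H.S
  S_mul := H.S_mul
  S_act a v := by rw [H.S_act, zv_table.1]
  indep v a h := by
    obtain ⟨h1, h2⟩ := H.indep _ _ h
    exact ⟨zv_table.2.2.2.1 b v h1, h2⟩
  cent g hg := by
    simp only [zv_table.2.2.1] at hg
    obtain ⟨v, a, rfl⟩ := H.cent g hg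
    obtain ⟨w, rfl⟩ := zv_table.2.2.2.2 b v
    exact ⟨w, a, rfl⟩
  sig K hK hn := H.sig K hK fun v k hk => by
    obtain ⟨w, rfl⟩ := zv_table.2.2.2.2 b v
    exact hn w k hk

theorem rebase_J (b : Fin 3) : (H.rebase b).J = H.J := by
  ext g
  refine ⟨?_, ?_⟩
  · rintro ⟨v, rfl⟩; exact ⟨_, rfl⟩
  · rintro ⟨v, rfl⟩
    obtain ⟨w, rfl⟩ := zv_table.2.2.2.2 b v
    exact ⟨w, rfl⟩

theorem W_rebase {b : Fin 3} {M A : Mat} (hM : H.W M)
    (h : ∀ v, zv b (app A v) = app M (zv b v)) : (H.rebase b).W A := by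
  obtain ⟨g, hg⟩ := hM
  refine ⟨g, fun v => ?_⟩
  show g * H.emb (zv b v) * g⁻¹ = H.emb (zv b (app A v))
  rw [h, hg]

theorem trichotomy {M : Mat} (hM : H.W M) :
    (∃ d a, M = mono d a) ∨ ∃ a c : Fin 6, mm (mm (pmat a) M) (pmat c) ∈ goodList ∧
      H.W (mm (mm (pmat a) M) (pmat c)) := by
  rcases rep_table (app M 13) with h | h | h | ⟨a, h | h⟩
  · exact absurd (hM.choose_spec.eq_zero h) (by decide +kernel)
  · obtain ⟨a, rfl⟩ := H.stab hM h
    have : ∀ a, ∃ d e, pmat a = mono d e := by decide +kernel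
    exact Or.inl (this a)
  · obtain ⟨a, rfl⟩ := H.neg_x hM h
    exact Or.inl ⟨7, a, rfl⟩
  · exact Or.inr ⟨a, H.exists_good hM h⟩
  · exact absurd (by rw [H.W_app (H.W_pmat a) hM, app_pmat, h]) (H.not_six (H.W_mul (H.W_pmat a) hM))

/-- A change of basis makes all matrices monomial. -/
theorem exists_mono : ∃ b, (H.rebase b).Mono := by
  by_cases hg : ∃ M ∈ goodList, H.W M
  · obtain ⟨M, hMg, hM⟩ := hg
    obtain ⟨b, A, hA, hrel, -⟩ := good_table M hMg
    refine ⟨b, fun N hN => ?_⟩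
    have hWA := H.W_rebase hM hrel
    rcases (H.rebase b).trichotomy hN with h | ⟨a, c, hB, hWB⟩
    · exact h
    · rcases pair_table A hA _ hB with h | h
      · obtain ⟨d, e, he⟩ := monoGood_table _ h
        exact (H.rebase b).mono_of hN he
      · rw [(H.rebase b).not_bad3 hWA hWB, (H.rebase b).not_bad3 hWB hWA] at h
        exact absurd h (by simp)
  · refine ⟨0, fun N hN => ?_⟩
    have h0 : ∀ v, zv 0 v = v := by decide +kernel
    obtain ⟨g, hgN⟩ := hN
    have hN' : H.W N := ⟨g, fun v => by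
      have := hgN v
      simp only [rebase, h0] at this
      exact this⟩
    rcases H.trichotomy hN' with h | ⟨a, c, hB, hWB⟩
    · exact h
    · exact absurd ⟨_, hB, hWB⟩ hg

end Hyp

end CfsgLib.ThreeSymNine
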