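import Cfsg.Agent.ThreeSymNine.Model
import Mathlib.GroupTheory.Index
import Mathlib.GroupTheory.OrderOfElement

/-!
# The standing hypotheses: an element of order three with the centralizer of three three-cycles

`emb` parametrises the elementary abelian group of order 27, `S` the block permutations.
-/

set_option autoImplicit false
set_option maxRecDepth 100000
set_option linter.style.haveILetI false

namespace CfsgLib.ThreeSymNine

open CfsgLib.AltNine

attribute [local instance 10000] List.decidableBAll List.decidableBEx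

universe u

/-- The standing hypotheses. -/
structure Hyp (G : Type u) [Group G] where
  /-- the elementary abelian subgroup -/
  emb : Fin 27 → G
  emb_add : ∀ u v, emb (av u v) = emb u * emb v
  /-- the block permutations -/
  S : Fin 6 → G
  S_mul : ∀ a b, S a * S b = S (pm a b)
  S_act : ∀ a v, S a * emb v * (S a)⁻¹ = emb (pa a v)
  indep : ∀ v a, emb v * S a = 1 → v = 0 ∧ a = 0
  cent : ∀ g, g * emb 13 = emb 13 * g → ∃ v a, g = emb v * S a
  sig : ∀ K : Subgroup G, (Nat.card K).Coprime 3 →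
    (∀ v, ∀ k ∈ K, emb v * k * (emb v)⁻¹ ∈ K) → K = ⊥

namespace Hyp

variable {G : Type u} [Group G] (H : Hyp G)

theorem av_table : ∀ u v w : Fin 27, av u v = av v u ∧ (av u v = u → v = 0) ∧ av (nv u) u = 0 ∧
    av u (nv u) = 0 ∧ av 0 u = u ∧ av u 0 = u ∧ av u (av u u) = 0 ∧ (w = 0 → nv w = 0) := by
  decide +kernel

theorem emb_zero : H.emb 0 = 1 := by
  have h := H.emb_add 0 0
  rw [(av_table 0 0 0).2.2.2.2.1] at h
  exact mul_eq_left.1 h.symm

theorem emb_nv (v : Fin 27) : H.emb (nv v) = (H.emb v)⁻¹ :=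
  eq_inv_of_mul_eq_one_left (by rw [← H.emb_add, (av_table v v v).2.2.1, H.emb_zero])

theorem emb_comm (u v : Fin 27) : H.emb u * H.emb v = H.emb v * H.emb u := by
  rw [← H.emb_add, ← H.emb_add, (av_table u v v).1]

theorem emb_cube (v : Fin 27) : H.emb v ^ 3 = 1 := by
  rw [pow_succ', pow_two, ← H.emb_add, ← H.emb_add, (av_table v v v).2.2.2.2.2.2.1, H.emb_zero]

theorem S_zero : H.S 0 = 1 := by
  have h := H.S_mul 0 0
  rw [(pa_table.2 0).2.1] at h
  exact mul_eq_left.1 h

theorem S_inv (a : Fin 6) : (H.S a)⁻¹ = H.S (pinv a) :=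
  inv_eq_of_mul_eq_one_right (by rw [H.S_mul, (pa_table.2 a).2.2.2.2.1, H.S_zero])

theorem emb_inj : Function.Injective H.emb := by
  intro u v h
  have h1 : H.emb (av (nv u) v) * H.S 0 = 1 := by
    rw [H.S_zero, mul_one, H.emb_add, H.emb_nv, h, inv_mul_cancel]
  have := congrArg (av u) (H.indep _ _ h1).1
  rw [← av_assoc, (av_table u u u).2.2.2.1, (av_table v v v).2.2.2.2.1,
    (av_table u u u).2.2.2.2.2.1] at this
  exact this.symm

theorem S_emb (a : Fin 6) (v : Fin 27) : H.S a * H.emb v = H.emb (pa a v) * H.S a :=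
  mul_inv_eq_iff_eq_mul.1 (H.S_act a v)

theorem mul_mk (v w : Fin 27) (a b : Fin 6) :
    H.emb v * H.S a * (H.emb w * H.S b) = H.emb (av v (pa a w)) * H.S (pm a b) := by
  rw [H.emb_add, ← H.S_mul]
  simp only [mul_assoc]
  rw [← mul_assoc (H.S a), H.S_emb, mul_assoc]

theorem mk_inj {v w : Fin 27} {a b : Fin 6} (h : H.emb v * H.S a = H.emb w * H.S b) :
    v = w ∧ a = b := by
  have h1 : H.emb (av (nv w) v) * H.S (pm a (pinv b)) = 1 := by
    rw [H.emb_add, H.emb_nv, ← H.S_mul, ← H.S_inv, ← mul_assoc, mul_assoc (H.emb w)⁻¹, h]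
    group
  obtain ⟨hv, hab⟩ := H.indep _ _ h1
  constructor
  · have := congrArg (av w) hv
    rw [← av_assoc, (av_table w w w).2.2.2.1, (av_table v v v).2.2.2.2.1,
      (av_table w w w).2.2.2.2.2.1] at this
    exact this
  · have h3 : ∀ a b : Fin 6, pm a (pinv b) = 0 → a = b := by decide +kernel
    exact h3 a b hab

/-- The central element. -/
def x : G := H.emb 13

/-- The elementary abelian subgroup. -/
def J : Subgroup G where
  carrier := Set.range H.emb
  mul_mem' := by
    rintro _ _ ⟨u, rfl⟩ ⟨v, rfl⟩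
    exact ⟨av u v, H.emb_add u v⟩
  one_mem' := ⟨0, H.emb_zero⟩
  inv_mem' := by
    rintro _ ⟨u, rfl⟩
    exact ⟨nv u, H.emb_nv u⟩

theorem emb_mem (v : Fin 27) : H.emb v ∈ H.J := ⟨v, rfl⟩

theorem x_mem : H.x ∈ H.J := H.emb_mem 13

theorem J_comm {a b : G} (ha : a ∈ H.J) (hb : b ∈ H.J) : a * b = b * a := by
  obtain ⟨u, rfl⟩ := ha
  obtain ⟨v, rfl⟩ := hb
  exact H.emb_comm u v

theorem J_cube {a : G} (ha : a ∈ H.J) : a ^ 3 = 1 := by
  obtain ⟨u, rfl⟩ := ha
  exact H.emb_cube u

theorem card_J : Nat.card H.J = 27 := by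
  exact (Nat.card_congr (Equiv.ofInjective H.emb H.emb_inj).symm).trans (Nat.card_fin 27)

theorem commute_x_iff {g : G} : g * H.x = H.x * g ↔ ∃ v a, g = H.emb v * H.S a := by
  refine ⟨H.cent g, ?_⟩
  rintro ⟨v, a, rfl⟩
  show H.emb v * H.S a * H.emb 13 = H.emb 13 * (H.emb v * H.S a)
  rw [mul_assoc, H.S_emb, (pa_table.2 a).1, ← mul_assoc, H.emb_comm v 13, mul_assoc]

theorem mem_J_of_centralizes {g : G} (hg : ∀ j ∈ H.J, g * j = j * g) : g ∈ H.J := by
  obtain ⟨v, a, rfl⟩ := H.cent g (hg _ (H.emb_mem 13))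
  have hfix : ∀ a : Fin 6, pa a 1 = 1 → pa a 3 = 3 → a = 0 := by decide +kernel
  have key : ∀ w, pa a w = w := fun w => by
    refine H.emb_inj ?_
    have := hg _ (H.emb_mem w)
    rw [mul_assoc, H.S_emb, ← mul_assoc, H.emb_comm v, mul_assoc] at this
    exact mul_right_cancel this
  rw [hfix a (key 1) (key 3), H.S_zero, mul_one]
  exact H.emb_mem v

theorem centralizer_J : Subgroup.centralizer (H.J : Set G) = H.J := by
  refine le_antisymm (fun g hg => H.mem_J_of_centralizes fun j hj =>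
    (Subgroup.mem_centralizer_iff.1 hg j hj).symm) fun g hg => ?_
  exact Subgroup.mem_centralizer_iff.2 fun j hj => H.J_comm hj hg

/-- A subgroup of order prime to three normalised by the elementary abelian subgroup is trivial. -/
theorem eq_bot_of_normalized {K : Subgroup G} (hK : (Nat.card K).Coprime 3)
    (hn : H.J ≤ Subgroup.normalizer (K : Set G)) : K = ⊥ :=
  H.sig K hK fun v k hk => (Subgroup.mem_normalizer_iff.1 (hn (H.emb_mem v)) k).1 hk

theorem card_centralizer_x : Nat.card (Subgroup.centralizer ({H.x} : Set G)) = 162 := by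
  let f : Fin 27 × Fin 6 → Subgroup.centralizer ({H.x} : Set G) := fun p =>
    ⟨H.emb p.1 * H.S p.2, Subgroup.mem_centralizer_singleton_iff.2
      (H.commute_x_iff.2 ⟨p.1, p.2, rfl⟩)⟩
  have hf : Function.Bijective f := by
    refine ⟨fun p q h => ?_, fun g => ?_⟩
    · obtain ⟨h1, h2⟩ := H.mk_inj (congrArg Subtype.val h)
      exact Prod.ext h1 h2
    · obtain ⟨v, a, hva⟩ := H.cent g (Subgroup.mem_centralizer_singleton_iff.1 g.2)
      exact ⟨(v, a), Subtype.ext hva.symm⟩
  rw [← Nat.card_congr (Equiv.ofBijective f hf)]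
  simp

end Hyp

end CfsgLib.ThreeSymNine
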