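import Cfsg.Agent.ThreeSymNine.TransferB
import Cfsg.Agent.S3701

/-!
# The even monomial automizer: conclusion
-/

set_option autoImplicit false
set_option maxRecDepth 100000
set_option linter.style.haveILetI false
set_option linter.unusedSectionVars false
set_option synthInstance.maxSize 100000

namespace CfsgLib.ThreeSymNine

open CfsgLib.AltNine Subgroup

attribute [local instance 10000] List.decidableBAll List.decidableBEx

universe u

/-- The code of a three-cycle of blocks. -/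
def code (a : Fin 6) : Multiplicative (ZMod 3) :=
  Multiplicative.ofAdd (if a = 4 then 1 else if a = 5 then 2 else 0)

theorem code_table : (∀ a ∈ ([0, 4, 5] : List (Fin 6)), ∀ b ∈ ([0, 4, 5] : List (Fin 6)),
      code (pm a b) = code a * code b) ∧ code 0 = 1 ∧ code 4 ^ 3 = 1 ∧
    (∀ w : Fin 27, app (mono 0 4) (app (mono 0 4) (app (mono 0 4) w)) = w) ∧
    (∀ c ∈ ([1, 2, 3] : List (Fin 6)), ∃ d ∈ ([0, 4, 5] : List (Fin 6)), pm (pm d c) (pinv d) = 1) ∧
    (∀ c : Fin 6, c ∈ ([0, 4, 5] : List (Fin 6)) ∨ c ∈ ([1, 2, 3] : List (Fin 6))) := by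
  decide +kernel

theorem code_cube : (∀ i, code i ^ 3 = 1) ∧ (∀ i ∈ ([4, 5] : List (Fin 6)), code i ≠ 1) ∧
    ∀ q : Multiplicative (ZMod 3), q * q = 1 → q = 1 := by decide +kernel

namespace Hyp

variable {G : Type u} [Group G] [Finite G] {H : Hyp G} {a b : G}

theorem BData.not_real (h : BData H a b) (g : G) : g * H.emb 13 * g⁻¹ ≠ H.emb 26 := by
  intro e
  obtain ⟨M, hM, happ⟩ := H.fusion_app e
  obtain ⟨d, hd, x, rfl⟩ := (h.signs M).1 hM
  exact b_not_real d hd x happ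

theorem BData.x_class (h : BData H a b) {v : Fin 27} (hv : v = 13 ∨ v = 26) {g : G}
    (e : g * H.emb v * g⁻¹ = H.emb 13 ∨ g * H.emb v * g⁻¹ = H.emb 26) : g * H.emb v * g⁻¹ = H.emb v := by
  have hn : nv 13 = (26 : Fin 27) ∧ nv (26 : Fin 27) = 13 := by decide +kernel
  rcases hv with rfl | rfl <;> rcases e with e | e
  · exact e
  · exact absurd e (h.not_real g)
  · refine absurd ?_ (h.not_real g)
    have := congrArg (·⁻¹) e
    simpa [conj_inv, ← H.emb_nv, hn.1, hn.2, mul_assoc] using this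
  · exact e

/-- The block rotation is not fused with a member of the elementary abelian subgroup. -/
theorem BData.sigma_not_J (h : BData H a b) (g : G) (v : Fin 27) :
    g * H.S 4 * g⁻¹ ≠ H.emb v := by
  classical
  obtain ⟨hcube, hsplit, -⟩ := b_cube
  intro e
  have hS4 : H.S 4 ≠ 1 := fun e' => absurd
    (H.indep 0 4 (by rw [H.emb_zero, one_mul, e'])).2 (by decide)
  have hv0 : v ≠ 0 := fun e0 => by
    rw [e0, H.emb_zero, conj_eq_one_iff] at e; exact hS4 e
  -- normalize to a representative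
  obtain ⟨d, hd, c, r, hr, hrv⟩ := b_reps v hv0
  obtain ⟨n, hn⟩ := h.signs.mem hd c
  set k := n⁻¹ * g
  have ek : k * H.S 4 * k⁻¹ = H.emb r := by
    show n⁻¹ * g * H.S 4 * (n⁻¹ * g)⁻¹ = _
    calc n⁻¹ * g * H.S 4 * (n⁻¹ * g)⁻¹ = n⁻¹ * (g * H.S 4 * g⁻¹) * n := by group
      _ = n⁻¹ * (n * H.emb r * n⁻¹) * n := by rw [e, hn r, hrv]
      _ = _ := by group
  have hr0 : r ≠ 0 := by
    simp only [List.mem_cons, List.not_mem_nil, or_false] at hr
    rcases hr with rfl | rfl | rfl | rfl <;> decide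
  set y := k * H.emb 13 * k⁻¹ with hy
  have hyr : y * H.emb r = H.emb r * y := by
    rw [← ek, hy]
    have hxs : H.emb 13 * H.S 4 = H.S 4 * H.emb 13 := by
      rw [H.S_emb, (pa_table.2 4).1]
    calc k * H.emb 13 * k⁻¹ * (k * H.S 4 * k⁻¹) = k * (H.emb 13 * H.S 4) * k⁻¹ := by group
      _ = k * (H.S 4 * H.emb 13) * k⁻¹ := by rw [hxs]
      _ = _ := by group
  have hy3 : y ^ 3 = 1 := by rw [hy, conj_pow, H.emb_cube, mul_one, mul_inv_cancel]
  have hyN : y ∈ H.N := signs_B_C_le h.signs hr0 (mem_centralizer_singleton_iff.2 hyr)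
  have hJcase : y ∉ H.J := fun ⟨w, hw⟩ => by
    have hw0 : w ≠ 0 := fun e0 => by
      rw [e0, H.emb_zero, hy, eq_comm, conj_eq_one_iff] at hw
      exact absurd (H.emb_inj (hw.trans H.emb_zero.symm)) (by decide)
    have hkN := H.mem_N_of_fusion (g := k) hw.symm (signs_B_C_le h.signs hw0)
    have hS : H.S 4 = k⁻¹ * H.emb r * k := by rw [← ek]; group
    have hSJ : H.S 4 ∈ H.J := by
      rw [hS]
      have := (mem_normalizer_iff.1 (inv_mem hkN) (H.emb r)).1 (H.emb_mem r)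
      rwa [inv_inv] at this
    obtain ⟨z, hz⟩ := hSJ
    exact absurd (H.indep (nv z) 4 (by rw [H.emb_nv, hz, inv_mul_cancel])).2 (by decide)
  obtain ⟨M, hM⟩ := H.exists_induces_of_mem hyN
  obtain ⟨d', hd', c', rfl⟩ := (h.signs M).1 ⟨y, hM⟩
  have hMr : app (mono d' c') r = r := H.emb_inj (by rw [← hM, hyr, mul_inv_cancel_right])
  have hM3 : mm (mono d' c') (mm (mono d' c') (mono d' c')) = pmat 0 := by
    refine (hM.mul (hM.mul hM)).unique ?_
    rw [show y * (y * y) = 1 from (mul_assoc y y y).symm.trans (by rw [← pow_two, ← pow_succ]; exact hy3)]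
    exact H.induces_J (one_mem _)
  simp only [List.mem_cons, List.not_mem_nil, or_false] at hr
  have hyx : y * H.emb 13 = H.emb 13 * y := by
    rcases hr with rfl | rfl | rfl | rfl
    · exact hyr
    · rw [show (26 : Fin 27) = nv 13 by decide +kernel, H.emb_nv] at hyr
      exact (Commute.inv_right_iff.1 hyr).eq
    · exact absurd (H.mem_J_of_induces_one ((hcube d' hd' c' hM3 (Or.inr hMr)) ▸ hM)) hJcase
    · exact absurd (H.mem_J_of_induces_one ((hcube d' hd' c' hM3 (Or.inl hMr)) ▸ hM)) hJcase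
  obtain ⟨w, i, hwi⟩ := H.cent y hyx
  have hi0 : i ≠ 0 := fun e0 => hJcase ⟨w, by rw [hwi, e0, H.S_zero, mul_one]⟩
  have hc3 := hy3
  rw [hwi, pow_succ', pow_two, H.mul_mk, H.mul_mk] at hc3
  obtain ⟨hv3, ha3⟩ := H.indep _ _ hc3
  obtain ⟨hi, j, hj⟩ := hsplit w i ha3 hi0 hv3
  have hyS : H.emb j * H.S i * (H.emb j)⁻¹ = y := by
    rw [hwi, mul_assoc, ← H.emb_nv, H.S_emb, ← mul_assoc, ← H.emb_add, pa_nv, hj]
  -- so the central element is fused with both rotations and hence inverted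
  obtain ⟨c, hc⟩ : ∃ c, c * H.emb 13 * c⁻¹ = H.S 4 := by
    rcases hi with rfl | rfl
    · refine ⟨(H.emb j)⁻¹ * k, ?_⟩
      calc (H.emb j)⁻¹ * k * H.emb 13 * ((H.emb j)⁻¹ * k)⁻¹ = (H.emb j)⁻¹ * y * H.emb j := by
            rw [hy]; group
        _ = _ := by rw [← hyS]; group
    · refine ⟨H.S 1 * (H.emb j)⁻¹ * k, ?_⟩
      calc H.S 1 * (H.emb j)⁻¹ * k * H.emb 13 * (H.S 1 * (H.emb j)⁻¹ * k)⁻¹
          = H.S 1 * ((H.emb j)⁻¹ * y * H.emb j) * (H.S 1)⁻¹ := by rw [hy]; group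
        _ = H.S 1 * H.S 5 * (H.S 1)⁻¹ := by rw [← hyS]; group
        _ = H.S 4 := by
          rw [H.S_inv, H.S_mul, H.S_mul, show pm (pm 1 5) (pinv 1) = 4 by decide +kernel]
  have hS5 : (H.S 4)⁻¹ = H.S 5 := by rw [H.S_inv]; rfl
  have hSinv : H.S 1 * H.S 4 * (H.S 1)⁻¹ = (H.S 4)⁻¹ := by
    rw [hS5, H.S_inv, H.S_mul, H.S_mul, show pm (pm 1 4) (pinv 1) = 5 by decide +kernel]
  refine h.not_real (c⁻¹ * H.S 1 * c) ?_
  rw [show (26 : Fin 27) = nv 13 by decide +kernel, H.emb_nv]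
  calc c⁻¹ * H.S 1 * c * H.emb 13 * (c⁻¹ * H.S 1 * c)⁻¹
      = c⁻¹ * (H.S 1 * (c * H.emb 13 * c⁻¹) * (H.S 1)⁻¹) * c := by group
    _ = c⁻¹ * (c * H.emb 13 * c⁻¹)⁻¹ * c := by rw [hc, hSinv]
    _ = _ := by group

/-- The subgroup of index two has no fusion of the block rotation with its inverse. -/
theorem BData.sigma_not_inv (h : BData H a b) {G1 : Subgroup G} (hn : G1.Normal)
    (hi : G1.index = 2) (ht : H.S 1 ∉ G1) {g : G} (hg : g ∈ G1) :
    g * H.S 4 * g⁻¹ ≠ H.S 5 := by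
  classical
  haveI : Fact (Nat.Prime 3) := ⟨Nat.prime_three⟩
  obtain ⟨hfix, hcom, hz, hconjcode, -⟩ := b_sigma
  obtain ⟨-, -, -, -, hodd, hsplit6⟩ := code_table
  intro e
  have hS5 : (H.S 4)⁻¹ = H.S 5 := by rw [H.S_inv]; rfl
  have h3G : ∀ w : G, w ^ 3 = 1 → w ∈ G1 := fun w hw => by
    rw [show w = (w * w) * (w * w) by
      rw [show w * w * (w * w) = w ^ 3 * w by rw [pow_succ, pow_two]; group, hw, one_mul]]
    exact mul_mem (mul_self_mem_of_index_two hi w) (mul_self_mem_of_index_two hi w)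
  have hSG : H.S 4 ∈ G1 := h3G _ (by
    rw [pow_succ, pow_two, H.S_mul, H.S_mul, show pm (pm 4 4) 4 = 0 by decide +kernel, H.S_zero])
  have hevenG : ∀ c : Fin 6, H.S c ∈ G1 → c ∈ ([0, 4, 5] : List (Fin 6)) := fun c hc => by
    rcases hsplit6 c with h' | h'
    · exact h'
    · obtain ⟨d, -, hd⟩ := hodd c h'
      exfalso
      apply ht
      rw [← hd, ← H.S_mul, ← H.S_mul, ← H.S_inv]
      exact hn.conj_mem _ hc _
  set K := centralizer ({H.S 4} : Set G) ⊓ G1 with hK
  -- the group of order nine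
  let E : Subgroup G :=
    { carrier := {w | ∃ k ∈ ([0, 13, 26] : List (Fin 27)), ∃ i ∈ ([0, 4, 5] : List (Fin 6)),
        w = H.emb k * H.S i}
      one_mem' := ⟨0, by simp, 0, by simp, by rw [H.emb_zero, H.S_zero, mul_one]⟩
      mul_mem' := by
        rintro _ _ ⟨k, hk, i, hi', rfl⟩ ⟨k', hk', i', hi'', rfl⟩
        refine ⟨av k (pa i k'), ?_, pm i i', ?_, H.mul_mk k k' i i'⟩
        · exact (show ∀ k ∈ ([0, 13, 26] : List (Fin 27)), ∀ k' ∈ ([0, 13, 26] : List (Fin 27)),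
            ∀ i ∈ ([0, 4, 5] : List (Fin 6)), av k (pa i k') ∈ ([0, 13, 26] : List (Fin 27)) by
              decide +kernel) k hk k' hk' i hi'
        · exact (show ∀ i ∈ ([0, 4, 5] : List (Fin 6)), ∀ i' ∈ ([0, 4, 5] : List (Fin 6)),
            pm i i' ∈ ([0, 4, 5] : List (Fin 6)) by decide +kernel) i hi' i' hi''
      inv_mem' := by
        rintro _ ⟨k, hk, i, hi', rfl⟩
        refine ⟨pa (pinv i) (nv k), ?_, pinv i, ?_, by
          rw [mul_inv_rev, H.S_inv, ← H.emb_nv, H.S_emb]⟩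
        · exact (show ∀ k ∈ ([0, 13, 26] : List (Fin 27)), ∀ i ∈ ([0, 4, 5] : List (Fin 6)),
            pa (pinv i) (nv k) ∈ ([0, 13, 26] : List (Fin 27)) by decide +kernel) k hk i hi'
        · exact (show ∀ i ∈ ([0, 4, 5] : List (Fin 6)), pinv i ∈ ([0, 4, 5] : List (Fin 6)) by
            decide +kernel) i hi' }
  have hxE : H.emb 13 ∈ E := ⟨13, by simp, 0, by simp, by rw [H.S_zero, mul_one]⟩
  have hEP : E ≤ H.P := by
    rintro _ ⟨k, -, i, hi', rfl⟩; exact ⟨k, i, hi', rfl⟩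
  have hEK : E ≤ K := by
    rintro _ ⟨k, hk, i, hi', rfl⟩
    refine ⟨mem_centralizer_singleton_iff.2 ?_, ?_⟩
    · have h1 : pa 4 k = k := (show ∀ k ∈ ([0, 13, 26] : List (Fin 27)), pa 4 k = k by
        decide +kernel) k hk
      have h2 : pm i 4 = pm 4 i := (show ∀ i ∈ ([0, 4, 5] : List (Fin 6)), pm i 4 = pm 4 i by
        decide +kernel) i hi'
      rw [mul_assoc, H.S_mul, h2, ← H.S_mul, ← mul_assoc, ← mul_assoc, H.S_emb, h1]
    · refine mul_mem (h3G _ (H.emb_cube k)) ?_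
      rcases List.mem_cons.1 hi' with rfl | hi'
      · rw [H.S_zero]; exact one_mem _
      · rcases List.mem_cons.1 hi' with rfl | hi'
        · exact hSG
        · rw [List.mem_singleton.1 hi', show (5 : Fin 6) = pm 4 4 by decide +kernel, ← H.S_mul]
          exact mul_mem hSG hSG
  -- an element conjugating `x` into the group fixes it
  have hxfix : ∀ r : G, r * H.emb 13 * r⁻¹ ∈ E → r * H.emb 13 = H.emb 13 * r := by
    intro r hr
    obtain ⟨k, hk, i, hi', hrk⟩ := hr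
    rcases List.mem_cons.1 hi' with rfl | hi'
    · rw [H.S_zero, mul_one] at hrk
      simp only [List.mem_cons, List.not_mem_nil, or_false] at hk
      have hk' : k = 13 ∨ k = 26 := by
        rcases hk with rfl | h' | h'
        · rw [H.emb_zero, conj_eq_one_iff] at hrk
          exact absurd (H.emb_inj (hrk.trans H.emb_zero.symm)) (by decide)
        · exact Or.inl h'
        · exact Or.inr h'
      have hfx := h.x_class (v := 13) (Or.inl rfl) (g := r) (by
        rcases hk' with rfl | rfl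
        · exact Or.inl hrk
        · exact Or.inr hrk)
      exact mul_inv_eq_iff_eq_mul.1 hfx
    · exfalso
      obtain ⟨z, hz'⟩ := hz i hi' k hk
      have hzS : H.emb z * H.S i * (H.emb z)⁻¹ = H.emb k * H.S i := by
        rw [mul_assoc, ← H.emb_nv, H.S_emb, ← mul_assoc, ← H.emb_add, pa_nv, hz']
      rcases List.mem_cons.1 hi' with rfl | hi''
      · refine h.sigma_not_J (r⁻¹ * H.emb z) 13 ?_
        calc r⁻¹ * H.emb z * H.S 4 * (r⁻¹ * H.emb z)⁻¹
            = r⁻¹ * (H.emb z * H.S 4 * (H.emb z)⁻¹) * r := by group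
          _ = H.emb 13 := by rw [hzS, ← hrk]; group
      · rw [List.mem_singleton.1 hi''] at hzS hrk
        refine h.sigma_not_J (r⁻¹ * H.emb z * H.S 1) 13 ?_
        calc r⁻¹ * H.emb z * H.S 1 * H.S 4 * (r⁻¹ * H.emb z * H.S 1)⁻¹
            = r⁻¹ * (H.emb z * (H.S 1 * H.S 4 * (H.S 1)⁻¹) * (H.emb z)⁻¹) * r := by group
          _ = r⁻¹ * (H.emb z * H.S 5 * (H.emb z)⁻¹) * r := by
            rw [H.S_inv, H.S_mul, H.S_mul, show pm (pm 1 4) (pinv 1) = 5 by decide +kernel]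
          _ = H.emb 13 := by rw [hzS, ← hrk]; group
  have hcentEK : ∀ r ∈ K, r * H.emb 13 = H.emb 13 * r → r ∈ E := by
    intro r hr hrx
    obtain ⟨v, c, rfl⟩ := H.cent r hrx
    have e' : H.emb v * H.S c * (H.emb 0 * H.S 4) = H.emb 0 * H.S 4 * (H.emb v * H.S c) := by
      rw [H.emb_zero, one_mul]; exact mem_centralizer_singleton_iff.1 hr.1
    rw [H.mul_mk, H.mul_mk] at e'
    obtain ⟨e1, e2⟩ := H.mk_inj e'
    rw [(pa_table.2 c).2.2.2.2.2, (av_table v v v).2.2.2.2.2.1,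
      (av_table (pa 4 v) v v).2.2.2.2.1] at e1
    refine ⟨v, ?_, c, hcom c e2, rfl⟩
    rcases hfix v e1.symm with rfl | rfl | rfl <;> simp
  -- hence it is a Sylow subgroup of the centralizer
  have hp : IsPGroup 3 (E.subgroupOf K) :=
    ((H.isPGroup_P.to_le hEP)).of_equiv (subgroupOfEquivOfLe hEK).symm
  obtain ⟨Q, hQ⟩ := hp.exists_le_sylow
  have hQE : (Q : Subgroup K) = E.subgroupOf K := by
    refine le_antisymm ?_ hQ
    by_contra hne
    have hlt : (E.subgroupOf K).subgroupOf (Q : Subgroup K) < ⊤ :=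
      lt_top_iff_ne_top.2 fun e' => hne (subgroupOf_eq_top.1 e')
    haveI := Q.2.isNilpotent
    obtain ⟨⟨r, hrQ⟩, hrn, hrE⟩ := SetLike.exists_of_lt
      (Group.normalizerCondition_of_isNilpotent _ hlt)
    apply hrE
    show (r : G) ∈ E
    refine hcentEK r r.2 (hxfix r ?_)
    have hxK : (⟨H.emb 13, hEK hxE⟩ : K) ∈ E.subgroupOf K := hxE
    exact (mem_normalizer_iff.1 hrn ⟨_, hQ hxK⟩).1 hxK
  -- conjugating by the given element
  have hconjK : ∀ w ∈ E, g * w * g⁻¹ ∈ K := by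
    intro w hw
    refine ⟨mem_centralizer_singleton_iff.2 ?_, hn.conj_mem w (hEK hw).2 g⟩
    have hw4 : Commute w (H.S 4) := mem_centralizer_singleton_iff.1 (hEK hw).1
    have h1 : Commute (MulAut.conj g w) (MulAut.conj g (H.S 4)) := hw4.map (MulAut.conj g).toMonoidHom
    rw [MulAut.conj_apply, MulAut.conj_apply, e, ← hS5] at h1
    exact (Commute.inv_right_iff.1 h1).eq
  set E' := E.map (MulAut.conj g).toMonoidHom
  have hE'K : E' ≤ K := by rintro _ ⟨w, hw, rfl⟩; exact hconjK w hw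
  obtain ⟨R, hR⟩ := (((H.isPGroup_P.to_le hEP).map _).of_equiv
    (subgroupOfEquivOfLe hE'K).symm : IsPGroup 3 (E'.subgroupOf K)).exists_le_sylow
  obtain ⟨c, hc⟩ := MulAction.exists_smul_eq K R Q
  have hcx : (c : G) * (g * H.emb 13 * g⁻¹) * (c : G)⁻¹ ∈ E := by
    have : c * ⟨_, hconjK _ hxE⟩ * c⁻¹ ∈ (Q : Subgroup K) := by
      rw [← hc, Sylow.coe_subgroup_smul]
      exact ⟨_, hR (show (⟨_, hconjK _ hxE⟩ : K) ∈ E'.subgroupOf K from ⟨_, hxE, rfl⟩), rfl⟩
    rw [hQE] at this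
    exact this
  set r := (c : G) * g
  have hrx : r * H.emb 13 = H.emb 13 * r := hxfix r (by
    show (c : G) * g * H.emb 13 * ((c : G) * g)⁻¹ ∈ E
    rw [mul_inv_rev]
    convert hcx using 1
    group)
  obtain ⟨v, d, hvd⟩ := H.cent r hrx
  have hrG : r ∈ G1 := mul_mem c.2.2 hg
  have hSd : H.S d ∈ G1 := by
    have := mul_mem (inv_mem (h3G _ (H.emb_cube v))) hrG
    rwa [hvd, inv_mul_cancel_left] at this
  have e4 : r * H.S 4 = H.S 5 * r := by
    have hc4 : (c : G) * H.S 5 = H.S 5 * c := by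
      rw [← hS5]
      exact (show Commute (c : G) (H.S 4) from mem_centralizer_singleton_iff.1 c.2.1).inv_right.eq
    calc (c : G) * g * H.S 4 = c * (g * H.S 4 * g⁻¹) * g := by group
      _ = (c * H.S 5) * g := by rw [e]
      _ = _ := by rw [hc4, mul_assoc]
  rw [hvd, ← one_mul (H.S 4), ← one_mul (H.S 5), ← H.emb_zero, H.mul_mk, H.mul_mk] at e4
  exact (show ∀ d ∈ ([0, 4, 5] : List (Fin 6)), pm d 4 ≠ pm 5 d by decide +kernel) d (hevenG d hSd)
    (H.mk_inj e4).2

/-- Fused elements of the Sylow subgroup have the same block part. -/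
theorem BData.fusion_code (h : BData H a b) {G1 : Subgroup G} (hn : G1.Normal)
    (hi : G1.index = 2) (ht : H.S 1 ∉ G1) {g : G} (hg : g ∈ G1) {v w : Fin 27} {i k : Fin 6}
    (hi' : i ∈ ([0, 4, 5] : List (Fin 6))) (hk : k ∈ ([0, 4, 5] : List (Fin 6)))
    (e : g * (H.emb v * H.S i) * g⁻¹ = H.emb w * H.S k) : i = k := by
  classical
  obtain ⟨-, hsplit, h9⟩ := b_cube
  obtain ⟨-, -, -, -, hodd, hsplit6⟩ := code_table
  have h45 : ∀ i ∈ ([0, 4, 5] : List (Fin 6)), i ≠ 0 → pm i (pm i i) = 0 := by decide +kernel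
  have cube : ∀ (v : Fin 27) (i : Fin 6), i ∈ ([0, 4, 5] : List (Fin 6)) →
      (H.emb v * H.S i) ^ 3 = H.emb (av v (pa i (av v (pa i v)))) := by
    intro v i hi'
    rw [pow_succ', pow_two, H.mul_mk, H.mul_mk]
    have : pm i (pm i i) = 0 := by
      by_cases h0 : i = 0
      · rw [h0]; decide +kernel
      · exact h45 i hi' h0
    rw [this, H.S_zero, mul_one]
  have hJ3 : ∀ v : Fin 27, av v (pa 0 (av v (pa 0 v))) = 0 := by decide +kernel
  set v3 := av v (pa i (av v (pa i v))) with hv3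
  set w3 := av w (pa k (av w (pa k w))) with hw3
  have e3 : g * H.emb v3 * g⁻¹ = H.emb w3 := by
    rw [← cube v i hi', ← cube w k hk, ← conj_pow, e]
  by_cases h30 : v3 = 0
  · have hw30 : w3 = 0 := H.emb_inj (by rw [← e3, h30, H.emb_zero]; simp)
    by_cases hi0 : i = 0
    · by_contra hne
      obtain ⟨hk45, j, hj⟩ := hsplit w k (h45 k hk (fun hk0 => hne (hi0.trans hk0.symm)))
        (fun hk0 => hne (hi0.trans hk0.symm)) hw30
      rw [hi0, H.S_zero, mul_one] at e
      have hj' : H.emb j * H.S k * (H.emb j)⁻¹ = H.emb w * H.S k := by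
        rw [mul_assoc, ← H.emb_nv, H.S_emb, ← mul_assoc, ← H.emb_add, pa_nv, hj]
      rcases hk45 with rfl | rfl
      · refine h.sigma_not_J (g⁻¹ * H.emb j) v ?_
        calc g⁻¹ * H.emb j * H.S 4 * (g⁻¹ * H.emb j)⁻¹
            = g⁻¹ * (H.emb j * H.S 4 * (H.emb j)⁻¹) * g := by group
          _ = H.emb v := by rw [hj', ← e]; group
      · refine h.sigma_not_J (g⁻¹ * H.emb j * H.S 1) v ?_
        calc g⁻¹ * H.emb j * H.S 1 * H.S 4 * (g⁻¹ * H.emb j * H.S 1)⁻¹
            = g⁻¹ * (H.emb j * (H.S 1 * H.S 4 * (H.S 1)⁻¹) * (H.emb j)⁻¹) * g := by group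
          _ = g⁻¹ * (H.emb j * H.S 5 * (H.emb j)⁻¹) * g := by
            rw [H.S_inv, H.S_mul, H.S_mul, show pm (pm 1 4) (pinv 1) = 5 by decide +kernel]
          _ = H.emb v := by rw [hj', ← e]; group
    · obtain ⟨hi45, j, hj⟩ := hsplit v i (h45 i hi' hi0) hi0 h30
      have hj' : H.emb j * H.S i * (H.emb j)⁻¹ = H.emb v * H.S i := by
        rw [mul_assoc, ← H.emb_nv, H.S_emb, ← mul_assoc, ← H.emb_add, pa_nv, hj]
      set g' := g * H.emb j
      have e' : g' * H.S i * g'⁻¹ = H.emb w * H.S k := by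
        rw [← e, ← hj']; simp only [g']; group
      by_cases hk0 : k = 0
      · exfalso
        rw [hk0, H.S_zero, mul_one] at e'
        rcases hi45 with rfl | rfl
        · exact h.sigma_not_J g' w e'
        · refine h.sigma_not_J (g' * H.S 1) w ?_
          rw [← e']
          calc g' * H.S 1 * H.S 4 * (g' * H.S 1)⁻¹
              = g' * (H.S 1 * H.S 4 * (H.S 1)⁻¹) * g'⁻¹ := by group
            _ = _ := by rw [H.S_inv, H.S_mul, H.S_mul, show pm (pm 1 4) (pinv 1) = 5 by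
              decide +kernel]
      obtain ⟨hk45, l, hl⟩ := hsplit w k (h45 k hk hk0) hk0 hw30
      have hl' : H.emb l * H.S k * (H.emb l)⁻¹ = H.emb w * H.S k := by
        rw [mul_assoc, ← H.emb_nv, H.S_emb, ← mul_assoc, ← H.emb_add, pa_nv, hl]
      have h3G : ∀ v, H.emb v ∈ G1 := fun v => by
        have h4 : H.emb v = (H.emb v * H.emb v) * (H.emb v * H.emb v) := by
          have h3 := H.emb_cube v
          rw [pow_succ, pow_two] at h3
          calc H.emb v = H.emb v * H.emb v * H.emb v * H.emb v := by rw [h3, one_mul]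
            _ = _ := by group
        rw [h4]
        exact mul_mem (mul_self_mem_of_index_two hi _) (mul_self_mem_of_index_two hi _)
      have hg'' : (H.emb l)⁻¹ * g' ∈ G1 := mul_mem (inv_mem (h3G l)) (mul_mem hg (h3G j))
      have e'' : (H.emb l)⁻¹ * g' * H.S i * ((H.emb l)⁻¹ * g')⁻¹ = H.S k := by
        calc (H.emb l)⁻¹ * g' * H.S i * ((H.emb l)⁻¹ * g')⁻¹
            = (H.emb l)⁻¹ * (g' * H.S i * g'⁻¹) * H.emb l := by group
          _ = H.S k := by rw [e', ← hl']; group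
      rcases hi45 with rfl | rfl <;> rcases hk45 with rfl | rfl
      · rfl
      · exact absurd e'' (h.sigma_not_inv hn hi ht hg'')
      · refine absurd ?_ (h.sigma_not_inv hn hi ht (inv_mem hg''))
        rw [← e'']; group
      · rfl
  · have hi0 : i ≠ 0 := fun h0 => h30 (by rw [hv3, h0]; exact hJ3 v)
    have hw30 : w3 ≠ 0 := fun h0 => h30 (H.emb_inj (by
      rw [H.emb_zero]
      rw [h0, H.emb_zero, conj_eq_one_iff] at e3; exact e3))
    have hk0 : k ≠ 0 := fun h0 => hw30 (by rw [hw3, h0]; exact hJ3 w)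
    have hi45 : i ∈ ([4, 5] : List (Fin 6)) := (List.mem_cons.1 hi').resolve_left hi0
    have hk45 : k ∈ ([4, 5] : List (Fin 6)) := (List.mem_cons.1 hk).resolve_left hk0
    have hv13 : v3 = 13 ∨ v3 = 26 := h9 v i hi45 h30
    have hfx := h.x_class hv13 (g := g) (by
      rcases h9 w k hk45 hw30 with e' | e'
      · exact Or.inl (by rw [e3, hw3, e'])
      · exact Or.inr (by rw [e3, hw3, e']))
    have hgx : g * H.emb 13 = H.emb 13 * g := by
      rcases hv13 with e' | e' <;> rw [e'] at hfx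
      · exact mul_inv_eq_iff_eq_mul.1 hfx
      · have := mul_inv_eq_iff_eq_mul.1 hfx
        rw [show (26 : Fin 27) = nv 13 by decide +kernel, H.emb_nv] at this
        exact (Commute.inv_right_iff.1 this).eq
    obtain ⟨z, c, rfl⟩ := H.cent g hgx
    have hc : c ∈ ([0, 4, 5] : List (Fin 6)) := by
      rcases hsplit6 c with h' | h'
      · exact h'
      · exfalso
        obtain ⟨d, -, hd⟩ := hodd c h'
        apply ht
        rw [← hd, ← H.S_mul, ← H.S_mul, ← H.S_inv]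
        refine hn.conj_mem _ ?_ _
        have h4 : H.emb z = (H.emb z * H.emb z) * (H.emb z * H.emb z) := by
          have h3 := H.emb_cube z
          rw [pow_succ, pow_two] at h3
          calc H.emb z = H.emb z * H.emb z * H.emb z * H.emb z := by rw [h3, one_mul]
            _ = _ := by group
        have hzG : H.emb z ∈ G1 := by
          rw [h4]; exact mul_mem (mul_self_mem_of_index_two hi _) (mul_self_mem_of_index_two hi _)
        have := mul_mem (inv_mem hzG) hg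
        rwa [inv_mul_cancel_left] at this
    rw [mul_inv_eq_iff_eq_mul, H.mul_mk, H.mul_mk] at e
    exact (show ∀ c ∈ ([0, 4, 5] : List (Fin 6)), ∀ i ∈ ([0, 4, 5] : List (Fin 6)),
      ∀ k ∈ ([0, 4, 5] : List (Fin 6)), pm c i = pm k c → i = k by decide +kernel) c hc i hi' k hk
        (H.mk_inj e).2

/-- The even monomial automizer gives normality. -/
theorem caseB (hs : H.Signs evenSigns) : H.J.Normal := by
  classical
  haveI : Fact (Nat.Prime 2) := ⟨Nat.prime_two⟩
  haveI : Fact (Nat.Prime 3) := ⟨Nat.prime_three⟩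
  obtain ⟨a, b, h⟩ := exists_BData hs
  obtain ⟨G1, hn, hi, ht, haG, hbG⟩ := h.exists_index_two
  obtain ⟨ht2, ht1⟩ := h.t2
  obtain ⟨hcode, hcode0, hcode4, -, hodd, hsplit6⟩ := code_table
  have hJG : H.J ≤ G1 := by
    rintro _ ⟨v, rfl⟩
    have h3 := H.emb_cube v
    rw [pow_succ, pow_two] at h3
    rw [show H.emb v = (H.emb v * H.emb v) * (H.emb v * H.emb v) by
      calc H.emb v = H.emb v * H.emb v * H.emb v * H.emb v := by rw [h3, one_mul]
        _ = _ := by group]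
    exact mul_mem (mul_self_mem_of_index_two hi _) (mul_self_mem_of_index_two hi _)
  have hS4 : H.S 4 ∈ G1 := by
    rw [show H.S 4 = H.S 5 * H.S 5 by rw [H.S_mul]; rfl]
    exact mul_self_mem_of_index_two hi _
  have hPG : H.P ≤ G1 := by
    rintro _ ⟨v, i, hi', rfl⟩
    refine mul_mem (hJG (H.emb_mem v)) ?_
    rcases List.mem_cons.1 hi' with rfl | hi'
    · rw [H.S_zero]; exact one_mem _
    · rcases List.mem_cons.1 hi' with rfl | hi'
      · exact hS4
      · rw [List.mem_singleton.1 hi', show (5 : Fin 6) = pm 4 4 by decide +kernel, ← H.S_mul]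
        exact mul_mem hS4 hS4
  obtain ⟨S, hS⟩ := H.sylow_exists
  let S1 : Sylow 3 G1 := S.subtype (hS.le.trans hPG)
  have hmem : ∀ w : (S1 : Subgroup G1), ∃ v i, i ∈ ([0, 4, 5] : List (Fin 6)) ∧
      ((w : G1) : G) = H.emb v * H.S i := fun w => by
    have := w.2
    simp only [S1, Sylow.coe_subtype, mem_subgroupOf, hS] at this
    exact this
  choose cv ci hci hcv using hmem
  let ψ : (S1 : Subgroup G1) →* Multiplicative (ZMod 3) :=
    MonoidHom.mk' (fun w => code (ci w)) fun p q => by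
      rw [← hcode _ (hci p) _ (hci q)]
      congr 1
      refine (H.mk_inj (v := cv (p * q)) (w := av (cv p) (pa (ci p) (cv q))) ?_).2
      rw [← hcv, ← H.mul_mk, ← hcv, ← hcv]
      rfl
  obtain ⟨φ, hφ⟩ := exists_fusion_hom S1 ψ fun p q g e => by
    show code (ci p) = code (ci q)
    rw [h.fusion_code hn hi ht g.2 (hci p) (hci q) (by
      rw [← hcv, ← hcv]; exact congrArg Subtype.val e)]
  have hcop : Nat.Coprime (S1 : Subgroup G1).index 3 :=
    (Nat.prime_three.coprime_iff_not_dvd.2 S1.not_dvd_index).symm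
  have hψ : ∀ (w : G) (hw : w ∈ H.P) (v : Fin 27) (i : Fin 6), w = H.emb v * H.S i →
      φ ⟨w, hPG hw⟩ = code i ^ (S1 : Subgroup G1).index := by
    intro w hw v i hwv
    have hm : (⟨w, hPG hw⟩ : G1) ∈ (S1 : Subgroup G1) := by
      simp only [S1, Sylow.coe_subtype, mem_subgroupOf, hS]; exact hw
    refine (hφ ⟨_, hm⟩).trans (congrArg (· ^ _) ?_)
    show code (ci ⟨_, hm⟩) = code i
    rw [(H.mk_inj ((hcv ⟨_, hm⟩).symm.trans hwv)).2]
  have hφJ : ∀ v, φ ⟨H.emb v, hJG (H.emb_mem v)⟩ = 1 := fun v => by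
    rw [hψ _ (H.J_le_P (H.emb_mem v)) v 0 (by rw [H.S_zero, mul_one]), hcode0, one_pow]
  obtain ⟨hcube3, hne45, hsq⟩ := code_cube
  have h45 : ∀ i ∈ ([4, 5] : List (Fin 6)), ∀ hw : H.S i ∈ G1, φ ⟨_, hw⟩ ≠ 1 := by
    intro i hi' hw e
    have hiP : H.S i ∈ H.P := ⟨0, i, List.mem_cons_of_mem _ hi', by rw [H.emb_zero, one_mul]⟩
    rw [show (⟨H.S i, hw⟩ : G1) = ⟨H.S i, hPG hiP⟩ from rfl,
      hψ _ hiP 0 i (by rw [H.emb_zero, one_mul])] at e
    have h3 : code i ^ 3 = 1 := hcube3 i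
    have h1 : code i = 1 := orderOf_eq_one_iff.1 (Nat.eq_one_of_dvd_coprimes hcop
      (orderOf_dvd_of_pow_eq_one e) (orderOf_dvd_of_pow_eq_one h3))
    exact hne45 i hi' h1
  have hφa : φ ⟨a, haG⟩ = 1 := hsq _ (by
    rw [← map_mul, show (⟨a, haG⟩ : G1) * ⟨a, haG⟩ = 1 from Subtype.ext h.a2, map_one])
  have hφb : φ ⟨b, hbG⟩ = 1 := hsq _ (by
    rw [← map_mul, show (⟨b, hbG⟩ : G1) * ⟨b, hbG⟩ = 1 from Subtype.ext h.b2, map_one])
  set G2 : Subgroup G := φ.ker.map G1.subtype with hG2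
  have hmem2 : ∀ {w : G}, w ∈ G2 ↔ ∃ hw : w ∈ G1, φ ⟨w, hw⟩ = 1 := fun {w} => by
    constructor
    · rintro ⟨x, hx, rfl⟩; exact ⟨x.2, hx⟩
    · rintro ⟨hw, e⟩; exact ⟨⟨w, hw⟩, e, rfl⟩
  -- the four lifts
  let D : Fin 4 → G := fun i => if i = 0 then 1 else if i = 1 then a else if i = 2 then b else a * b
  have hD : ∀ i j, D i * D j = D (kx i j) := by
    have e1 : a * b * a = b := by rw [h.ab, mul_assoc, h.a2, mul_one]
    have e2 : a * (a * b) = b := by rw [← mul_assoc, h.a2, one_mul]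
    have e3 : a * b * b = a := by rw [mul_assoc, h.b2, mul_one]
    have e4 : b * (a * b) = a := by rw [← mul_assoc, ← h.ab, e3]
    have e5 : a * b * (a * b) = 1 := by rw [← mul_assoc, e1, h.b2]
    intro i j
    fin_cases i <;> fin_cases j <;>
      simp [D, show kx (1 : Fin 4) 1 = 0 by decide, show kx (1 : Fin 4) 2 = 3 by decide,
        show kx (1 : Fin 4) 3 = 2 by decide, show kx (2 : Fin 4) 1 = 3 by decide,
        show kx (2 : Fin 4) 2 = 0 by decide, show kx (2 : Fin 4) 3 = 1 by decide,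
        show kx (3 : Fin 4) 1 = 2 by decide, show kx (3 : Fin 4) 2 = 1 by decide,
        show kx (3 : Fin 4) 3 = 0 by decide, show kx (0 : Fin 4) 1 = 1 by decide,
        show kx (0 : Fin 4) 2 = 2 by decide, show kx (0 : Fin 4) 3 = 3 by decide,
        show kx (1 : Fin 4) 0 = 1 by decide, show kx (2 : Fin 4) 0 = 2 by decide,
        show kx (3 : Fin 4) 0 = 3 by decide, show kx (0 : Fin 4) 0 = 0 by decide,
        h.a2, h.b2, h.ab.symm, e1, e2, e3, e4, e5]
  obtain ⟨-, -, -, -, -, hkd, hkinj, hksurj, hk3⟩ := b_klein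
  have hDI : ∀ i, H.Induces (D i) (dmat (kd i)) := by
    intro i
    fin_cases i
    · show H.Induces 1 (dmat (kd (0 : Fin 4)))
      rw [show dmat (kd (0 : Fin 4)) = pmat 0 by decide +kernel]
      exact H.induces_J (one_mem _)
    · exact h.ia
    · exact h.ib
    · show H.Induces (a * b) (dmat (kd (3 : Fin 4)))
      rw [show dmat (kd (3 : Fin 4)) = mm (dmat 3) (dmat 5) by decide +kernel]
      exact h.ia.mul h.ib
  let e : Fin 27 × Fin 4 → G := fun p => H.emb p.1 * D p.2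
  let m : Fin 27 × Fin 4 → Equiv.Perm (Fin 9) := fun p => trn p.1 * pk p.2
  let op : Fin 27 × Fin 4 → Fin 27 × Fin 4 → Fin 27 × Fin 4 := fun p q =>
    (av p.1 (app (dmat (kd p.2)) q.1), kx p.2 q.2)
  have he : ∀ p q, e (op p q) = e p * e q := fun p q => by
    show H.emb _ * D _ = H.emb p.1 * D p.2 * (H.emb q.1 * D q.2)
    rw [H.emb_add, ← hD, ← hDI p.2 q.1]
    group
  obtain ⟨hpk, hpk2, hpk1, hdec, hkx⟩ := b_perm
  have hm : ∀ p q, m (op p q) = m p * m q := fun p q => Equiv.ext fun x => by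
    simp only [m, op, Equiv.Perm.mul_apply, trn_table, shift_av, hpk, hpk2]
  have hD0 : D 0 = 1 := rfl
  have hei : Function.Injective e := fun p q hpq => by
    have hpq' : H.emb p.1 * D p.2 = H.emb q.1 * D q.2 := hpq
    have hM : dmat (kd p.2) = dmat (kd q.2) := by
      refine (hDI p.2).unique fun v => ?_
      have e1 : D p.2 = (H.emb p.1)⁻¹ * H.emb q.1 * D q.2 := by
        rw [mul_assoc, ← hpq', inv_mul_cancel_left]
      rw [e1, show (H.emb p.1)⁻¹ * H.emb q.1 * D q.2 * H.emb v *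
          ((H.emb p.1)⁻¹ * H.emb q.1 * D q.2)⁻¹ = (H.emb p.1)⁻¹ * H.emb q.1 *
          (D q.2 * H.emb v * (D q.2)⁻¹) * ((H.emb p.1)⁻¹ * H.emb q.1)⁻¹ by group, hDI q.2 v,
        ← H.emb_nv, ← H.emb_add, H.emb_comm, mul_inv_cancel_right]
    have h2 := hkinj _ _ hM
    rw [h2] at hpq'
    exact Prod.ext (H.emb_inj (mul_right_cancel hpq')) h2
  have hm1 : m (0, 0) = 1 := Equiv.ext fun x => by
    simp only [m, Equiv.Perm.mul_apply, trn_table]
    exact (show ∀ x : Fin 9, shift 0 (pk 0 x) = x by decide +kernel) x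
  have hmi : Function.Injective m := fun p q hpq => by
    -- multiply by the inverse
    let inv : Fin 27 × Fin 4 → Fin 27 × Fin 4 := fun p => (app (dmat (kd p.2)) (nv p.1), p.2)
    have hinv : ∀ p : Fin 27 × Fin 4, op (inv p) p = (0, 0) := fun p =>
      Prod.ext ((show ∀ v k, av (app (dmat (kd k)) (nv v)) (app (dmat (kd k)) v) = 0 by
        decide +kernel) p.1 p.2) (hkx p.2).1
    have h1 : m (op (inv p) q) = 1 := by rw [hm, ← hpq, ← hm, hinv, hm1]
    obtain ⟨h2, h3⟩ := hpk1 _ _ fun x => by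
      have := Equiv.ext_iff.1 h1 x
      simpa [m, op, Equiv.Perm.mul_apply, trn_table] using this
    have hk : ∀ i j, kx i j = 0 → i = j := by decide
    have hq2 : p.2 = q.2 := hk _ _ h3
    have hv : ∀ v w : Fin 27, ∀ k, av (app (dmat (kd k)) (nv v)) (app (dmat (kd k)) w) = 0 → v = w := by
      decide +kernel
    exact Prod.ext (hv p.1 q.1 p.2 h2) hq2
  let H0 : Subgroup G :=
    { carrier := {w | ∃ p, e p = w}
      one_mem' := ⟨(0, 0), by show H.emb 0 * D 0 = 1; rw [H.emb_zero, hD0, one_mul]⟩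
      mul_mem' := by rintro _ _ ⟨p, rfl⟩ ⟨q, rfl⟩; exact ⟨op p q, he p q⟩
      inv_mem' := by
        rintro _ ⟨p, rfl⟩
        refine ⟨(app (dmat (kd p.2)) (nv p.1), p.2), eq_inv_of_mul_eq_one_left ?_⟩
        rw [← he]
        show H.emb (av (app (dmat (kd p.2)) (nv p.1)) (app (dmat (kd p.2)) p.1)) *
          D (kx p.2 p.2) = 1
        rw [(show ∀ v k, av (app (dmat (kd k)) (nv v)) (app (dmat (kd k)) v) = 0 by
          decide +kernel) p.1 p.2, (hkx p.2).1, H.emb_zero, hD0, one_mul] }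
  have hDG2 : ∀ i, D i ∈ G2 := by
    intro i
    fin_cases i
    · exact one_mem _
    · exact hmem2.2 ⟨haG, hφa⟩
    · exact hmem2.2 ⟨hbG, hφb⟩
    · exact mul_mem (hmem2.2 ⟨haG, hφa⟩) (hmem2.2 ⟨hbG, hφb⟩)
  have hJ2 : ∀ v, H.emb v ∈ G2 := fun v => hmem2.2 ⟨_, hφJ v⟩
  -- the normalizer inside the subgroup
  have hN2 : ∀ n ∈ G2, n ∈ H.N → n ∈ H0 := by
    intro n hn2 hnN
    obtain ⟨M, hM⟩ := H.exists_induces_of_mem hnN
    obtain ⟨d, hd, c, rfl⟩ := (hs M).1 ⟨n, hM⟩
    obtain ⟨k, rfl⟩ := hksurj d hd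
    have hI : H.Induces (D k * H.S c) (mono (kd k) c) :=
      mono_tables.2.1 (kd k) c ▸ (hDI k).mul (H.induces_S c)
    obtain ⟨w, hw⟩ : (D k * H.S c)⁻¹ * n ∈ H.J := hM.mul_inv_mem hI
    have hSc : H.S c ∈ G2 := by
      rw [show H.S c = (D k)⁻¹ * n * (H.emb w)⁻¹ by rw [hw]; group]
      exact mul_mem (mul_mem (inv_mem (hDG2 k)) hn2) (inv_mem (hJ2 w))
    have hc0 : c = 0 := by
      obtain ⟨hc1, hcφ⟩ := hmem2.1 hSc
      rcases hsplit6 c with hc | hc
      · rcases List.mem_cons.1 hc with h' | h'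
        · exact h'
        · exact absurd hcφ (h45 c h' hc1)
      · exfalso
        obtain ⟨d', -, hd'⟩ := hodd c hc
        apply ht
        rw [← hd', ← H.S_mul, ← H.S_mul, ← H.S_inv]
        exact hn.conj_mem _ hc1 _
    rw [hc0, H.S_zero, mul_one] at hw
    refine ⟨(app (dmat (kd k)) w, k), ?_⟩
    show H.emb _ * D k = n
    rw [← hDI k w, hw]; group
  have hH0N : H0 ≤ H.N := by
    rintro _ ⟨p, rfl⟩; exact mul_mem (H.J_le_N (H.emb_mem _)) (hDI _).mem_N
  have hH0G : H0 ≤ G2 := by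
    rintro _ ⟨p, rfl⟩; exact mul_mem (hJ2 _) (hDG2 _)
  have hJ2' : H.J ≤ G2 := by rintro _ ⟨v, rfl⟩; exact hJ2 v
  have hclos : ∀ g, g ∈ Subgroup.closure ({Equiv.swap (0 : Fin 9) 1 * Equiv.swap 1 2,
      Equiv.swap (3 : Fin 9) 4 * Equiv.swap 4 5, Equiv.swap (6 : Fin 9) 7 * Equiv.swap 7 8,
      Equiv.swap (0 : Fin 9) 1 * Equiv.swap 3 4, Equiv.swap (0 : Fin 9) 1 * Equiv.swap 6 7} :
      Set (Equiv.Perm (Fin 9))) ↔ ∃ p, m p = g := by
    obtain ⟨g1, g3, g9⟩ := b_gens
    have hgen : ∀ (v : Fin 27), (∀ k, k ≠ v → True) → ∀ x, m (v, 0) x = shift v x := fun v _ x => by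
      simp [m, pk, Equiv.Perm.mul_apply, trn_table]
    have hpk0 : ∀ i, m (0, i) = pk i := fun i => Equiv.ext fun x => by
      simp only [m, Equiv.Perm.mul_apply, trn_table]
      exact (show ∀ x : Fin 9, shift 0 x = x by decide +kernel) _
    let R : Subgroup (Equiv.Perm (Fin 9)) :=
      { carrier := {g | ∃ p, m p = g}
        one_mem' := ⟨(0, 0), hm1⟩
        mul_mem' := by rintro _ _ ⟨p, rfl⟩ ⟨q, rfl⟩; exact ⟨op p q, hm p q⟩
        inv_mem' := by
          rintro _ ⟨p, rfl⟩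
          refine ⟨(app (dmat (kd p.2)) (nv p.1), p.2), eq_inv_of_mul_eq_one_left ?_⟩
          rw [← hm, ← hm1]
          exact congrArg m (Prod.ext ((show ∀ v k,
            av (app (dmat (kd k)) (nv v)) (app (dmat (kd k)) v) = 0 by decide +kernel) p.1 p.2)
            (hkx p.2).1) }
    intro g
    constructor
    · intro hg
      refine (closure_le R).2 ?_ hg
      intro x hx
      rcases hx with rfl | rfl | rfl | rfl | rfl
      · exact ⟨(1, 0), Equiv.ext fun x => (hgen 1 (fun _ _ => trivial) x).trans (g1 x).symm⟩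
      · exact ⟨(3, 0), Equiv.ext fun x => (hgen 3 (fun _ _ => trivial) x).trans (g3 x).symm⟩
      · exact ⟨(9, 0), Equiv.ext fun x => (hgen 9 (fun _ _ => trivial) x).trans (g9 x).symm⟩
      · exact ⟨(0, 1), by rw [hpk0]; rfl⟩
      · exact ⟨(0, 2), by rw [hpk0]; rfl⟩
    · rintro ⟨⟨v, i⟩, rfl⟩
      set K := Subgroup.closure ({Equiv.swap (0 : Fin 9) 1 * Equiv.swap 1 2,
        Equiv.swap (3 : Fin 9) 4 * Equiv.swap 4 5, Equiv.swap (6 : Fin 9) 7 * Equiv.swap 7 8,
        Equiv.swap (0 : Fin 9) 1 * Equiv.swap 3 4, Equiv.swap (0 : Fin 9) 1 * Equiv.swap 6 7} :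
        Set (Equiv.Perm (Fin 9)))
      have hg1 : trn 1 ∈ K := by
        rw [show trn 1 = Equiv.swap (0 : Fin 9) 1 * Equiv.swap 1 2 from
          Equiv.ext fun x => (trn_table 1 x).trans (g1 x).symm]
        exact subset_closure (by simp)
      have hg3 : trn 3 ∈ K := by
        rw [show trn 3 = Equiv.swap (3 : Fin 9) 4 * Equiv.swap 4 5 from
          Equiv.ext fun x => (trn_table 3 x).trans (g3 x).symm]
        exact subset_closure (by simp)
      have hg9 : trn 9 ∈ K := by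
        rw [show trn 9 = Equiv.swap (6 : Fin 9) 7 * Equiv.swap 7 8 from
          Equiv.ext fun x => (trn_table 9 x).trans (g9 x).symm]
        exact subset_closure (by simp)
      have h0 : trn 0 = 1 := Equiv.ext fun x => (trn_table 0 x).trans
        ((show ∀ x : Fin 9, shift 0 x = x by decide +kernel) x)
      have hsm : ∀ (k : Fin 3) (v : Fin 27), trn v ∈ K → trn (sm k v) ∈ K := by
        intro k v hv
        fin_cases k
        · show trn 0 ∈ K; rw [h0]; exact one_mem _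
        · exact hv
        · show trn (nv v) ∈ K
          rw [(show ∀ v : Fin 27, nv v = av v v by decide +kernel) v, trn_add]
          exact mul_mem hv hv
      refine mul_mem ?_ ?_
      · show trn v ∈ K
        rw [hdec v, trn_add, trn_add]
        exact mul_mem (hsm _ _ hg1) (mul_mem (hsm _ _ hg3) (hsm _ _ hg9))
      · show pk i ∈ K
        fin_cases i
        · exact one_mem _
        · exact subset_closure (by simp [pk])
        · exact subset_closure (by simp [pk])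
        · exact mul_mem (subset_closure (by simp)) (subset_closure (by simp))
  obtain ⟨iso⟩ := exists_iso op e m he hm hei hmi H0 _ (fun w => Iff.rfl) hclos
  have hNeq : normalizer ((H.J.subgroupOf G2 : Subgroup G2) : Set G2) = H0.subgroupOf G2 := by
    refine le_antisymm (fun n hn' => ?_) fun n hn' => ?_
    · refine hN2 n n.2 (H.mem_N fun v => ?_)
      exact (mem_normalizer_iff.1 hn' ⟨H.emb v, hJ2 v⟩).1 (H.emb_mem v)
    · exact mem_normalizer_iff.2 fun w => mem_normalizer_iff.1 (hH0N hn') (w : G)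
  have htop := Cfsg.Agent.S3701.result (H0.subgroupOf G2)
    ⟨(subgroupOfEquivOfLe hH0G).trans iso⟩ (H.J.subgroupOf G2)
    (fun w hw => by
      obtain ⟨v, hv⟩ := mem_subgroupOf.1 hw
      exact mem_subgroupOf.2 ⟨(v, 0), show H.emb v * D 0 = _ by rw [hD0, mul_one, hv]⟩)
    (by rw [Nat.card_congr (subgroupOfEquivOfLe hJ2').toEquiv, H.card_J])
    hNeq (fun w hw hw1 c hc => by
      obtain ⟨v, hv⟩ := mem_subgroupOf.1 hw
      have hv0 : v ≠ 0 := fun e0 => hw1 (Subtype.ext (by rw [← hv, e0, H.emb_zero]; rfl))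
      refine mem_subgroupOf.2 (hN2 c c.2 (signs_B_C_le hs hv0 (mem_centralizer_singleton_iff.2 ?_)))
      rw [hv]
      exact congrArg Subtype.val (mem_centralizer_singleton_iff.1 hc))
  have hG2N : G2 ≤ H0 := fun w hw => by
    have : (⟨w, hw⟩ : G2) ∈ H0.subgroupOf G2 := htop ▸ mem_top _
    exact this
  -- so the subgroup of index two normalizes
  have hG1 : ∀ g ∈ G1, g ∈ H.N := fun g hg => by
    refine H.mem_N fun v => ?_
    have h2 : g * H.emb v * g⁻¹ ∈ G2 := hmem2.2 ⟨hn.conj_mem _ (hJG (H.emb_mem v)) g, by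
      rw [show (⟨g * H.emb v * g⁻¹, hn.conj_mem _ (hJG (H.emb_mem v)) g⟩ : G1) =
        ⟨g, hg⟩ * ⟨H.emb v, hJG (H.emb_mem v)⟩ * ⟨g, hg⟩⁻¹ from rfl, map_mul, map_mul, hφJ,
        mul_one, map_inv, mul_inv_cancel]⟩
    obtain ⟨p, hp⟩ := hG2N h2
    have h3 : e p ^ 3 = 1 := by
      rw [hp, conj_pow, H.emb_cube, mul_one, mul_inv_cancel]
    have hI : H.Induces (e p) (dmat (kd p.2)) := fun w => by
      show H.emb p.1 * D p.2 * H.emb w * (H.emb p.1 * D p.2)⁻¹ = _
      rw [show H.emb p.1 * D p.2 * H.emb w * (H.emb p.1 * D p.2)⁻¹ =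
        H.emb p.1 * (D p.2 * H.emb w * (D p.2)⁻¹) * (H.emb p.1)⁻¹ by group, hDI p.2 w,
        H.emb_comm, mul_inv_cancel_right]
    have hk : kd p.2 = 0 := hk3 _ (by
      exact (show ∀ i, kd i ∈ evenSigns by decide +kernel) p.2) ((hI.mul (hI.mul hI)).unique (by
      rw [show e p * (e p * e p) = 1 from (mul_assoc _ _ _).symm.trans (by rw [← pow_two, ← pow_succ]; exact h3)]
      exact H.induces_J (one_mem _)))
    have hp0 : p.2 = 0 := (show ∀ i, kd i = 0 → i = 0 by decide +kernel) _ hk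
    rw [← hp]
    show H.emb p.1 * D p.2 ∈ H.J
    rw [hp0, hD0, mul_one]
    exact H.emb_mem _
  refine ⟨fun j hj g => ?_⟩
  have hgN : g ∈ H.N := by
    by_cases hg : g ∈ G1
    · exact hG1 g hg
    · have htg : H.S 1 * g ∈ G1 := (mul_mem_iff_of_index_two hi).2 (iff_of_false ht hg)
      have := mul_mem (H.induces_S 1).mem_N (hG1 _ htg)
      rwa [← mul_assoc, ht2, one_mul] at this
  exact (mem_normalizer_iff.1 hgN j).1 hj

end Hyp

end CfsgLib.ThreeSymNine
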