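import Cfsg.Agent.ThreeSymNine.FullTables
import Cfsg.Agent.ThreeSymNine.Lifts
import Cfsg.Agent.ThreeLocalNine.Model9

/-!
# The odd-block subgroup of the monomial group on nine points
-/

set_option autoImplicit false
set_option maxRecDepth 100000
set_option synthInstance.maxSize 100000

namespace CfsgLib.ThreeSymNine

open CfsgLib.AltNine Equiv

attribute [local instance 10000] List.decidableBAll List.decidableBEx

/-- The sign changes on nine points. -/
def sgn (d : Fin 8) (i : Fin 9) : Fin 9 :=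
  if d.1 / 2 ^ (i.1 / 3) % 2 = 1 then ⟨3 * (i.1 / 3) + (3 - i.1 % 3) % 3, by have := i.2; omega⟩
  else i

theorem sgn_invol : ∀ d i, sgn d (sgn d i) = i := by decide +kernel

/-- A sign change as a permutation. -/
def sperm (d : Fin 8) : Perm (Fin 9) where
  toFun := sgn d
  invFun := sgn d
  left_inv := sgn_invol d
  right_inv := sgn_invol d

/-- The monomial permutation with given coordinates. -/
def mper (x : Fin 27 × Fin 8 × Fin 6) : Perm (Fin 9) := trn x.1 * sperm x.2.1 * blk x.2.2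

/-- The monomial law. -/
def mop (x y : Fin 27 × Fin 8 × Fin 6) : Fin 27 × Fin 8 × Fin 6 :=
  (av x.1 (app (dmat x.2.1) (pa x.2.2 y.1)), dx x.2.1 (pd x.2.2 y.2.1), pm x.2.2 y.2.2)

/-- The coordinates of the normalizer in the alternating group. -/
def OddBlock (d : Fin 8) (a : Fin 6) : Prop :=
  (d = 0 ∨ d = 3 ∨ d = 5 ∨ d = 6) ↔ (a = 0 ∨ a = 4 ∨ a = 5)

instance (d : Fin 8) (a : Fin 6) : Decidable (OddBlock d a) := by unfold OddBlock; infer_instance

theorem sgn_shift : ∀ d v i, sgn d (shift v i) = shift (app (dmat d) v) (sgn d i) := by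
  decide +kernel

theorem sgn_mul : ∀ d e i, sgn d (sgn e i) = sgn (dx d e) i := by decide +kernel

theorem bl_sgn : ∀ a d i, bl a (sgn d i) = sgn (pd a d) (bl a i) := by decide +kernel

theorem oddBlock_table : OddBlock 0 0 ∧
    (∀ d a e b, OddBlock d a → OddBlock e b → OddBlock (dx d (pd a e)) (pm a b)) ∧
    (∀ a : Fin 24, ∃ d b, OddBlock d b ∧ ∀ i, lin a i = sgn d (bl b i)) ∧
    (∀ d b, OddBlock d b → ∃ a : Fin 24, ∀ i, lin a i = sgn d (bl b i)) ∧
    (∀ v i, shift v i = lin 0 (shift v i)) ∧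
    (∀ a v, (⟨a, 0⟩ : K) * ⟨0, v⟩ = ⟨a, v⟩) := by decide +kernel

theorem block_table : (∀ v d i, (shift v (sgn d i)).1 / 3 = i.1 / 3) ∧
    (∀ a i, (bl a i).1 / 3 = (img a ⟨i.1 / 3, by have := i.2; omega⟩).1) ∧
    (∀ a b, (∀ i : Fin 9, (bl a i).1 / 3 = (bl b i).1 / 3) → a = b) ∧
    (∀ d v, sgn d 0 = 0 ∧ sgn d 3 = 3 ∧ sgn d 6 = 6 ∧
      ∀ w, shift v 0 = shift w 0 → shift v 3 = shift w 3 → shift v 6 = shift w 6 → v = w) ∧
    (∀ d e, (∀ i, sgn d i = sgn e i) → d = e) := by decide +kernel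

theorem mper_apply (x : Fin 27 × Fin 8 × Fin 6) (i : Fin 9) :
    mper x i = shift x.1 (sgn x.2.1 (bl x.2.2 i)) := by
  show trn x.1 (sgn x.2.1 (bl x.2.2 i)) = _
  rw [trn_table]

theorem mper_mop (x y : Fin 27 × Fin 8 × Fin 6) : mper (mop x y) = mper x * mper y := by
  refine Equiv.ext fun i => ?_
  obtain ⟨v, d, a⟩ := x
  obtain ⟨w, e, b⟩ := y
  simp only [Perm.mul_apply, mper_apply, mop]
  rw [← blk_mul, ← sgn_mul, ← bl_sgn, shift_av, ← sgn_shift]
  have h : ∀ j, bl a (shift w j) = shift (pa a w) (bl a j) := fun j => by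
    rw [← blk_trn a w (bl a j), (bl_inv a j).1]
  rw [← h]

theorem mper_injective : Function.Injective mper := by
  rintro ⟨v, d, a⟩ ⟨w, e, b⟩ he
  obtain ⟨h1, -, h3, h4, h5⟩ := block_table
  have hi : ∀ i, shift v (sgn d (bl a i)) = shift w (sgn e (bl b i)) := fun i => by
    have := Perm.ext_iff.1 he i
    rwa [mper_apply, mper_apply] at this
  obtain rfl : a = b := h3 a b fun i => by
    have := congrArg (fun j : Fin 9 => j.1 / 3) (hi i)
    simpa [h1] using this
  have hj : ∀ j, shift v (sgn d j) = shift w (sgn e j) := fun j => by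
    have := hi (bl (pinv a) j)
    rwa [(bl_inv a j).2] at this
  obtain ⟨d0, d3, d6, hv⟩ := h4 d v
  obtain ⟨e0, e3, e6, -⟩ := h4 e v
  obtain rfl : v = w := hv w
    (by have := hj 0; rwa [d0, e0] at this)
    (by have := hj 3; rwa [d3, e3] at this)
    (by have := hj 6; rwa [d6, e6] at this)
  obtain rfl : d = e := h5 d e fun j => (trn v).injective (by
    rw [trn_table, trn_table]; exact hj j)
  rfl

/-- The image is the model of the normalizer in the alternating group. -/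
theorem mem_range_iff (p : Perm (Fin 9)) :
    p ∈ toPerm.range ↔ ∃ x, OddBlock x.2.1 x.2.2 ∧ mper x = p := by
  obtain ⟨h00, hmul, hlin, hlin', hsh, hsplit⟩ := oddBlock_table
  have ht : ∀ v, mper (v, 0, 0) = toPerm (⟨0, v⟩ : K) := fun v => by
    refine Equiv.ext fun i => ?_
    rw [mper_apply, toPerm_apply]
    show _ = lin 0 (shift v i)
    rw [← hsh, show ∀ i, sgn 0 (bl 0 i) = i by decide +kernel]
  have hl : ∀ (a : Fin 24) d b, (∀ i, lin a i = sgn d (bl b i)) →
      mper (0, d, b) = toPerm (⟨a, 0⟩ : K) := fun a d b h => by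
    refine Equiv.ext fun i => ?_
    rw [mper_apply, toPerm_apply]
    show _ = lin a (shift 0 i)
    rw [(lin_one i).2, h]
    exact (lin_one _).2
  constructor
  · rintro ⟨⟨a, v⟩, rfl⟩
    obtain ⟨d, b, hd, hb⟩ := hlin a
    refine ⟨mop (0, d, b) (v, 0, 0), hmul d b 0 0 hd h00, ?_⟩
    rw [mper_mop, ht, hl a d b hb, ← map_mul, hsplit]
  · rintro ⟨⟨v, d, b⟩, hd, rfl⟩
    obtain ⟨a, ha⟩ := hlin' d b hd
    refine ⟨⟨0, v⟩ * ⟨a, 0⟩, ?_⟩
    rw [map_mul, ← ht, ← hl a d b ha, ← mper_mop]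
    congr 1
    show (av v (app (dmat 0) (pa 0 0)), dx 0 (pd 0 d), pm 0 b) = _
    rw [(show app (dmat 0) (pa 0 0) = 0 by decide +kernel),
      (show ∀ e, dx 0 (pd 0 e) = e by decide +kernel), (show ∀ b, pm 0 b = b by decide +kernel),
      (show ∀ u, av u 0 = u by decide +kernel)]

end CfsgLib.ThreeSymNine
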