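import Cfsg.Agent.ThreeSymNine.IndexTwo
import Cfsg.Agent.ThreeSymNine.CaseB
import Cfsg.Agent.ThreeSymNine.Monomial
import Cfsg.Agent.S3339
import Cfsg.Agent.S3702
import Cfsg.Agent.S2119

/-!
# The full monomial automizer: conclusion
-/

set_option autoImplicit false
set_option maxRecDepth 100000
set_option synthInstance.maxSize 100000
set_option linter.style.haveILetI false
set_option linter.unusedSectionVars false

namespace CfsgLib.ThreeSymNine

open CfsgLib.AltNine Subgroup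

attribute [local instance 10000] List.decidableBAll List.decidableBEx

universe u

theorem final_tables : (∀ d : Fin 8, db d 0 ≤ 1 ∧ db d 1 ≤ 1 ∧ db d 2 ≤ 1) ∧
    (∀ d : Fin 8, (db d 0 + db d 1 + db d 2) % 2 = 0 ↔ d ∈ evenSigns) ∧
    (∀ v : Fin 27, app (pmat 4) v = v → app (dmat 3) v = v → v = 0) ∧
    (∀ d : Fin 8, (d = 0 ∨ d = 3 ∨ d = 5 ∨ d = 6) ↔ d ∈ evenSigns) := by decide +kernel

/-- Automorphisms faithful on a subgroup bound the group. -/
theorem equiv_perm_nine {G : Type u} [Group G] [Finite G] (G0 : Subgroup G) [G0.Normal]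
    (hi : G0.index = 2) (hc : ∀ c, (∀ g ∈ G0, c * g = g * c) → c = 1)
    (e : G0 ≃* alternatingGroup (Fin 9)) : Nonempty (G ≃* Equiv.Perm (Fin 9)) := by
  have hA := Cfsg.Agent.S2119.result 9 (by norm_num) (by norm_num)
  let ψ : MulAut G0 ≃* Equiv.Perm (Fin 9) :=
    (MulAut.congr e).trans (MulEquiv.ofBijective MulAut.conjNormal hA).symm
  let θ : G →* Equiv.Perm (Fin 9) := ψ.toMonoidHom.comp MulAut.conjNormal
  have hθ : Function.Injective θ := by
    refine (injective_iff_map_eq_one θ).2 fun c hc' => hc c fun g hg => ?_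
    have h1 : (MulAut.conjNormal c : MulAut G0) = 1 := ψ.injective (hc'.trans (map_one ψ).symm)
    have := congrArg Subtype.val (DFunLike.congr_fun h1 (⟨g, hg⟩ : G0))
    rw [MulAut.conjNormal_apply] at this
    exact mul_inv_eq_iff_eq_mul.1 this
  refine ⟨MulEquiv.ofBijective θ (hθ.bijective_of_nat_card_le ?_)⟩
  haveI : Nontrivial (Fin 9) := inferInstance
  have h1 := G0.index_mul_card
  have h2 := two_mul_nat_card_alternatingGroup (α := Fin 9)
  rw [hi, Nat.card_congr e.toEquiv, h2] at h1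
  exact h1.le

namespace Hyp

variable {G : Type u} [Group G] [Finite G] {H : Hyp G} {t : G}

/-- The elements of order dividing three lie in a subgroup of index two. -/
theorem mem_of_cube {M : Subgroup G} (hi : M.index = 2) {g : G} (hg : g ^ 3 = 1) : g ∈ M := by
  have : g = g ^ 2 * g ^ 2 := by
    rw [← pow_add, show 2 + 2 = 3 + 1 from rfl, pow_succ, hg, one_mul]
  rw [this]
  exact mul_mem (sq_mem_of_index_two hi g) (sq_mem_of_index_two hi g)

theorem Full.J_normal_of (h : H.Full t) {M : Subgroup G} (hi : M.index = 2) (ht : t ∉ M)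
    (hM : M ≤ H.N) : H.J.Normal := by
  refine ⟨fun j hj g => ?_⟩
  have hgN : g ∈ H.N := by
    by_cases hg : g ∈ M
    · exact hM hg
    · have htg : t * g ∈ M := (mul_mem_iff_of_index_two hi).2 (iff_of_false ht hg)
      have := mul_mem h.ind.mem_N (hM htg)
      rwa [← mul_assoc, h.sq, one_mul] at this
  exact (mem_normalizer_iff.1 hgN j).1 hj

/-- The standing hypotheses inside a subgroup containing the elementary abelian subgroup and the
block permutations. -/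
def restrict (H : Hyp G) (M : Subgroup G) (hJ : ∀ v, H.emb v ∈ M) (hS : ∀ a, H.S a ∈ M) :
    Hyp M where
  emb v := ⟨H.emb v, hJ v⟩
  emb_add u v := Subtype.ext (H.emb_add u v)
  S a := ⟨H.S a, hS a⟩
  S_mul a b := Subtype.ext (H.S_mul a b)
  S_act a v := Subtype.ext (H.S_act a v)
  indep v a h := H.indep v a (congrArg Subtype.val h)
  cent g hg := by
    obtain ⟨v, a, e⟩ := H.cent (g : G) (congrArg Subtype.val hg)
    exact ⟨v, a, Subtype.ext e⟩
  sig K hK hn := by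
    refine (Subgroup.map_eq_bot_iff_of_injective K M.subtype_injective).1 (H.sig _ ?_ ?_)
    · rw [← Nat.card_congr (K.equivMapOfInjective _ M.subtype_injective).toEquiv]; exact hK
    · rintro v _ ⟨k, hk, rfl⟩
      exact ⟨_, hn v k hk, rfl⟩

/-- The case in which the subgroup contains the block transpositions. -/
theorem Full.normal_of_transpositions (h : H.Full t) {M : Subgroup G} (hi : M.index = 2)
    (ht : t ∉ M) (hJ : ∀ v, H.emb v ∈ M) (hS : ∀ a, H.S a ∈ M)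
    (hdd : ∀ d, H.dd t d ∈ M ↔ d ∈ evenSigns) : H.J.Normal := by
  have hN := caseB (H := H.restrict M hJ hS) fun A => by
    constructor
    · rintro ⟨⟨g, hg⟩, hgA⟩
      have hgA' : H.Induces g A := fun v => congrArg Subtype.val (hgA v)
      obtain ⟨d, -, a, rfl⟩ := (h.signs A).1 ⟨g, hgA'⟩
      obtain ⟨v, hv⟩ := h.exists_el hgA'.mem_N hgA'
      refine ⟨d, (hdd d).1 ?_, a, rfl⟩
      rw [show H.dd t d = (H.emb v)⁻¹ * g * (H.S a)⁻¹ by rw [hv]; simp only [el]; group]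
      exact mul_mem (mul_mem (inv_mem (hJ v)) hg) (inv_mem (hS a))
    · rintro ⟨d, hd, a, rfl⟩
      refine ⟨⟨H.el t 0 d a, mul_mem (mul_mem (hJ 0) ((hdd d).2 hd)) (hS a)⟩, fun v => ?_⟩
      exact Subtype.ext (h.el_ind 0 d a v)
  refine h.J_normal_of hi ht fun g hg => H.mem_N fun v => ?_
  obtain ⟨w, hw⟩ := hN.conj_mem _ ((H.restrict M hJ hS).emb_mem v) ⟨g, hg⟩
  exact ⟨w, congrArg Subtype.val hw⟩

/-- The case in which the subgroup misses the block transpositions. -/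
theorem Full.recognise (h : H.Full t) {M : Subgroup G} [M.Normal] (hi : M.index = 2) (ht : t ∉ M)
    (hJ : ∀ v, H.emb v ∈ M)
    (hel : ∀ v d a, H.el t v d a ∈ M ↔ OddBlock d a)
    (hor : (∀ v : Fin 27, v ≠ 0 → centralizer ({H.emb v} : Set G) ≤ H.N) ∨
      ∃ g, g * H.S 4 * g⁻¹ ∈ H.J) :
    H.J.Normal ∨ Nonempty (G ≃* Equiv.Perm (Fin 9)) := by
  classical
  set N0 := (H.N).subgroupOf M with hN0
  have hJM : H.J ≤ M := fun j hj => by obtain ⟨v, rfl⟩ := hj; exact hJ v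
  have hJN0 : H.J.subgroupOf M ≤ N0 := fun j hj => H.J_le_N hj
  have hmem : ∀ g : M, g ∈ N0 ↔ ∃ x : Fin 27 × Fin 8 × Fin 6,
      OddBlock x.2.1 x.2.2 ∧ H.el t x.1 x.2.1 x.2.2 = g := by
    refine fun g => ⟨fun hg => ?_, fun ⟨x, _, hx⟩ => ?_⟩
    · obtain ⟨v, d, a, e⟩ := h.mem_N_iff.1 (mem_subgroupOf.1 hg)
      exact ⟨(v, d, a), (hel v d a).1 (e ▸ g.2), e.symm⟩
    · exact mem_subgroupOf.2 (hx ▸ h.el_mem _ _ _)
  -- the isomorphism with the model
  let X := {x : Fin 27 × Fin 8 × Fin 6 // OddBlock x.2.1 x.2.2}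
  let op : X → X → X := fun x y =>
    ⟨mop x.1 y.1, oddBlock_table.2.1 _ _ _ _ x.2 y.2⟩
  let eX : X → M := fun x => ⟨H.el t x.1.1 x.1.2.1 x.1.2.2, (hel _ _ _).2 x.2⟩
  obtain ⟨iso⟩ := exists_iso op eX (fun x => mper x.1)
    (fun x y => Subtype.ext (h.el_mul _ _ _ _ _ _).symm) (fun x y => mper_mop x.1 y.1)
    (fun x y e => by
      obtain ⟨e1, e2, e3⟩ := h.el_inj (congrArg Subtype.val e)
      exact Subtype.ext (Prod.ext e1 (Prod.ext e2 e3)))
    (fun x y e => Subtype.ext (mper_injective e)) N0 toPerm.range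
    (fun g => (hmem g).trans ⟨fun ⟨x, hx, e⟩ => ⟨⟨x, hx⟩, Subtype.ext e⟩,
      fun ⟨x, e⟩ => ⟨x.1, x.2, congrArg Subtype.val e⟩⟩)
    (fun p => (mem_range_iff p).trans ⟨fun ⟨x, hx, e⟩ => ⟨⟨x, hx⟩, e⟩,
      fun ⟨x, e⟩ => ⟨x.1, x.2, e⟩⟩)
  have hnorm : normalizer ((H.J.subgroupOf M : Subgroup M) : Set M) = N0 := by
    refine le_antisymm (fun g hg => mem_subgroupOf.2 (H.mem_N fun v => ?_)) fun g hg => ?_
    · exact (mem_normalizer_iff.1 hg ⟨H.emb v, hJ v⟩).1 (H.emb_mem v)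
    · exact mem_normalizer_iff.2 fun w => mem_normalizer_iff.1 (mem_subgroupOf.1 hg) (w : G)
  have hcardJ : Nat.card (H.J.subgroupOf M) = 27 := by
    rw [Nat.card_congr (subgroupOfEquivOfLe hJM).toEquiv, H.card_J]
  have hnormal : N0 = ⊤ → H.J.Normal := fun htop => h.J_normal_of hi ht fun g hg =>
    mem_subgroupOf.1 (show (⟨g, hg⟩ : M) ∈ N0 by rw [htop]; exact mem_top _)
  by_cases hσ : ∃ g, g * H.S 4 * g⁻¹ ∈ H.J
  · obtain ⟨g4, hg4⟩ := hσ
    have hS5 : g4 * H.S 5 * g4⁻¹ ∈ H.J := by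
      have e : H.S 5 = (H.S 4)⁻¹ := by rw [H.S_inv]; rfl
      rw [e, show g4 * (H.S 4)⁻¹ * g4⁻¹ = (g4 * H.S 4 * g4⁻¹)⁻¹ by group]
      exact inv_mem hg4
    have hintoJ : ∀ x : M, x ∈ N0 → (x : G) ^ 3 = 1 → ∃ g, g * (x : G) * g⁻¹ ∈ H.J := by
      intro x hx h3
      rcases h.order_three (mem_subgroupOf.1 hx) h3 with hxJ | ⟨k, -, e | e⟩
      · exact ⟨1, by simpa using hxJ⟩
      all_goals refine ⟨g4 * k, ?_⟩
      all_goals
        rw [show g4 * k * (x : G) * (g4 * k)⁻¹ = g4 * (k * x * k⁻¹) * g4⁻¹ by group, e]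
      · exact hg4
      · exact hS5
    have hcores : ∀ x ∈ N0, orderOf x = 3 →
        Cfsg.pPrimeCore 3 (centralizer ({x} : Set M)) = ⊥ := by
      intro x hx hx3
      obtain ⟨g, j, hj⟩ := hintoJ x hx (by
        rw [← SubgroupClass.coe_pow, ← hx3, pow_orderOf_eq_one]; rfl)
      set C := centralizer ({x} : Set M) with hC
      let f : C →* G := ((MulAut.conj g).toMonoidHom.comp M.subtype).comp C.subtype
      have hf : Function.Injective f :=
        ((MulAut.conj g).injective.comp M.subtype_injective).comp C.subtype_injective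
      refine sSup_eq_bot.2 ?_
      rintro P ⟨hKn, hKc⟩
      refine (map_eq_bot_iff_of_injective P hf).1 (H.sig _ ?_ ?_)
      · rw [← Nat.card_congr (P.equivMapOfInjective _ hf).toEquiv]; exact hKc
      rintro v _ ⟨k, hk, rfl⟩
      let w : M := ⟨g⁻¹ * H.emb v * g⁻¹⁻¹, Normal.conj_mem inferInstance _ (hJ v) g⁻¹⟩
      have hwC : w ∈ C := mem_centralizer_singleton_iff.2 (Subtype.ext (by
        show g⁻¹ * H.emb v * g⁻¹⁻¹ * (x : G) = (x : G) * (g⁻¹ * H.emb v * g⁻¹⁻¹)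
        rw [show (x : G) = g⁻¹ * H.emb j * g by rw [hj]; group]
        calc g⁻¹ * H.emb v * g⁻¹⁻¹ * (g⁻¹ * H.emb j * g) = g⁻¹ * (H.emb v * H.emb j) * g := by
              group
          _ = g⁻¹ * (H.emb j * H.emb v) * g := by rw [H.emb_comm]
          _ = _ := by group))
      refine ⟨⟨w, hwC⟩ * k * (⟨w, hwC⟩ : C)⁻¹, hKn.conj_mem k hk _, ?_⟩
      show g * ((g⁻¹ * H.emb v * g⁻¹⁻¹) * ((k : M) : G) * (g⁻¹ * H.emb v * g⁻¹⁻¹)⁻¹) * g⁻¹ =
        H.emb v * (g * ((k : M) : G) * g⁻¹) * (H.emb v)⁻¹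
      group
    rcases Cfsg.Agent.S3339.result (H.J.subgroupOf M)
        ⟨⟨fun a b => Subtype.ext (Subtype.ext (H.J_comm a.2 b.2))⟩⟩
        (fun a ha => Subtype.ext (H.J_cube ha)) hcardJ N0 hnorm.symm
        CfsgLib.ThreeLocalNine.threeCycles rfl
        (iso.trans (MulEquiv.subgroupCongr CfsgLib.ThreeLocalNine.inf_normalizer_eq.symm)) hcores
      with htop | hne
    · exact Or.inl (hnormal htop)
    right
    obtain ⟨e⟩ : Nonempty (M ≃* alternatingGroup (Fin 9)) := hne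
    refine equiv_perm_nine M hi (fun c hc => ?_) e
    obtain ⟨v, rfl⟩ : c ∈ H.J := H.mem_J_of_centralizes fun j hj => hc j (hJM hj)
    have hfix : ∀ {m : G} {A : Mat}, m ∈ M → H.Induces m A → app A v = v := fun hm hA =>
      H.emb_inj (by rw [← hA, ← hc _ hm, mul_inv_cancel_right])
    have e0 : H.el t 0 0 4 = H.S 4 := by
      show H.emb 0 * H.dd t 0 * H.S 4 = _
      rw [H.emb_zero, dd_zero, one_mul, one_mul]
    have h4 := hfix (e0 ▸ (hel 0 0 4).2 (by decide)) (H.induces_S 4)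
    have h3 := hfix ((hel 0 3 0).2 (by decide)) (h.el_ind 0 3 0)
    rw [mono_tables.2.2.1] at h3
    rw [final_tables.2.2.1 v h4 h3, H.emb_zero]
  · have hC := hor.resolve_right hσ
    refine Or.inl (hnormal ?_)
    have hJcore : H.J.subgroupOf M = (Cfsg.pCore 3 N0).map N0.subtype := by
      haveI : ((H.J.subgroupOf M).subgroupOf N0).Normal := by
        rw [← hnorm]; exact normal_in_normalizer
      have hp : IsPGroup 3 ((H.J.subgroupOf M).subgroupOf N0) :=
        (IsPGroup.of_card (n := 3) (hcardJ.trans rfl)).of_equiv (subgroupOfEquivOfLe hJN0).symm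
      have hle : (H.J.subgroupOf M).subgroupOf N0 ≤ Cfsg.pCore 3 N0 :=
        le_sSup ⟨inferInstance, hp⟩
      let e : K ≃* N0 := (MonoidHom.ofInjective toPerm_injective).trans iso.symm
      refine Subgroup.eq_of_le_of_card_ge (fun x hx => ⟨⟨x, hJN0 hx⟩, hle hx, rfl⟩) (le_of_eq ?_)
      rw [← Nat.card_congr ((Cfsg.pCore 3 N0).equivMapOfInjective _ N0.subtype_injective).toEquiv,
        hcardJ, ← map_tr_eq e, ← Nat.card_congr (tr.equivMapOfInjective e.toMonoidHom e.injective).toEquiv,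
        CfsgLib.ThreeLocalNine.card_tr]
    refine Cfsg.Agent.S3702.result N0 ⟨iso.trans (MulEquiv.subgroupCongr range_toPerm)⟩
      (H.J.subgroupOf M) hJcore (fun j hj hj1 c hc => ?_) ⟨hJN0, fun x hx g hg => ?_⟩
    · obtain ⟨v, hv⟩ := mem_subgroupOf.1 hj
      refine mem_subgroupOf.2 (hC v (fun e0 => hj1 (Subtype.ext ?_)) (mem_centralizer_singleton_iff.2 ?_))
      · rw [← hv, e0, H.emb_zero]; rfl
      · rw [hv]; exact congrArg Subtype.val (mem_centralizer_singleton_iff.1 hc)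
    · set y : G := ((g * x * g⁻¹ : M) : G) with hy
      have h3 : y ^ 3 = 1 := by
        show ((g : G) * x * (g : G)⁻¹) ^ 3 = 1
        rw [conj_pow, H.J_cube (mem_subgroupOf.1 hx), mul_one, mul_inv_cancel]
      rcases h.order_three (mem_subgroupOf.1 hg) h3 with hyJ | ⟨k, -, e | e⟩
      · exact mem_subgroupOf.2 hyJ
      all_goals exfalso
      all_goals refine hσ ⟨((g : G))⁻¹ * k⁻¹, ?_⟩
      · rw [← e]
        show (g : G)⁻¹ * k⁻¹ * (k * ((g : G) * x * (g : G)⁻¹) * k⁻¹) * ((g : G)⁻¹ * k⁻¹)⁻¹ ∈ H.J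
        rw [show (g : G)⁻¹ * k⁻¹ * (k * ((g : G) * x * (g : G)⁻¹) * k⁻¹) * ((g : G)⁻¹ * k⁻¹)⁻¹ = x
          by group]
        exact mem_subgroupOf.1 hx
      · rw [show H.S 4 = (H.S 5)⁻¹ by rw [H.S_inv]; rfl, ← e]
        show (g : G)⁻¹ * k⁻¹ * (k * ((g : G) * x * (g : G)⁻¹) * k⁻¹)⁻¹ * ((g : G)⁻¹ * k⁻¹)⁻¹ ∈ H.J
        rw [show (g : G)⁻¹ * k⁻¹ * (k * ((g : G) * x * (g : G)⁻¹) * k⁻¹)⁻¹ * ((g : G)⁻¹ * k⁻¹)⁻¹ =
          (x : G)⁻¹ by group]
        exact inv_mem (mem_subgroupOf.1 hx)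

end Hyp

namespace Hyp

variable {G : Type u} [Group G] [Finite G] (H : Hyp G)

theorem caseI (hs : H.Signs allSigns) : H.J.Normal ∨ Nonempty (G ≃* Equiv.Perm (Fin 9)) := by
  classical
  obtain ⟨t, h⟩ := H.exists_Full hs
  obtain ⟨M, hn, hi, ht, hor⟩ := h.exists_index_two
  haveI := hn
  have hJ : ∀ v, H.emb v ∈ M := fun v => mem_of_cube hi (H.emb_cube v)
  have hti : ∀ i, H.ti t i ∉ M := fun i hm => ht (by
    have := hn.conj_mem _ hm (H.S (bc i))⁻¹
    rwa [show (H.S (bc i))⁻¹ * H.ti t i * (H.S (bc i))⁻¹⁻¹ = t by simp only [ti]; group] at this)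
  obtain ⟨hle, hpar, -, hev⟩ := final_tables
  have hdd : ∀ d, H.dd t d ∈ M ↔ d ∈ evenSigns := fun d => by
    have key : ∀ i n, n ≤ 1 → (H.ti t i ^ n ∈ M ↔ n % 2 = 0) := fun i n hn' => by
      rcases (show n = 0 ∨ n = 1 by omega) with rfl | rfl
      · simp
      · rw [pow_one]; exact iff_of_false (hti i) (by norm_num)
    obtain ⟨l0, l1, l2⟩ := hle d
    rw [show H.dd t d = H.ti t 0 ^ db d 0 * H.ti t 1 ^ db d 1 * H.ti t 2 ^ db d 2 from rfl,
      mul_mem_iff_of_index_two hi, mul_mem_iff_of_index_two hi, key 0 _ l0, key 1 _ l1,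
      key 2 _ l2, ← hpar]
    omega
  have h45 : H.S 4 ∈ M ∧ H.S 5 ∈ M := by
    constructor <;> refine mem_of_cube hi ?_ <;>
      rw [pow_succ, pow_two, H.S_mul, H.S_mul, ← H.S_zero] <;> congr 1
  have htr : ∀ a : Fin 6, a = 0 ∨ a = 4 ∨ a = 5 ∨
      ∃ c : Fin 6, (c = 0 ∨ c = 4 ∨ c = 5) ∧ pm c 1 = a := by decide +kernel
  have hSodd : ∀ a, H.S a ∈ M ↔ (a = 0 ∨ a = 4 ∨ a = 5) ∨ H.S 1 ∈ M := fun a => by
    have hrot : ∀ c : Fin 6, c = 0 ∨ c = 4 ∨ c = 5 → H.S c ∈ M := by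
      rintro c (rfl | rfl | rfl)
      · rw [H.S_zero]; exact one_mem _
      · exact h45.1
      · exact h45.2
    rcases htr a with e | e | e | ⟨c, hc, e⟩
    · exact iff_of_true (hrot a (Or.inl e)) (Or.inl (Or.inl e))
    · exact iff_of_true (hrot a (Or.inr (Or.inl e))) (Or.inl (Or.inr (Or.inl e)))
    · exact iff_of_true (hrot a (Or.inr (Or.inr e))) (Or.inl (Or.inr (Or.inr e)))
    · have hne : ¬ (a = 0 ∨ a = 4 ∨ a = 5) := by
        rw [← e]
        exact (show ∀ c : Fin 6, (c = 0 ∨ c = 4 ∨ c = 5) → ¬ (pm c 1 = 0 ∨ pm c 1 = 4 ∨ pm c 1 = 5)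
          by decide +kernel) c hc
      rw [← e, ← H.S_mul, mul_mem_iff_of_index_two hi]
      rw [← e] at hne
      simp [hrot c hc, hne]
  by_cases hS1 : H.S 1 ∈ M
  · exact Or.inl (h.normal_of_transpositions hi ht hJ (fun a => (hSodd a).2 (Or.inr hS1)) hdd)
  · refine h.recognise hi ht hJ (fun v d a => ?_) hor
    show H.emb v * H.dd t d * H.S a ∈ M ↔ _
    rw [mul_mem_iff_of_index_two hi, mul_mem_cancel_left (hJ v), hdd, hSodd]
    simp only [hS1, or_false, OddBlock, hev]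

end Hyp

end CfsgLib.ThreeSymNine
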