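import Cfsg.Agent.ThreeSymNine.Sylow
import Cfsg.Agent.ThreeSymNine.Tools
import Cfsg.Agent.S3333
import Cfsg.Agent.S3805

/-!
# Centralizers in the group of subsets of the elementary abelian subgroup

`X` is a list of vectors; its stabilizer in the automizer decides the structure.
-/

set_option autoImplicit false
set_option maxRecDepth 100000
set_option linter.style.haveILetI false

namespace CfsgLib.ThreeSymNine

open CfsgLib.AltNine Subgroup

attribute [local instance 10000] List.decidableBAll List.decidableBEx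

universe u

namespace Hyp

variable {G : Type u} [Group G] (H : Hyp G)

/-- The centralizer of a list of members. -/
def C (X : List (Fin 27)) : Subgroup G := centralizer {g : G | ∃ v ∈ X, g = H.emb v}

/-- The induced matrices fixing a list of vectors. -/
def Stab (X : List (Fin 27)) (M : Mat) : Prop := H.W M ∧ ∀ v ∈ X, app M v = v

theorem mem_C {X : List (Fin 27)} {g : G} :
    g ∈ H.C X ↔ ∀ v ∈ X, g * H.emb v = H.emb v * g := by
  refine ⟨fun h v hv => (mem_centralizer_iff.1 h _ ⟨v, hv, rfl⟩).symm, fun h => ?_⟩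
  refine mem_centralizer_iff.2 ?_
  rintro _ ⟨v, hv, rfl⟩
  exact (h v hv).symm

theorem C_singleton (v : Fin 27) : H.C [v] = centralizer ({H.emb v} : Set G) := by
  ext g
  simp [mem_C, mem_centralizer_singleton_iff]

theorem J_le_C (X : List (Fin 27)) : H.J ≤ H.C X := fun _ hg =>
  H.mem_C.2 fun v _ => H.J_comm hg (H.emb_mem v)

theorem Induces.stab {H : Hyp G} {g : G} {M : Mat} (hM : H.Induces g M) {X : List (Fin 27)}
    (hg : g ∈ H.C X) : H.Stab X M := by
  refine ⟨⟨g, hM⟩, fun v hv => H.emb_inj ?_⟩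
  rw [← hM, H.mem_C.1 hg v hv, mul_inv_cancel_right]

theorem Induces.mem_C {H : Hyp G} {g : G} {M : Mat} (hM : H.Induces g M) {X : List (Fin 27)}
    (hX : ∀ v ∈ X, app M v = v) : g ∈ H.C X := H.mem_C.2 fun v hv => by
  have := hM v
  rw [hX v hv] at this
  exact mul_inv_eq_iff_eq_mul.1 this

variable [Finite G]

theorem sylow_C' (X : List (Fin 27))
    (h4 : ∀ M, H.Stab X M → ∀ v, app M (app M (app M (app M v))) = v) :
    ∃ Q : Sylow 3 (H.C X), (Q : Subgroup (H.C X)) = H.J.subgroupOf (H.C X) := by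
  haveI : Fact (Nat.Prime 3) := ⟨Nat.prime_three⟩
  obtain ⟨Q, hQ⟩ := (H.isPGroup_J.of_equiv (subgroupOfEquivOfLe (H.J_le_C X)).symm).exists_le_sylow
  refine ⟨Q, le_antisymm ?_ hQ⟩
  by_contra hne
  have hlt : (H.J.subgroupOf (H.C X)).subgroupOf (Q : Subgroup (H.C X)) < ⊤ :=
    lt_top_iff_ne_top.2 fun e => hne (subgroupOf_eq_top.1 e)
  haveI := Q.2.isNilpotent
  obtain ⟨⟨⟨g, hgC⟩, hgQ⟩, hgn, hgJ⟩ := SetLike.exists_of_lt
    (Group.normalizerCondition_of_isNilpotent _ hlt)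
  obtain ⟨M, hM⟩ := H.exists_induces (g := g) fun v =>
    ((mem_normalizer_iff.1 hgn) ⟨⟨_, H.J_le_C X (H.emb_mem v)⟩,
      hQ (show (⟨_, H.J_le_C X (H.emb_mem v)⟩ : H.C X) ∈ H.J.subgroupOf (H.C X) from
        H.emb_mem v)⟩).1 (H.emb_mem v)
  have hg4 : g * g * (g * g) ∈ H.J := H.mem_J_of_induces_one fun v => by
    rw [(hM.mul hM).comp (hM.mul hM), hM.app_mm hM, hM.app_mm hM, h4 M (hM.stab hgC) v, app_pmat,
      pa_table.1 v]
  obtain ⟨k, hk⟩ := Q.2 ⟨⟨g, hgC⟩, hgQ⟩
  have hk' : g ^ 3 ^ k = 1 := congrArg (fun z : (Q : Subgroup (H.C X)) => ((z : H.C X) : G)) hk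
  have hcop : Nat.Coprime (orderOf g) 4 :=
    Nat.Coprime.coprime_dvd_left (orderOf_dvd_of_pow_eq_one hk')
      (Nat.Coprime.pow_left k (by norm_num))
  obtain ⟨m, hm⟩ := exists_pow_eq_self_of_coprime hcop.symm
  apply hgJ
  show g ∈ H.J
  rw [← hm, show g ^ 4 = g * g * (g * g) by rw [pow_succ, pow_succ, pow_two]; group]
  exact pow_mem hg4 m

/-- A special case: involutive stabilizers. -/
theorem sylow_C (X : List (Fin 27)) (h3 : ∀ M, H.Stab X M → ∀ v, app M (app M v) = v) :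
    ∃ Q : Sylow 3 (H.C X), (Q : Subgroup (H.C X)) = H.J.subgroupOf (H.C X) :=
  H.sylow_C' X fun M hM v => by rw [h3 M hM, h3 M hM]

/-- A normal subgroup with quotient inside the elementary abelian subgroup. -/
structure Ker (X : List (Fin 27)) (L : Subgroup G) : Prop where
  le : L ≤ H.C X
  normal : H.C X ≤ normalizer (L : Set G)
  inv_mem : ∀ q, (∃ M, H.Stab X M ∧ app M q = nv q) → H.emb q ∈ L
  fix_mem : ∀ f, (∀ M, H.Stab X M → app M f = f) → H.emb f ∈ L → f = 0
  split : ∀ g ∈ H.C X, ∃ j ∈ H.J, ∃ l ∈ L, g = j * l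
  index : (H.J.subgroupOf (H.C X)).index.Coprime 3

theorem exists_ker' (X : List (Fin 27))
    (h4 : ∀ M, H.Stab X M → ∀ v, app M (app M (app M (app M v))) = v) :
    ∃ L, H.Ker X L := by
  haveI : Fact (Nat.Prime 3) := ⟨Nat.prime_three⟩
  obtain ⟨Q, hQ⟩ := H.sylow_C' X h4
  have hmemQ : ∀ {y : H.C X}, y ∈ (Q : Subgroup (H.C X)) ↔ (y : G) ∈ H.J := fun {y} => by
    rw [hQ, mem_subgroupOf]
  obtain ⟨φ, hfix, hinv⟩ := exists_transfer Q fun a ha b hb =>
    Subtype.ext (H.J_comm (hmemQ.1 ha) (hmemQ.1 hb))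
  refine ⟨φ.ker.map (H.C X).subtype, map_subtype_le _, fun g hg => ?_, fun q ⟨M, hM, hq⟩ => ?_,
    fun f hf hfL => ?_, fun g hg => ?_, ?_⟩
  · refine mem_normalizer_iff.2 fun y => ⟨?_, fun hy => ?_⟩
    · rintro ⟨w, hw, rfl⟩
      exact ⟨⟨g, hg⟩ * w * ⟨g, hg⟩⁻¹, φ.normal_ker.conj_mem w hw _, rfl⟩
    · obtain ⟨w, hw, hwy⟩ := hy
      refine ⟨⟨g, hg⟩⁻¹ * w * (⟨g, hg⟩⁻¹)⁻¹, φ.normal_ker.conj_mem w hw _, ?_⟩
      show g⁻¹ * (w : G) * g⁻¹⁻¹ = y
      rw [show (w : G) = g * y * g⁻¹ from hwy]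
      group
  · obtain ⟨⟨n, hn⟩, hMX⟩ := hM
    refine ⟨⟨_, H.J_le_C X (H.emb_mem q)⟩, ?_, rfl⟩
    have h2 := hinv ⟨_, H.J_le_C X (H.emb_mem q)⟩ ⟨n, hn.mem_C hMX⟩ (Subtype.ext (by
      show n * H.emb q * n⁻¹ = (H.emb q)⁻¹
      rw [hn, hq, H.emb_nv]))
    have h3' : φ ⟨_, H.J_le_C X (H.emb_mem q)⟩ ^ 3 = 1 :=
      Subtype.ext (Subtype.ext (H.J_cube (hmemQ.1 (φ _).2)))
    rw [pow_succ, pow_two, h2, one_mul] at h3'
    exact h3'
  · obtain ⟨w, hw, hwf⟩ := hfL
    have hw' : w = ⟨_, H.J_le_C X (H.emb_mem f)⟩ := Subtype.ext hwf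
    have h := hfix w (hw' ▸ hmemQ.2 (H.emb_mem f)) fun n hn => by
      rw [hw']
      have hnN : (n : G) ∈ H.N := H.mem_N fun v =>
        hmemQ.1 ((mem_normalizer_iff.1 hn ⟨_, H.J_le_C X (H.emb_mem v)⟩).1
          (hmemQ.2 (H.emb_mem v)))
      obtain ⟨M, hM⟩ := H.exists_induces_of_mem hnN
      exact Subtype.ext (show (n : G) * H.emb f * (n : G)⁻¹ = H.emb f by
        rw [hM, hf M (hM.stab n.2)])
    rw [show φ w = 1 from hw, OneMemClass.coe_one] at h
    have hpow : H.emb f ^ (Q : Subgroup (H.C X)).index = 1 := by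
      rw [← hwf]; exact (congrArg Subtype.val h).symm
    have hcop : Nat.Coprime (Q : Subgroup (H.C X)).index 3 :=
      (Nat.prime_three.coprime_iff_not_dvd.2 Q.not_dvd_index).symm
    have h1 := Nat.eq_one_of_dvd_coprimes hcop (orderOf_dvd_of_pow_eq_one hpow)
      (orderOf_dvd_of_pow_eq_one (H.emb_cube f))
    exact H.emb_inj ((orderOf_eq_one_iff.1 h1).trans H.emb_zero.symm)
  · set L' : Subgroup (H.C X) := φ.ker
    have htop : (Q : Subgroup (H.C X)) ⊔ L' = ⊤ := by
      rw [← index_eq_one]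
      have h1 : ((Q : Subgroup (H.C X)) ⊔ L').index ∣ (Q : Subgroup (H.C X)).index :=
        index_dvd_of_le le_sup_left
      have h2 : ((Q : Subgroup (H.C X)) ⊔ L').index ∣ L'.index := index_dvd_of_le le_sup_right
      rw [index_ker] at h2
      obtain ⟨k, hk⟩ := IsPGroup.iff_card.1 (Q.2.to_subgroup φ.range)
      rw [hk] at h2
      exact Nat.eq_one_of_dvd_coprimes
        ((Nat.prime_three.coprime_iff_not_dvd.2 Q.not_dvd_index).symm.pow_right k) h1 h2
    have hg' : (⟨g, hg⟩ : H.C X) ∈ (Q : Subgroup (H.C X)) ⊔ L' := htop ▸ mem_top _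
    rw [← SetLike.mem_coe, mul_normal (Q : Subgroup (H.C X)) L'] at hg'
    obtain ⟨j, hj, l, hl, hjl⟩ := Set.mem_mul.1 hg'
    exact ⟨j, hmemQ.1 hj, l, ⟨l, hl, rfl⟩, (congrArg Subtype.val hjl).symm⟩
  · rw [← hQ]
    exact (Nat.prime_three.coprime_iff_not_dvd.2 Q.not_dvd_index).symm

/-- A special case: involutive stabilizers. -/
theorem exists_ker (X : List (Fin 27)) (h3 : ∀ M, H.Stab X M → ∀ v, app M (app M v) = v) :
    ∃ L, H.Ker X L :=
  H.exists_ker' X fun M hM v => by rw [h3 M hM, h3 M hM]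

variable {H}

theorem Ker.le_normalizer_J {X : List (Fin 27)} {L : Subgroup G} (hL : H.Ker X L) :
    H.J ≤ normalizer (L : Set G) := (H.J_le_C X).trans hL.normal

theorem Ker.C_le_N {X : List (Fin 27)} {L : Subgroup G} (hL : H.Ker X L) (h : L ≤ H.N) :
    H.C X ≤ H.N := fun g hg => by
  obtain ⟨j, hj, l, hl, rfl⟩ := hL.split g hg
  exact mul_mem (H.J_le_N hj) (h hl)

variable (H)

/-- No nontrivial stabilizer: the centralizer is the elementary abelian subgroup. -/
theorem C_eq_J (X : List (Fin 27)) (hW : ∀ M, H.Stab X M → M = pmat 0) : H.C X = H.J := by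
  haveI : Fact (Nat.Prime 3) := ⟨Nat.prime_three⟩
  obtain ⟨L, hL⟩ := H.exists_ker X fun M hM v => by
    rw [hW M hM, app_pmat, app_pmat, pa_table.1, pa_table.1]
  have hcop : (Nat.card L).Coprime 3 := by
    refine (Nat.prime_three.coprime_iff_not_dvd.2 fun h => ?_).symm
    obtain ⟨y, hy⟩ := exists_prime_orderOf_dvd_card' (G := L) 3 h
    obtain ⟨Q, hQ⟩ := H.sylow_C X fun M hM v => by
      rw [hW M hM, app_pmat, app_pmat, pa_table.1, pa_table.1]
    let y' : H.C X := ⟨(y : G), hL.le y.2⟩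
    have hy' : orderOf y' = 3 := by
      rw [Subgroup.orderOf_mk, orderOf_submonoid]
      exact hy
    have hp : IsPGroup 3 (zpowers y') := IsPGroup.of_card (n := 1) (by
      rw [Nat.card_zpowers, hy', pow_one])
    obtain ⟨R, hR⟩ := hp.exists_le_sylow
    obtain ⟨c, hc⟩ := MulAction.exists_smul_eq (H.C X) R Q
    have hcy : c * y' * c⁻¹ ∈ H.J.subgroupOf (H.C X) := by
      rw [← hQ, ← hc, Sylow.coe_subgroup_smul]
      exact ⟨y', hR (mem_zpowers y'), rfl⟩
    obtain ⟨f, hf⟩ : (c : G) * y * (c : G)⁻¹ ∈ H.J := hcy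
    have hf0 := hL.fix_mem f (fun M hM => by rw [hW M hM, app_pmat, pa_table.1]) (by
      rw [hf]; exact (mem_normalizer_iff.1 (hL.normal c.2) _).1 y.2)
    rw [hf0, H.emb_zero] at hf
    have : (y : G) = 1 := conj_eq_one_iff.1 hf.symm
    rw [show y = 1 from Subtype.ext this, orderOf_one] at hy
    exact absurd hy (by norm_num)
  have hbot := H.eq_bot_of_normalized hcop hL.le_normalizer_J
  refine le_antisymm (fun g hg => ?_) (H.J_le_C X)
  obtain ⟨j, hj, l, hl, rfl⟩ := hL.split g hg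
  rw [hbot, mem_bot] at hl
  rw [hl, mul_one]; exact hj

/-- A reflection as only stabilizer: the centralizer normalizes. -/
theorem C_le_N_refl (X : List (Fin 27)) (T : Mat) (q : Fin 27) (hT : H.Stab X T)
    (hW : ∀ M, H.Stab X M → M = pmat 0 ∨ M = T) (hq : app T q = nv q) (hq0 : q ≠ 0)
    (hTT : ∀ v, app T (app T v) = v)
    (hdec : ∀ v, ∃ f k, app T f = f ∧ v = av f (sm k q)) : H.C X ≤ H.N := by
  haveI : Fact (Nat.Prime 3) := ⟨Nat.prime_three⟩
  have hnq : ∀ q : Fin 27, nv q = q → q = 0 := by decide +kernel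
  obtain ⟨L, hL⟩ := H.exists_ker X fun M hM v => by
    rcases hW M hM with rfl | rfl
    · rw [app_pmat, app_pmat, pa_table.1, pa_table.1]
    · exact hTT v
  have hqL : H.emb q ∈ L := hL.inv_mem q ⟨T, hT, hq⟩
  have hq3 : orderOf (H.emb q) = 3 := orderOf_eq_prime (H.emb_cube q)
    fun e => hq0 (H.emb_inj (e.trans H.emb_zero.symm))
  have hmem : ∀ y ∈ L, y ∈ H.J → y ∈ zpowers (H.emb q) := by
    rintro _ hy ⟨v, rfl⟩
    obtain ⟨f, k, hf, rfl⟩ := hdec v
    rw [H.emb_add, H.emb_sm] at hy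
    have hf0 := hL.fix_mem f (fun M hM => by
      rcases hW M hM with rfl | rfl
      · rw [app_pmat, pa_table.1]
      · exact hf) (by simpa using mul_mem hy (inv_mem (pow_mem hqL k.1)))
    rw [H.emb_add, H.emb_sm, hf0, H.emb_zero, one_mul]
    exact pow_mem (mem_zpowers _) _
  obtain ⟨hcard, hnorm⟩ := small_of_self_centralizing H.isPGroup_J hL.le_normalizer_J
    (fun R _ hR hn => H.eq_bot_of_normalized hR hn) hqL hq3 fun y hy hyq => hmem y hy (by
      rw [← H.C_eq_J (q :: X) fun M hM => ?_]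
      · refine H.mem_C.2 fun v hv => ?_
        rcases List.mem_cons.1 hv with rfl | hv
        · exact hyq
        · exact H.mem_C.1 (hL.le hy) v hv
      · rcases hW M ⟨hM.1, fun v hv => hM.2 v (List.mem_cons_of_mem _ hv)⟩ with rfl | rfl
        · rfl
        · exact absurd (hnq q (hq.symm.trans (hM.2 q List.mem_cons_self))) hq0)
  refine hL.C_le_N fun l hl => H.mem_N ?_
  rintro v
  set Z := (zpowers (H.emb q)).subgroupOf L
  have hZ : Nat.card Z = 3 := by
    rw [Nat.card_congr (subgroupOfEquivOfLe (zpowers_le.2 hqL)).toEquiv, Nat.card_zpowers, hq3]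
  have hconjL : H.emb v * l * (H.emb v)⁻¹ ∈ L :=
    (mem_normalizer_iff.1 (hL.le_normalizer_J (H.emb_mem v)) l).1 hl
  have hjq : H.emb v * H.emb q * (H.emb v)⁻¹ = H.emb q := by
    rw [H.emb_comm v, mul_inv_cancel_right]
  have hkey : H.emb v * l * (H.emb v)⁻¹ * l⁻¹ ∈ zpowers (H.emb q) := by
    have hiff : (⟨_, hconjL⟩ : L) ∈ Z ↔ (⟨l, hl⟩ : L) ∈ Z := by
      show H.emb v * l * (H.emb v)⁻¹ ∈ zpowers (H.emb q) ↔ l ∈ zpowers (H.emb q)
      constructor
      · rintro ⟨k, hk⟩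
        refine ⟨k, ?_⟩
        show H.emb q ^ k = l
        calc H.emb q ^ k = (H.emb v)⁻¹ * (H.emb v * H.emb q ^ k * (H.emb v)⁻¹) * H.emb v := by
              group
          _ = (H.emb v)⁻¹ * (H.emb q ^ k) * H.emb v := by rw [← conj_zpow, hjq]
          _ = _ := by
              rw [show H.emb q ^ k = H.emb v * l * (H.emb v)⁻¹ from hk]; group
      · rintro ⟨k, rfl⟩
        exact ⟨k, by show H.emb q ^ k = _; rw [← conj_zpow, hjq]⟩
    have hi := Z.card_mul_index
    rw [hZ] at hi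
    have : (⟨_, hconjL⟩ : L) * ⟨l, hl⟩⁻¹ ∈ Z := by
      rcases hcard with h | h
      · rw [index_eq_one.1 (show Z.index = 1 by omega)]; exact mem_top _
      · rw [mul_mem_iff_of_index_two (show Z.index = 2 by omega), inv_mem_iff]
        exact hiff
    exact this
  have hqJ : zpowers (H.emb q) ≤ H.J := zpowers_le.2 (H.emb_mem q)
  have h1 := mul_mem (inv_mem (hqJ hkey)) (H.emb_mem v)
  rwa [show (H.emb v * l * (H.emb v)⁻¹ * l⁻¹)⁻¹ * H.emb v = l * H.emb v * l⁻¹ by group] at h1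

/-- Data for an element whose centralizer has a complement with Sylow subgroup of order nine. -/
structure Pair (w q1 q2 : Fin 27) : Prop where
  inv1 : ∃ M, H.Stab [w] M ∧ app M q1 = nv q1
  inv2 : ∃ M, H.Stab [w] M ∧ app M q2 = nv q2
  free : ∀ M, H.Stab [w, q1, q2] M → M = pmat 0
  span : ∀ v, ∃ k a b, v = av (sm k w) (av (sm a q1) (sm b q2))
  ne : w ≠ 0
  loc : ∀ a b : Fin 3, av (sm a q1) (sm b q2) ≠ 0 → H.C [w, av (sm a q1) (sm b q2)] ≤ H.N

theorem Ker.pair_mem {H : Hyp G} {w q1 q2 : Fin 27} (hp : H.Pair w q1 q2) {L : Subgroup G}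
    (hL : H.Ker [w] L) {v : Fin 27} (hv : H.emb v ∈ L) :
    ∃ a b, v = av (sm a q1) (sm b q2) := by
  obtain ⟨k, a, b, rfl⟩ := hp.span v
  rw [H.emb_add] at hv
  have h12 : H.emb (av (sm a q1) (sm b q2)) ∈ L := by
    rw [H.emb_add, H.emb_sm, H.emb_sm]
    exact mul_mem (pow_mem (hL.inv_mem _ hp.inv1) _) (pow_mem (hL.inv_mem _ hp.inv2) _)
  have h0 := hL.fix_mem (sm k w) (fun M hM => by
    refine H.emb_inj ?_
    obtain ⟨n, hn⟩ := hM.1
    rw [← hn, H.emb_sm, ← conj_pow, hn, hM.2 w List.mem_cons_self])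
    (by simpa using mul_mem hv (InvMemClass.inv_mem h12))
  exact ⟨a, b, by rw [h0, (av_table _ 0 0).2.2.2.2.1]⟩

/-- The centralizer in the setting of a pair splits; the complement has a self-centralizing Sylow
subgroup of order nine with the given automizer. -/
theorem pair_complement {w q1 q2 : Fin 27} (hp : H.Pair w q1 q2)
    {K : Type} [Group K] [Finite K] (St : List Mat) (ψ : Mat → K)
    (hSt : ∀ M, H.Stab [w] M ↔ M ∈ St) (hmul : ∀ A ∈ St, ∀ B ∈ St, ψ (mm A B) = ψ A * ψ B)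
    (hone : ∀ A ∈ St, ψ A = 1 → A = pmat 0) (hid : ψ (pmat 0) = 1)
    (hsurj : ∀ k : K, ∃ A ∈ St, ψ A = k) (L : Subgroup G) (hL : H.Ker [w] L) :
    ∃ T : Sylow 3 L, (T : Subgroup L) = H.J.subgroupOf L ∧ Nat.card T = 9 ∧
      centralizer ((T : Subgroup L) : Set L) = T ∧
      (∀ t ∈ (T : Subgroup L), t ^ 3 = 1) ∧
      (∃ π : ↥(normalizer ((T : Subgroup L) : Set L)) →* K, Function.Surjective π ∧
        π.ker = (T : Subgroup L).subgroupOf (normalizer ((T : Subgroup L) : Set L))) ∧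
      (∀ t ∈ (T : Subgroup L), t ≠ 1 →
        centralizer ({t} : Set L) ≤ normalizer ((T : Subgroup L) : Set L)) ∧
      ((T : Subgroup L).Normal → H.C [w] ≤ H.N) := by
  classical
  haveI : Fact (Nat.Prime 3) := ⟨Nat.prime_three⟩
  have hw : H.emb w ∈ H.J := H.emb_mem w
  -- the trace of `J`
  have hcard : Nat.card (H.J.subgroupOf L) = 9 := by
    have h1 : H.emb q1 ∈ L := hL.inv_mem _ hp.inv1
    have h2 : H.emb q2 ∈ L := hL.inv_mem _ hp.inv2
    let f : Fin 3 × Fin 3 → H.J.subgroupOf L := fun p =>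
      ⟨⟨H.emb (av (sm p.1 q1) (sm p.2 q2)), by
        rw [H.emb_add, H.emb_sm, H.emb_sm]; exact mul_mem (pow_mem h1 _) (pow_mem h2 _)⟩,
        H.emb_mem _⟩
    have hf : Function.Bijective f := by
      refine ⟨fun p p' e => ?_, fun ⟨⟨g, hgL⟩, hgJ⟩ => ?_⟩
      · have e' := H.emb_inj (show H.emb _ = H.emb _ from
          congrArg (fun z : H.J.subgroupOf L => ((z : L) : G)) e)
        have hsurj : Function.Surjective fun t : Fin 3 × Fin 3 × Fin 3 =>
            av (sm t.1 w) (av (sm t.2.1 q1) (sm t.2.2 q2)) := fun v => by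
          obtain ⟨k, a, b, rfl⟩ := hp.span v
          exact ⟨(k, a, b), rfl⟩
        have hinj := hsurj.injective_of_finite
          (show (Fin 3 × Fin 3 × Fin 3) ≃ Fin 27 from
            (Equiv.prodCongr (Equiv.refl _) finProdFinEquiv).trans finProdFinEquiv)
        have := @hinj (0, p) (0, p') (congrArg (av (sm 0 w)) e')
        exact (Prod.ext_iff.1 this).2
      · obtain ⟨v, hv⟩ : g ∈ H.J := hgJ
        obtain ⟨a, b, rfl⟩ := hL.pair_mem hp (show H.emb v ∈ L by rw [hv]; exact hgL)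
        exact ⟨(a, b), Subtype.ext (Subtype.ext hv)⟩
    rw [← Nat.card_congr (Equiv.ofBijective f hf)]
    simp
  -- normalizing the trace is normalizing `J`
  have hNT : ∀ g : L, g ∈ normalizer ((H.J.subgroupOf L : Subgroup L) : Set L) ↔ (g : G) ∈ H.N := by
    intro g
    constructor
    · intro hg
      refine H.mem_N fun v => ?_
      obtain ⟨k, a, b, rfl⟩ := hp.span v
      have hgw : (g : G) * H.emb w * (g : G)⁻¹ = H.emb w := by
        rw [H.mem_C.1 (hL.le g.2) w List.mem_cons_self, mul_inv_cancel_right]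
      have hab : H.emb (av (sm a q1) (sm b q2)) ∈ L := by
        rw [H.emb_add, H.emb_sm, H.emb_sm]
        exact mul_mem (pow_mem (hL.inv_mem _ hp.inv1) _) (pow_mem (hL.inv_mem _ hp.inv2) _)
      have := (mem_normalizer_iff.1 hg ⟨_, hab⟩).1 (H.emb_mem _)
      rw [H.emb_add, ← MulAut.conj_apply, map_mul, H.emb_sm, map_pow, MulAut.conj_apply, hgw,
        MulAut.conj_apply]
      exact mul_mem (pow_mem hw _) this
    · intro hg
      refine mem_normalizer_iff.2 fun y => ?_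
      show (y : G) ∈ H.J ↔ (g : G) * y * (g : G)⁻¹ ∈ H.J
      exact mem_normalizer_iff.1 hg y
  have hsylow : ∃ T : Sylow 3 L, (T : Subgroup L) = H.J.subgroupOf L := by
    obtain ⟨T, hT⟩ := (show IsPGroup 3 (H.J.subgroupOf L) from
      IsPGroup.of_card (n := 2) (hcard.trans rfl)).exists_le_sylow
    refine ⟨T, le_antisymm ?_ hT⟩
    have hp3 : IsPGroup 3
        ↥(((T : Subgroup L).map L.subtype) ⊔ zpowers (H.emb w) : Subgroup G) := by
      refine (T.2.map _).to_sup_of_normal_right' (IsPGroup.of_card (n := 1) ?_) ?_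
      · rw [Nat.card_zpowers, pow_one]
        exact orderOf_eq_prime (H.emb_cube w)
          fun e => hp.ne (H.emb_inj (e.trans H.emb_zero.symm))
      · rintro _ ⟨t, -, rfl⟩
        refine mem_normalizer_iff.2 fun y => ?_
        have hcom : Commute (t : G) (H.emb w) := H.mem_C.1 (hL.le t.2) w List.mem_cons_self
        constructor
        · rintro ⟨i, rfl⟩
          exact ⟨i, by
            show H.emb w ^ i = (t : G) * H.emb w ^ i * (t : G)⁻¹
            rw [(hcom.zpow_right i).eq, mul_inv_cancel_right]⟩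
        · rintro ⟨i, hi⟩
          refine ⟨i, ?_⟩
          show H.emb w ^ i = y
          calc H.emb w ^ i = (t : G)⁻¹ * ((t : G) * H.emb w ^ i) := by group
            _ = (t : G)⁻¹ * (H.emb w ^ i * t) := by rw [(hcom.zpow_right i).eq]
            _ = _ := by
              rw [show H.emb w ^ i = (t : G) * y * (t : G)⁻¹ from hi]; group
    have hle : H.J ≤ ((T : Subgroup L).map L.subtype) ⊔ zpowers (H.emb w) := by
      rintro _ ⟨v, rfl⟩
      obtain ⟨k, a, b, rfl⟩ := hp.span v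
      rw [H.emb_add]
      refine mul_mem (mem_sup_right ?_) (mem_sup_left ?_)
      · rw [H.emb_sm]; exact pow_mem (mem_zpowers _) _
      · have hab : H.emb (av (sm a q1) (sm b q2)) ∈ L := by
          rw [H.emb_add, H.emb_sm, H.emb_sm]
          exact mul_mem (pow_mem (hL.inv_mem _ hp.inv1) _) (pow_mem (hL.inv_mem _ hp.inv2) _)
        exact ⟨⟨_, hab⟩, hT (show (⟨_, hab⟩ : L) ∈ H.J.subgroupOf L from H.emb_mem _), rfl⟩
    have hleC : ((T : Subgroup L).map L.subtype) ⊔ zpowers (H.emb w) ≤ H.C [w] :=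
      sup_le ((map_subtype_le _).trans hL.le) (zpowers_le.2 (H.J_le_C _ hw))
    intro t ht
    show (t : G) ∈ H.J
    set P' := ((T : Subgroup L).map L.subtype) ⊔ zpowers (H.emb w)
    have h1 : Nat.card P' ∣ 27 * (H.J.subgroupOf (H.C [w])).index := by
      have h := (H.J.subgroupOf (H.C [w])).card_mul_index
      rw [Nat.card_congr (subgroupOfEquivOfLe (H.J_le_C [w])).toEquiv, H.card_J] at h
      rw [h]
      exact card_dvd_of_le hleC
    obtain ⟨m, hm⟩ := IsPGroup.iff_card.1 hp3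
    rw [hm] at h1
    have h2 := (hL.index.symm.pow_left m).dvd_of_dvd_mul_right h1
    have hJP : H.J = P' := Subgroup.eq_of_le_of_card_ge hle (by
      rw [hm, H.card_J]; exact Nat.le_of_dvd (by norm_num) h2)
    rw [hJP]
    exact mem_sup_left ⟨t, ht, rfl⟩
  obtain ⟨T, hT⟩ := hsylow
  have hmemT : ∀ {y : L}, y ∈ (T : Subgroup L) ↔ (y : G) ∈ H.J := fun {y} => by
    rw [hT, mem_subgroupOf]
  refine ⟨T, hT, by rw [hT]; exact hcard, ?_, fun t ht => Subtype.ext (H.J_cube (hmemT.1 ht)), ?_,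
    ?_, ?_⟩
  · refine le_antisymm (fun y hy => hmemT.2 ?_) fun y hy => mem_centralizer_iff.2 fun t ht =>
      Subtype.ext (H.J_comm (hmemT.1 ht) (hmemT.1 hy))
    rw [← H.C_eq_J [w, q1, q2] hp.free]
    refine H.mem_C.2 fun v hv => ?_
    rcases List.mem_cons.1 hv with rfl | hv
    · exact H.mem_C.1 (hL.le y.2) _ List.mem_cons_self
    have hvL : H.emb v ∈ L := by
      rcases List.mem_cons.1 hv with rfl | hv
      · exact hL.inv_mem _ hp.inv1
      · rcases List.mem_cons.1 hv with rfl | hv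
        · exact hL.inv_mem _ hp.inv2
        · exact absurd hv List.not_mem_nil
    exact (congrArg Subtype.val (mem_centralizer_iff.1 hy ⟨_, hvL⟩ (hmemT.2 (H.emb_mem v)))).symm
  · have hN : ∀ g : ↥(normalizer ((T : Subgroup L) : Set L)), ((g : L) : G) ∈ H.N := fun g =>
      (hNT g).1 (by simpa [hT] using g.2)
    choose mat hmat using fun g => H.exists_induces_of_mem (hN g)
    have hin : ∀ g : ↥(normalizer ((T : Subgroup L) : Set L)), mat g ∈ St := fun g =>
      (hSt _).1 ((hmat g).stab (hL.le (g : L).2))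
    refine ⟨MonoidHom.mk' (fun g => ψ (mat g)) fun a b => ?_, fun k => ?_, ?_⟩
    · show ψ (mat (a * b)) = ψ (mat a) * ψ (mat b)
      rw [← hmul _ (hin a) _ (hin b)]
      exact congrArg ψ (((hmat (a * b))).unique ((hmat a).mul (hmat b)))
    · obtain ⟨A, hA, rfl⟩ := hsurj k
      obtain ⟨⟨n, hn⟩, hAX⟩ := (hSt A).2 hA
      obtain ⟨j, hj, l, hl, hnl⟩ := hL.split n (hn.mem_C hAX)
      have hlI : H.Induces l A := fun v => by
        obtain ⟨u, rfl⟩ := hj
        have h := hn v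
        rw [hnl] at h
        calc l * H.emb v * l⁻¹
            = (H.emb u)⁻¹ * (H.emb u * l * H.emb v * (H.emb u * l)⁻¹) * H.emb u := by group
          _ = (H.emb u)⁻¹ * H.emb (app A v) * H.emb u := by rw [h]
          _ = _ := by rw [mul_assoc, H.emb_comm (app A v), inv_mul_cancel_left]
      have hlN : (⟨l, hl⟩ : L) ∈ normalizer ((T : Subgroup L) : Set L) := by
        rw [hT]; exact (hNT _).2 hlI.mem_N
      exact ⟨⟨⟨l, hl⟩, hlN⟩, congrArg ψ ((hmat _).unique hlI)⟩
    · ext g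
      rw [MonoidHom.mem_ker, mem_subgroupOf, hmemT]
      constructor
      · intro h
        exact H.mem_J_of_induces_one (hone _ (hin g) h ▸ hmat g)
      · intro h
        show ψ (mat g) = 1
        rw [(hmat g).unique (H.induces_J h), hid]
  · intro t ht ht1 c hc
    obtain ⟨v, hv⟩ : (t : G) ∈ H.J := hmemT.1 ht
    obtain ⟨a, b, rfl⟩ := hL.pair_mem hp (show H.emb v ∈ L by rw [hv]; exact t.2)
    have hne : av (sm a q1) (sm b q2) ≠ 0 := fun e => ht1 (Subtype.ext (by
      rw [← hv, e, H.emb_zero]; rfl))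
    rw [hT]
    refine (hNT c).2 (hp.loc a b hne (H.mem_C.2 fun u hu => ?_))
    rcases List.mem_cons.1 hu with rfl | hu
    · exact H.mem_C.1 (hL.le c.2) _ List.mem_cons_self
    · rw [List.mem_singleton] at hu
      rw [hu, hv]
      exact congrArg Subtype.val (mem_centralizer_singleton_iff.1 hc)
  · intro hn
    refine hL.C_le_N fun l hl => (hNT ⟨l, hl⟩).1 ?_
    rw [← hT, normalizer_eq_top_iff.2 hn]
    exact mem_top _

end Hyp

end CfsgLib.ThreeSymNine
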