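import Cfsg.Agent.ThreeSymNine.Inv
import Cfsg.Agent.ZJ.NormalPComplement
import Cfsg.Agent.ZJ.ThompsonComplement
import Cfsg.Agent.Solvable.Basics

/-!
# A subgroup meeting the normalizer in a three-group is a three-group
-/

set_option autoImplicit false
set_option maxRecDepth 100000
set_option linter.style.haveILetI false

namespace CfsgLib.ThreeSymNine

open CfsgLib.AltNine Subgroup

attribute [local instance 10000] List.decidableBAll List.decidableBEx

universe u

theorem abelian_count' : ∀ v a, a ∈ ([4, 5] : List (Fin 6)) →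
    (Finset.univ.filter fun p : Fin 27 × Fin 6 =>
      av v (pa a p.1) = av p.1 (pa p.2 v) ∧ pm a p.2 = pm p.2 a).card < 27 := by decide +kernel

namespace Hyp

variable {G : Type u} [Group G] (H : Hyp G)

theorem abelian_P {A : Subgroup G} (hA : A ≤ H.P) (hcomm : ∀ a ∈ A, ∀ b ∈ A, a * b = b * a)
    (h27 : 27 ≤ Nat.card A) : A = H.J := by
  classical
  haveI : Finite H.J := Nat.finite_of_card_ne_zero (by rw [H.card_J]; norm_num)
  refine Subgroup.eq_of_le_of_card_ge (fun g hg => ?_) (by rw [H.card_J]; exact h27)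
  obtain ⟨v, a, ha, rfl⟩ := hA hg
  rcases List.mem_cons.1 ha with rfl | ha
  · rw [H.S_zero, mul_one]; exact H.emb_mem v
  exfalso
  choose co ca hca using fun b : A => H.cent (b : G) (mem_centralizer_singleton_iff.1 (H.P_le (hA b.2)))
  have hmem : ∀ b : A, (co b, ca b) ∈ Finset.univ.filter fun p : Fin 27 × Fin 6 =>
      av v (pa a p.1) = av p.1 (pa p.2 v) ∧ pm a p.2 = pm p.2 a := fun b => by
    have := hcomm _ hg _ b.2
    rw [hca b, H.mul_mk, H.mul_mk] at this
    exact Finset.mem_filter.2 ⟨Finset.mem_univ _, H.mk_inj this⟩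
  have hinj : Function.Injective fun b : A => (⟨_, hmem b⟩ : {p // p ∈ Finset.univ.filter
      fun p : Fin 27 × Fin 6 => av v (pa a p.1) = av p.1 (pa p.2 v) ∧ pm a p.2 = pm p.2 a}) := by
    intro b c e
    have e' := congrArg Subtype.val e
    simp only [Prod.mk.injEq] at e'
    exact Subtype.ext (by rw [hca b, hca c, e'.1, e'.2])
  have := Nat.card_le_card_of_injective _ hinj
  rw [Nat.card_eq_finsetCard] at this
  exact absurd (abelian_count' v a ha) (by omega)

variable [Finite G]

/-- A subgroup containing the Sylow subgroup whose trace on the normalizer is that subgroup. -/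
theorem eq_P_of_three {D : Subgroup G} (hPD : H.P ≤ D) (hD : D ⊓ H.N ≤ H.P) : D = H.P := by
  haveI : Fact (Nat.Prime 3) := ⟨Nat.prime_three⟩
  obtain ⟨S, hS⟩ := H.sylow_exists
  have hSD : (S : Subgroup G) ≤ D := hS ▸ hPD
  let SD : Sylow 3 D := S.subtype hSD
  have hmap : (SD : Subgroup D).map D.subtype = H.P := by
    rw [Sylow.coe_subtype, hS, map_subgroupOf_eq_of_le hPD]
  have hJc : IsMulCommutative H.J := ⟨⟨fun a b => Subtype.ext (H.J_comm a.2 b.2)⟩⟩
  have hJ : Cfsg.thompsonSubgroupAOf H.P = H.J := by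
    have hbound : ∀ B : Subgroup G, IsMulCommutative B → B ≤ H.P → Nat.card B ≤ 27 :=
      fun B hB hBP => by
        by_contra h
        rw [H.abelian_P hBP (fun a ha b hb => setLike_mul_comm (S := Subgroup G) ha hb) (by omega),
          H.card_J] at h
        exact h le_rfl
    rw [CfsgLib.ZJ.thompsonSubgroupAOf_eq_fam]
    refine le_antisymm (sSup_le ?_) (le_sSup ⟨hJc, H.J_le_P,
      fun B hB hBP => (hbound B hB hBP).trans H.card_J.ge⟩)
    rintro A ⟨hA, hAP, hmax⟩
    have h27 : 27 ≤ Nat.card A := H.card_J.ge.trans (hmax _ hJc H.J_le_P)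
    exact (H.abelian_P hAP (fun a ha b hb => setLike_mul_comm (S := Subgroup G) ha hb) h27).le
  have hZ : (Cfsg.centerThompsonAOf (SD : Subgroup D)).map D.subtype = H.J := by
    rw [← (CfsgLib.ZJ.zkind_centerThompsonA.{u} (p := 3) (by norm_num)).map D G D.subtype _
      D.subtype_injective, hmap]
    show Cfsg.thompsonSubgroupAOf H.P ⊓ _ = _
    rw [hJ]
    exact inf_eq_left.2 fun z hz => mem_centralizer_iff.2 fun y hy => H.J_comm hy hz
  have hcomp : Cfsg.HasNormalPComplement 3 D := by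
    refine CfsgLib.ZJ.ZKind.hasNormalPComplement (by norm_num)
      (CfsgLib.ZJ.zkind_centerThompsonA (by norm_num)) D SD ?_
    set N := normalizer ((Cfsg.centerThompsonAOf (SD : Subgroup D) : Subgroup D) : Set D)
    have hN : IsPGroup 3 N := by
      refine H.isPGroup_P.of_injective
        ((D.subtype.comp N.subtype).codRestrict H.P fun n => hD ⟨(n : D).2, ?_⟩) fun a b e => ?_
      · refine H.mem_N fun v => ?_
        have hv : H.emb v ∈ (Cfsg.centerThompsonAOf (SD : Subgroup D)).map D.subtype := by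
          rw [hZ]; exact H.emb_mem v
        rw [← hZ]
        obtain ⟨w, hw, hwv⟩ := hv
        exact ⟨(n : D) * w * (n : D)⁻¹, (mem_normalizer_iff.1 n.2 w).1 hw, by rw [← hwv]; rfl⟩
      · exact Subtype.ext (Subtype.ext (congrArg Subtype.val e :))
    obtain ⟨R⟩ := (inferInstance : Nonempty (Sylow 3 N))
    refine ⟨R, ⊥, inferInstance, ?_⟩
    rw [show (R : Subgroup N) = ⊤ from (hN.to_subgroup ⊤ |> R.3 <| le_top).symm]
    exact Subgroup.isComplement'_bot_top
  obtain ⟨Q, K, hK, hc⟩ := hcomp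
  have hi : (Q : Subgroup D).index = Nat.card K := hc.index_eq_card
  have hcop : (Nat.card K).Coprime 3 :=
    (Nat.prime_three.coprime_iff_not_dvd.2 (hi ▸ Q.not_dvd_index)).symm
  have hK0 : K = ⊥ := by
    refine (map_eq_bot_iff_of_injective K D.subtype_injective).1 (H.eq_bot_of_normalized ?_ ?_)
    · rw [← Nat.card_congr (K.equivMapOfInjective _ D.subtype_injective).toEquiv]; exact hcop
    · intro j hj
      refine mem_normalizer_iff.2 fun y => ⟨?_, fun hy => ?_⟩
      · rintro ⟨w, hw, rfl⟩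
        exact ⟨⟨j, hPD (H.J_le_P hj)⟩ * w * ⟨j, hPD (H.J_le_P hj)⟩⁻¹, hK.conj_mem w hw _, rfl⟩
      · obtain ⟨w, hw, hwy⟩ := hy
        refine ⟨⟨j, hPD (H.J_le_P hj)⟩⁻¹ * w * (⟨j, hPD (H.J_le_P hj)⟩⁻¹)⁻¹,
          hK.conj_mem w hw _, ?_⟩
        show j⁻¹ * (w : G) * j⁻¹⁻¹ = y
        rw [show (w : G) = j * y * j⁻¹ from hwy]
        group
  rw [hK0, Subgroup.card_bot] at hi
  have htop : (Q : Subgroup D) = ⊤ := index_eq_one.1 hi
  have hpD : IsPGroup 3 D := fun y => by
    obtain ⟨k, hk⟩ := Q.2 ⟨y, htop ▸ mem_top y⟩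
    exact ⟨k, congrArg Subtype.val hk⟩
  rw [← hS]
  exact S.3 hpD hSD

/-- A normal three-subgroup containing the Sylow subgroup gives normality. -/
theorem normal_of_normal_P (h : H.P.Normal) : H.J.Normal := ⟨fun j hj g => by
  have hg : g ∈ H.N := H.mem_N_of_conj H.isPGroup_P H.J_le_P fun v =>
    h.conj_mem _ (H.J_le_P (H.emb_mem v)) g
  exact (mem_normalizer_iff.1 hg j).1 hj⟩

end Hyp

end CfsgLib.ThreeSymNine
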