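import Cfsg.Agent.ThreeSymNine.FrameT

/-!
# A subgroup of index two avoiding the sign change
-/

set_option autoImplicit false
set_option maxRecDepth 100000
set_option synthInstance.maxSize 100000
set_option linter.style.haveILetI false
set_option linter.unusedSectionVars false

namespace CfsgLib.ThreeSymNine

open CfsgLib.AltNine Subgroup

attribute [local instance 10000] List.decidableBAll List.decidableBEx

universe u

namespace Six

open Equiv

theorem main_table : (∀ i : Fin 3, swap 1 2 * swap 4 5 * tri i * (swap (1 : Fin 6) 2 * swap 4 5)⁻¹ =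
      tri (swap 1 2 i)) ∧ tri 0 * tri 1 * tri 2 = tp ∧
    (∃ c : Perm (Fin 6), c * (swap 0 1 * swap 3 4) * c⁻¹ = tri 0 * tri 1) ∧ tri 0 * tri 1 ≠ 1 ∧
    (∀ π : Perm (Fin 4), π * π = 1 → π = 1 ∨ (∃ c, c * π * c⁻¹ = swap 0 1) ∨
      ∃ c, c * π * c⁻¹ = swap 0 1 * swap 2 3) := by decide +kernel

end Six

namespace Hyp

variable {G : Type u} [Group G] [Finite G] {H : Hyp G} {t : G}
  {ι : Equiv.Perm (Fin 6) →* G}

/-- A two-group containing the standard one and centralizing the sign change equals it. -/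
theorem Iota.T_max (hι : H.Iota t ι) (h : H.Full t) {χ : H.C [9] →* ℤˣ} (hχ : H.OddChar t χ)
    {P : Subgroup G} (hP : IsPGroup 2 P) (hTP : hι.T h.sq ≤ P) (hPt : P ≤ centralizer {t}) :
    P = hι.T h.sq := by
  haveI : Fact (Nat.Prime 2) := ⟨Nat.prime_two⟩
  refine le_antisymm ?_ hTP
  by_contra hne
  have hlt : (hι.T h.sq).subgroupOf P < ⊤ :=
    lt_top_iff_ne_top.2 fun e' => hne (subgroupOf_eq_top.1 e')
  haveI := hP.isNilpotent
  obtain ⟨⟨n, hnP⟩, hnn, hnF⟩ := SetLike.exists_of_lt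
    (Group.normalizerCondition_of_isNilpotent _ hlt)
  refine hnF (mem_subgroupOf.2 (hι.T_self h hχ (mem_normalizer_of_conj_le fun x hx => ?_)
    (mem_centralizer_singleton_iff.1 (hPt hnP))))
  exact (mem_normalizer_iff.1 hnn ⟨x, hTP hx⟩).1 hx

/-- Some element normalizing the abelian subgroup moves the sign change. -/
theorem Iota.exists_move (hι : H.Iota t ι) (h : H.Full t) {χ : H.C [9] →* ℤˣ}
    (hχ : H.OddChar t χ) : ∃ n ∈ normalizer (hι.A h.sq : Set G), n * t * n⁻¹ ≠ t := by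
  haveI : Fact (Nat.Prime 2) := ⟨Nat.prime_two⟩
  have hT : ∀ {g : G}, g ∈ hι.T h.sq → IsConj t g → ∃ i, g = fr ι t i :=
    fun hg hc => hι.class_T h hχ hg hc
  obtain ⟨P, hP⟩ := (hι.isPGroup_T h.sq).exists_le_sylow
  by_cases hPT : (P : Subgroup G) = hι.T h.sq
  · have hcentr : ∀ i : Fin 4, i = 2 ∨ i = 3 → fr ι t i ∈ centralizer ((P : Subgroup G) : Set G) := by
      intro i hi
      rw [hPT]
      refine mem_centralizer_iff.2 ?_
      rintro _ ⟨x, l, k, rfl⟩
      have hA : Commute (ι (Six.trip x) * t ^ k) (fr ι t i) :=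
        hι.A_comm h.sq ⟨x, k, rfl⟩ (hι.fr_mem_A h.sq i)
      have hr : Commute (ι Six.rr) (fr ι t i) := by
        refine mul_inv_eq_iff_eq_mul.1 ((hι.rr_perm i).trans ?_)
        rcases hi with rfl | rfl <;> rfl
      have e : ι (Six.tt x l) * t ^ k = ι (Six.trip x) * t ^ k * ι Six.rr ^ (l : ℕ) := by
        rw [Six.tt, map_mul, map_pow, mul_assoc, mul_assoc,
          (((show Commute (ι Six.rr) t from hι.comm _).pow_left (l : ℕ)).pow_right k).eq]
      rw [e]
      exact (hA.mul_left (hr.pow_left _)).eq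
    obtain ⟨g, hg⟩ := isConj_iff.1 (hι.fr_class h 2)
    obtain ⟨n, hn, hne⟩ := Sylow.conj_eq_normalizer_conj_of_mem_centralizer P t g⁻¹
      (hcentr 3 (Or.inr rfl)) (by rw [inv_inv, hg]; exact hcentr 2 (Or.inl rfl))
    rw [inv_inv, hg] at hne
    have hn' : n⁻¹ ∈ normalizer (hι.T h.sq : Set G) := by
      have := inv_mem hn
      change n⁻¹ ∈ normalizer ((P : Subgroup G) : Set G) at this
      rwa [hPT] at this
    refine ⟨n⁻¹, (hι.permutes h (hι.A_le_T h.sq) hn' fun _ hg' hc => hT hg' hc).1, fun e => ?_⟩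
    rw [inv_inv] at e
    rw [e] at hne
    exact absurd (hι.fr_inj (hne.trans fr_last.symm)) (by decide)
  · have hlt : (hι.T h.sq).subgroupOf (P : Subgroup G) < ⊤ :=
      lt_top_iff_ne_top.2 fun e' => hPT (le_antisymm (subgroupOf_eq_top.1 e') hP)
    haveI := P.2.isNilpotent
    obtain ⟨⟨n, hnP⟩, hnn, hnF⟩ := SetLike.exists_of_lt
      (Group.normalizerCondition_of_isNilpotent _ hlt)
    have hn : n ∈ normalizer (hι.T h.sq : Set G) := mem_normalizer_of_conj_le fun x hx =>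
      (mem_normalizer_iff.1 hnn ⟨x, hP hx⟩).1 hx
    refine ⟨n, (hι.permutes h (hι.A_le_T h.sq) hn fun _ hg' hc => hT hg' hc).1, fun e => ?_⟩
    exact hnF (mem_subgroupOf.2 (hι.T_self h hχ hn (mul_inv_eq_iff_eq_mul.1 e)))

/-- The action on the four involutions. -/
theorem Iota.exists_rho (hι : H.Iota t ι) (h : H.Full t) {χ : H.C [9] →* ℤˣ}
    (hχ : H.OddChar t χ) : ∃ ρ : normalizer (hι.A h.sq : Set G) →* Equiv.Perm (Fin 4),
      (∀ (n : normalizer (hι.A h.sq : Set G)) (i : Fin 4),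
        (n : G) * fr ι t i * (n : G)⁻¹ = fr ι t (ρ n i)) ∧ Function.Surjective ρ := by
  classical
  choose f hf using fun n : normalizer (hι.A h.sq : Set G) => hι.normalizing h hχ n.2
  let ρ : normalizer (hι.A h.sq : Set G) →* Equiv.Perm (Fin 4) := MonoidHom.mk' f fun p q => by
    refine hι.perm_unique (hf _) fun i => ?_
    rw [Equiv.Perm.mul_apply, ← hf p, ← hf q]
    show (p : G) * (q : G) * fr ι t i * ((p : G) * (q : G))⁻¹ = _
    group
  refine ⟨ρ, hf, MonoidHom.range_eq_top.1 ?_⟩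
  have hmemN : ∀ {n : G}, (∀ i, ∃ j, n * fr ι t i * n⁻¹ = fr ι t j) →
      n ∈ normalizer (hι.A h.sq : Set G) := fun {n} hn => mem_normalizer_of_conj_le fun x hx => by
    have hle : Subgroup.closure (Set.range (fr ι t)) ≤
        (hι.A h.sq).comap (MulAut.conj n).toMonoidHom := by
      rw [Subgroup.closure_le]
      rintro _ ⟨i, rfl⟩
      obtain ⟨j, hj⟩ := hn i
      show n * fr ι t i * n⁻¹ ∈ hι.A h.sq
      rw [hj]; exact hι.fr_mem_A h.sq j
    exact hle (hι.A_gen h.sq hx)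
  have hrange : ∀ {n : G} {π : Equiv.Perm (Fin 4)}, (∀ i, n * fr ι t i * n⁻¹ = fr ι t (π i)) →
      π ∈ ρ.range := fun {n π} hn =>
    ⟨⟨n, hmemN fun i => ⟨_, hn i⟩⟩, hι.perm_unique (hf _) hn⟩
  have h01 : Equiv.swap (0 : Fin 4) 1 ∈ ρ.range := hrange hι.rr_perm
  have h12 : Equiv.swap (1 : Fin 4) 2 ∈ ρ.range := by
    refine hrange (n := ι (Equiv.swap 1 2 * Equiv.swap 4 5)) fun i => ?_
    induction i using Fin.lastCases with
    | last =>
      show ι _ * t * (ι _)⁻¹ = t
      rw [hι.comm, mul_inv_cancel_right]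
    | cast i =>
      rw [fr_castSucc, ← map_inv, ← map_mul, ← map_mul, Six.main_table.1 i]
      fin_cases i <;> rfl
  have hconj : ∀ {q : Equiv.Perm (Fin 4)}, q ∈ ρ.range → ∀ {a b : Fin 4},
      Equiv.swap a b ∈ ρ.range → Equiv.swap (q a) (q b) ∈ ρ.range := fun {q} hq {a b} hab => by
    rw [Equiv.swap_apply_apply]
    exact mul_mem (mul_mem hq hab) (inv_mem hq)
  have h02 : Equiv.swap (0 : Fin 4) 2 ∈ ρ.range := hconj h12 h01
  have hS3 : ∀ a b : Fin 4, a ≠ 3 → b ≠ 3 → Equiv.swap a b ∈ ρ.range := by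
    intro a b ha hb
    fin_cases a <;> fin_cases b <;>
      first
        | exact absurd rfl ha
        | exact absurd rfl hb
        | (rw [Equiv.swap_self]; exact one_mem _)
        | exact h01
        | exact h12
        | exact h02
        | (rw [Equiv.swap_comm]; exact h01)
        | (rw [Equiv.swap_comm]; exact h12)
        | (rw [Equiv.swap_comm]; exact h02)
  obtain ⟨m, hm, hmt⟩ := hι.exists_move h hχ
  have hπ : ρ ⟨m, hm⟩ ∈ ρ.range := ⟨_, rfl⟩
  set π := ρ ⟨m, hm⟩ with hπdef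
  have h3 : π 3 ≠ 3 := fun e => hmt (by
    have := hf ⟨m, hm⟩ 3
    rw [show f ⟨m, hm⟩ 3 = π 3 from rfl, e] at this
    exact this)
  have ha : π⁻¹ 3 ≠ 3 := fun e => h3 (by
    have := Equiv.apply_symm_apply π 3
    rwa [show π.symm 3 = 3 from e] at this)
  obtain ⟨b, hb3, hba⟩ : ∃ b : Fin 4, b ≠ 3 ∧ b ≠ π⁻¹ 3 :=
    (show ∀ a : Fin 4, ∃ b : Fin 4, b ≠ 3 ∧ b ≠ a by decide) _
  have hy := hconj hπ (hS3 _ b ha hb3)
  rw [show π (π⁻¹ 3) = 3 from Equiv.apply_symm_apply π 3] at hy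
  have hy3 : π b ≠ 3 := fun e => hba (by rw [← e]; exact (Equiv.symm_apply_apply π b).symm)
  have h3x : ∀ x : Fin 4, Equiv.swap 3 x ∈ ρ.range := by
    intro x
    by_cases hx : x = 3
    · rw [hx, Equiv.swap_self]; exact one_mem _
    · have := hconj (hS3 (π b) x hy3 hx) hy
      rwa [Equiv.swap_apply_of_ne_of_ne (Ne.symm hy3) (Ne.symm hx), Equiv.swap_apply_left] at this
  refine eq_top_iff.2 (Equiv.Perm.closure_isSwap (α := Fin 4) ▸ (Subgroup.closure_le _).2 ?_)
  rintro p ⟨x, y, -, rfl⟩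
  by_cases hx : x = 3
  · rw [hx]; exact h3x y
  by_cases hy' : y = 3
  · rw [hy', Equiv.swap_comm]; exact h3x x
  exact hS3 x y hx hy'

/-- The members of the normalizer of the abelian subgroup fused with the sign change. -/
theorem Iota.class_N (hι : H.Iota t ι) (h : H.Full t) {χ : H.C [9] →* ℤˣ} (hχ : H.OddChar t χ)
    {y : G} (hy : y ∈ normalizer (hι.A h.sq : Set G)) (hc : IsConj t y) :
    ∃ i, y = fr ι t i := by
  classical
  haveI : Fact (Nat.Prime 2) := ⟨Nat.prime_two⟩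
  obtain ⟨ρ, hρ, hρs⟩ := hι.exists_rho h hχ
  have hy2 : y * y = 1 := by
    obtain ⟨g, rfl⟩ := isConj_iff.1 hc
    rw [show g * t * g⁻¹ * (g * t * g⁻¹) = g * (t * t) * g⁻¹ by group, h.sq, mul_one,
      mul_inv_cancel]
  set Y : normalizer (hι.A h.sq : Set G) := ⟨y, hy⟩
  have hρY : ρ Y * ρ Y = 1 := by rw [← map_mul, show Y * Y = 1 from Subtype.ext hy2, map_one]
  have hρA : ∀ {n : normalizer (hι.A h.sq : Set G)}, (n : G) ∈ hι.A h.sq → ρ n = 1 := fun {n} hn =>
    hι.perm_unique (hρ n) fun i => by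
      rw [hι.A_comm h.sq hn (hι.fr_mem_A h.sq i), mul_inv_cancel_right]; rfl
  rcases Six.main_table.2.2.2.2 _ hρY with e | ⟨c, e⟩ | ⟨c, e⟩
  · refine hι.class_T h hχ (hι.A_le_T h.sq (hι.centralizing h.sq fun i => ?_)) hc
    rw [show y * fr ι t i * y⁻¹ = fr ι t (ρ Y i) from hρ Y i, e]; rfl
  all_goals obtain ⟨n, rfl⟩ := hρs c
  all_goals rw [← map_inv, ← map_mul, ← map_mul] at e
  all_goals set Y' := n * Y * n⁻¹
  all_goals have hc' : IsConj t (Y' : G) := hc.trans (isConj_iff.2 ⟨n, rfl⟩)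
  all_goals exfalso
  · have hmem : (ι Six.rr)⁻¹ * (Y' : G) ∈ hι.A h.sq := hι.centralizing h.sq fun i => by
      calc (ι Six.rr)⁻¹ * (Y' : G) * fr ι t i * ((ι Six.rr)⁻¹ * (Y' : G))⁻¹
          = (ι Six.rr)⁻¹ * ((Y' : G) * fr ι t i * (Y' : G)⁻¹) * ι Six.rr := by group
        _ = fr ι t i := by rw [hρ Y' i, e, ← hι.rr_perm]; group
    have hT : (Y' : G) ∈ hι.T h.sq := by
      have := mul_mem (show ι Six.rr ∈ hι.T h.sq from
        ⟨0, 1, 0, by rw [Six.tt_table.2.2.2.1, pow_zero, mul_one]⟩) (hι.A_le_T h.sq hmem)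
      rwa [mul_inv_cancel_left] at this
    obtain ⟨i, hi⟩ := hι.class_T h hχ hT hc'
    rw [hρA (hi ▸ hι.fr_mem_A h.sq i)] at e
    exact absurd e.symm (by decide)
  · set y' : G := (Y' : G) with hy'def
    set f := fr ι t
    have hsq : ∀ i, f i * f i = 1 := fun i => by
      obtain ⟨g, hg⟩ := isConj_iff.1 (hι.fr_class h i)
      rw [← (show g * t * g⁻¹ = f i from hg), show g * t * g⁻¹ * (g * t * g⁻¹) = g * (t * t) * g⁻¹ by group, h.sq, mul_one,
        mul_inv_cancel]
    have hfi : ∀ i, (f i)⁻¹ = f i := fun i => inv_eq_of_mul_eq_one_right (hsq i)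
    have hff : ∀ i j, Commute (f i) (f j) := fun i j =>
      hι.A_comm h.sq (hι.fr_mem_A h.sq i) (hι.fr_mem_A h.sq j)
    have hswap : ∀ i, y' * f i = f ((Equiv.swap 0 1 * Equiv.swap 2 3 : Equiv.Perm (Fin 4)) i) * y' :=
      fun i => mul_inv_eq_iff_eq_mul.1 ((hρ Y' i).trans (by rw [e]))
    have k0 : y' * f 0 = f 1 * y' := hswap 0
    have k1 : y' * f 1 = f 0 * y' := hswap 1
    have k2 : y' * f 2 = f 3 * y' := hswap 2
    have k3 : y' * f 3 = f 2 * y' := hswap 3
    set a := f 0 * f 1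
    set b := f 2 * f 3
    have cya : Commute y' a := by
      show y' * (f 0 * f 1) = f 0 * f 1 * y'
      rw [← mul_assoc, k0, mul_assoc, k1, ← mul_assoc, (hff 1 0).eq]
    have cyb : Commute y' b := by
      show y' * (f 2 * f 3) = f 2 * f 3 * y'
      rw [← mul_assoc, k2, mul_assoc, k3, ← mul_assoc, (hff 3 2).eq]
    have e1 : f 0 * y' * (f 0)⁻¹ = a * y' := by
      rw [hfi, mul_assoc, k0, ← mul_assoc]
    have e2 : f 2 * y' * (f 2)⁻¹ = b * y' := by
      rw [hfi, mul_assoc, k2, ← mul_assoc]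
    have e3 : f 0 * f 2 * y' * (f 0 * f 2)⁻¹ = a * (b * y') := by
      calc f 0 * f 2 * y' * (f 0 * f 2)⁻¹ = f 0 * (f 2 * y' * (f 2)⁻¹) * (f 0)⁻¹ := by group
        _ = f 0 * b * (y' * f 0) := by rw [e2, hfi]; group
        _ = f 0 * (b * f 1) * y' := by rw [k0]; group
        _ = f 0 * (f 1 * b) * y' := by
          rw [((hff 2 1).mul_left (hff 3 1)).eq]
        _ = _ := by simp only [a]; group
    set B := hι.A h.sq ⊓ centralizer ({y'} : Set G)
    have hA2 : IsPGroup 2 (hι.A h.sq) := (hι.isPGroup_T h.sq).to_le (hι.A_le_T h.sq)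
    have hyN : zpowers y' ≤ normalizer (B : Set G) := zpowers_le.2 (mem_normalizer_of_conj_le
      fun x hx => by rw [← mem_centralizer_singleton_iff.1 hx.2, mul_inv_cancel_right]; exact hx)
    have hy'2 : y' * y' = 1 := by
      show (n : G) * y * (n : G)⁻¹ * ((n : G) * y * (n : G)⁻¹) = 1
      rw [show (n : G) * y * (n : G)⁻¹ * ((n : G) * y * (n : G)⁻¹) =
        (n : G) * (y * y) * (n : G)⁻¹ by group, hy2, mul_one, mul_inv_cancel]
    have hU2 : IsPGroup 2 (zpowers y' ⊔ B : Subgroup G) := by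
      refine IsPGroup.to_sup_of_normal_right' ?_ (hA2.to_le inf_le_left) hyN
      rintro ⟨_, k, rfl⟩
      refine ⟨1, Subtype.ext ?_⟩
      show (y' ^ k) ^ (2 ^ 1) = 1
      rw [pow_one, ← zpow_natCast, ← zpow_mul, mul_comm, zpow_mul, zpow_natCast, pow_two, hy'2,
        one_zpow]
    obtain ⟨g, hg⟩ := isConj_iff.1 hc'
    set U := (zpowers y' ⊔ B).map (MulAut.conj g⁻¹).toMonoidHom
    set C := centralizer ({t} : Set G)
    have hUC : U ≤ C := by
      rintro _ ⟨w, hw, rfl⟩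
      have hwy : w * y' = y' * w := mem_centralizer_singleton_iff.1
        ((sup_le (zpowers_le.2 (mem_centralizer_singleton_iff.2 rfl)) inf_le_right :
          zpowers y' ⊔ B ≤ centralizer ({y'} : Set G)) hw)
      refine mem_centralizer_singleton_iff.2 ?_
      show g⁻¹ * w * g⁻¹⁻¹ * t = t * (g⁻¹ * w * g⁻¹⁻¹)
      calc g⁻¹ * w * g⁻¹⁻¹ * t = g⁻¹ * (w * (g * t * g⁻¹)) * g := by group
        _ = g⁻¹ * ((g * t * g⁻¹) * w) * g := by rw [hg, hwy]
        _ = _ := by group
    have hTC : hι.T h.sq ≤ C := by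
      rintro _ ⟨x, l, k, rfl⟩
      exact mem_centralizer_singleton_iff.2
        ((show Commute (ι (Six.tt x l)) t from hι.comm _).mul_left ((Commute.refl t).pow_left k)).eq
    obtain ⟨R, hR⟩ := ((hU2.map _).of_equiv (subgroupOfEquivOfLe hUC).symm :
      IsPGroup 2 (U.subgroupOf C)).exists_le_sylow
    obtain ⟨Q, hQ⟩ := ((hι.isPGroup_T h.sq).of_equiv (subgroupOfEquivOfLe hTC).symm :
      IsPGroup 2 ((hι.T h.sq).subgroupOf C)).exists_le_sylow
    have hQT : (Q : Subgroup C).map C.subtype = hι.T h.sq :=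
      hι.T_max h hχ (Q.2.map _) (fun x hx => ⟨⟨x, hTC hx⟩, hQ hx, rfl⟩) (map_subtype_le _)
    obtain ⟨k, hk⟩ := MulAction.exists_smul_eq C R Q
    set m := (k : G) * g⁻¹
    have hmem : ∀ w ∈ zpowers y' ⊔ B, m * w * m⁻¹ ∈ hι.T h.sq := fun w hw => by
      have hw' : g⁻¹ * w * g⁻¹⁻¹ ∈ U := ⟨w, hw, rfl⟩
      rw [← hQT]
      refine ⟨k * ⟨_, hUC hw'⟩ * k⁻¹, ?_, ?_⟩
      · rw [← hk]
        exact ⟨⟨_, hUC hw'⟩, hR (mem_subgroupOf.2 hw'), rfl⟩
      · show (k : G) * (g⁻¹ * w * g⁻¹⁻¹) * (k : G)⁻¹ = m * w * m⁻¹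
        simp only [m]; group
    have haB : a ∈ B := ⟨mul_mem (hι.fr_mem_A h.sq 0) (hι.fr_mem_A h.sq 1),
      mem_centralizer_singleton_iff.2 cya.eq.symm⟩
    have hbB : b ∈ B := ⟨mul_mem (hι.fr_mem_A h.sq 2) (hι.fr_mem_A h.sq 3),
      mem_centralizer_singleton_iff.2 cyb.eq.symm⟩
    have hyU : y' ∈ zpowers y' ⊔ B := mem_sup_left (mem_zpowers _)
    let q : Fin 4 → G := ![y', a * y', b * y', a * (b * y')]
    have hqU : ∀ i, q i ∈ zpowers y' ⊔ B := by
      intro i
      fin_cases i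
      · exact hyU
      · exact mul_mem (mem_sup_right haB) hyU
      · exact mul_mem (mem_sup_right hbB) hyU
      · exact mul_mem (mem_sup_right haB) (mul_mem (mem_sup_right hbB) hyU)
    have hqc : ∀ i, IsConj t (q i) := by
      intro i
      refine hc'.trans (isConj_iff.2 ?_)
      fin_cases i
      · exact ⟨1, show 1 * y' * 1⁻¹ = y' by group⟩
      · exact ⟨f 0, e1⟩
      · exact ⟨f 2, e2⟩
      · exact ⟨f 0 * f 2, e3⟩
    choose p hp using fun i => hι.class_T h hχ (hmem _ (hqU i))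
      ((hqc i).trans (isConj_iff.2 ⟨m, rfl⟩))
    have hab : a * b = ι Six.tp * t := by
      show ι (Six.tri 0) * ι (Six.tri 1) * (ι (Six.tri 2) * t) = ι Six.tp * t
      rw [← Six.main_table.2.1, map_mul, map_mul]; group
    have hab1 : a * b ≠ 1 := fun e' => by
      rw [hab, mul_eq_one_iff_eq_inv, inv_eq_of_mul_eq_one_right h.sq] at e'
      exact hι.not_mem _ e'
    have ha1 : a ≠ 1 := fun e' => Six.main_table.2.2.2.1 (hι.inj (by
      rw [map_mul, map_one]; exact e'))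
    have hb1 : b ≠ 1 := fun e' => by
      rw [show b = f 2 * f 3 from rfl, mul_eq_one_iff_eq_inv, hfi] at e'
      exact absurd (hι.fr_inj e') (by decide)
    have hb2 : b * b = 1 := by
      show f 2 * f 3 * (f 2 * f 3) = 1
      rw [(hff 3 2).mul_mul_mul_comm, hsq, hsq, one_mul]
    have ha2 : a * a = 1 := by
      show f 0 * f 1 * (f 0 * f 1) = 1
      rw [(hff 1 0).mul_mul_mul_comm, hsq, hsq, one_mul]
    have hne : a ≠ b := fun e' => hab1 (by rw [e', hb2])
    let u : Fin 4 → G := ![1, a, b, a * b]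
    have huinj : Function.Injective u := by
      intro i j e'
      fin_cases i <;> fin_cases j <;>
        first
          | rfl
          | exact absurd (show (1 : G) = a from e') (Ne.symm ha1)
          | exact absurd (show a = (1 : G) from e') ha1
          | exact absurd (show (1 : G) = b from e') (Ne.symm hb1)
          | exact absurd (show b = (1 : G) from e') hb1
          | exact absurd (show (1 : G) = a * b from e') (Ne.symm hab1)
          | exact absurd (show a * b = (1 : G) from e') hab1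
          | exact absurd (show a = b from e') hne
          | exact absurd (show b = a from e') (Ne.symm hne)
          | exact absurd (mul_eq_left.1 (show a * b = a from e')) hb1
          | exact absurd (mul_eq_left.1 (show a * b = a from e'.symm)) hb1
          | exact absurd (mul_eq_right.1 (show a * b = b from e')) ha1
          | exact absurd (mul_eq_right.1 (show a * b = b from e'.symm)) ha1
    have hqu : ∀ i, q i = u i * y' := by
      intro i
      fin_cases i
      · exact (one_mul y').symm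
      · rfl
      · rfl
      · exact (mul_assoc a b y').symm
    have hqinj : Function.Injective q := fun i j e' => huinj (mul_right_cancel
      (show u i * y' = u j * y' by rw [← hqu, ← hqu, e']))
    have hpinj : Function.Injective p := fun i j e' => hqinj (mul_left_cancel
      (mul_right_cancel ((hp i).trans (e' ▸ (hp j).symm))))
    have hprod : q 0 * q 1 * q 2 * q 3 = 1 := by
      show y' * (a * y') * (b * y') * (a * (b * y')) = 1
      calc y' * (a * y') * (b * y') * (a * (b * y'))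
          = (y' * a) * y' * b * (y' * a) * b * y' := by group
        _ = a * (y' * y') * b * (a * y') * b * y' := by rw [cya.eq]; group
        _ = a * b * a * (y' * b) * y' := by rw [hy'2, mul_one]; group
        _ = a * b * a * b * (y' * y') := by rw [cyb.eq]; group
        _ = a * b * (a * b) := by rw [hy'2, mul_one, mul_assoc _ a b]
        _ = 1 := by
          rw [(((hff 2 0).mul_left (hff 3 0)).mul_right ((hff 2 1).mul_left (hff 3 1))).mul_mul_mul_comm,
            ha2, hb2, one_mul]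
    letI : CommGroup (hι.A h.sq) :=
      { (inferInstance : Group (hι.A h.sq)) with
        mul_comm := fun u v => Subtype.ext (hι.A_comm h.sq u.2 v.2) }
    let F : Fin 4 → hι.A h.sq := fun i => ⟨f i, hι.fr_mem_A h.sq i⟩
    have hperm : ∏ i, F (p i) = ∏ i, F i :=
      Fintype.prod_equiv (Equiv.ofBijective p (Finite.injective_iff_bijective.1 hpinj)) _ _
        fun _ => rfl
    rw [Fin.prod_univ_four, Fin.prod_univ_four] at hperm
    have hperm' : f (p 0) * f (p 1) * f (p 2) * f (p 3) = f 0 * f 1 * f 2 * f 3 :=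
      congrArg Subtype.val hperm
    rw [show f (p 0) = _ from (hp 0).symm, show f (p 1) = _ from (hp 1).symm,
      show f (p 2) = _ from (hp 2).symm, show f (p 3) = _ from (hp 3).symm] at hperm'
    refine hab1 ?_
    calc a * b = f 0 * f 1 * f 2 * f 3 := by simp only [a, b]; group
      _ = m * (q 0 * q 1 * q 2 * q 3) * m⁻¹ := by rw [← hperm']; group
      _ = 1 := by rw [hprod, mul_one, mul_inv_cancel]

/-- A character of the normalizer of the abelian subgroup, negative on the four involutions. -/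
theorem Iota.exists_char (hι : H.Iota t ι) (h : H.Full t) {χ : H.C [9] →* ℤˣ}
    (hχ : H.OddChar t χ) : ∃ ψ : normalizer (hι.A h.sq : Set G) →* ℤˣ,
      ∀ (n : normalizer (hι.A h.sq : Set G)) (i : Fin 4), (n : G) = fr ι t i → ψ n = -1 := by
  classical
  obtain ⟨ρ, hρ, hρs⟩ := hι.exists_rho h hχ
  let par : G → ℤˣ := fun g => if ∃ σ, g = ι σ then 1 else -1
  have hpar : ∀ σ (k : ℕ), par (ι σ * t ^ k) = (-1) ^ k := by
    intro σ k
    rcases Nat.even_or_odd k with hk | hk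
    · obtain ⟨m, rfl⟩ := hk
      rw [← two_mul, pow_mul, pow_two, h.sq, one_pow, mul_one, pow_mul]
      show (if ∃ σ', ι σ = ι σ' then (1 : ℤˣ) else -1) = _
      rw [if_pos ⟨σ, rfl⟩]; simp
    · rw [hk.neg_one_pow]
      obtain ⟨m, rfl⟩ := hk
      rw [pow_succ, pow_mul, pow_two, h.sq, one_pow, one_mul]
      refine if_neg ?_
      rintro ⟨σ', e⟩
      exact hι.not_mem (σ⁻¹ * σ') (by rw [map_mul, map_inv, ← e, inv_mul_cancel_left])
  have hform : ∀ n : normalizer (hι.A h.sq : Set G), ρ n 3 = 3 →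
      ∃ σ, ∃ k : ℕ, (n : G) = ι σ * t ^ k := fun n hn => by
    refine hι.stab_t h hχ n.2 (mul_inv_eq_iff_eq_mul.1 ?_)
    have := hρ n 3
    rw [hn] at this
    exact this
  have hmul : ∀ p q : normalizer (hι.A h.sq : Set G), ρ p 3 = 3 → ρ q 3 = 3 →
      par ((p * q : normalizer (hι.A h.sq : Set G)) : G) = par p * par q := by
    intro p q hp hq
    obtain ⟨σ, k, ek⟩ := hform p hp
    obtain ⟨σ', k', ek'⟩ := hform q hq
    have e : ((p * q : normalizer (hι.A h.sq : Set G)) : G) = ι (σ * σ') * t ^ (k + k') := by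
      show (p : G) * (q : G) = _
      rw [ek, ek', map_mul, pow_add,
        ((show Commute (ι σ') t from hι.comm _).pow_right k).symm.mul_mul_mul_comm]
    rw [e, ek, ek', hpar, hpar, hpar, pow_add]
  choose c hc using fun i : Fin 4 => hρs (Equiv.swap 3 i)
  have hc3 : ∀ i, ρ (c i) 3 = i := fun i => by rw [hc, Equiv.swap_apply_left]
  have hfix : ∀ s i, ρ ((c (ρ s i))⁻¹ * s * c i) 3 = 3 := fun s i => by
    rw [map_mul, map_mul, map_inv, Equiv.Perm.mul_apply, Equiv.Perm.mul_apply, hc3,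
      Equiv.Perm.inv_eq_iff_eq, hc3]
  let ψ : normalizer (hι.A h.sq : Set G) →* ℤˣ := MonoidHom.mk'
    (fun s => ∏ i, par (((c (ρ s i))⁻¹ * s * c i : normalizer (hι.A h.sq : Set G)) : G))
    fun p q => by
      have e : ∀ i, ((c (ρ (p * q) i))⁻¹ * (p * q) * c i) =
          ((c (ρ p (ρ q i)))⁻¹ * p * c (ρ q i)) * ((c (ρ q i))⁻¹ * q * c i) := fun i => by
        rw [map_mul, Equiv.Perm.mul_apply]; group
      simp only [e, hmul _ _ (hfix p _) (hfix q _), Finset.prod_mul_distrib]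
      congr 1
      exact Equiv.prod_comp (ρ q)
        fun i => par (((c (ρ p i))⁻¹ * p * c i : normalizer (hι.A h.sq : Set G)) : G)
  refine ⟨ψ, fun n j hj => ?_⟩
  have hρn : ρ n = 1 := hι.perm_unique (hρ n) fun i => by
    rw [hj, hι.A_comm h.sq (hι.fr_mem_A h.sq j) (hι.fr_mem_A h.sq i), mul_inv_cancel_right]; rfl
  have hval : ∀ i, (((c (ρ n i))⁻¹ * n * c i : normalizer (hι.A h.sq : Set G)) : G) =
      fr ι t (ρ (c i)⁻¹ j) := fun i => by
    rw [hρn, Equiv.Perm.one_apply, ← hρ]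
    show ((c i : G))⁻¹ * (n : G) * (c i : G) = (c i : G)⁻¹ * fr ι t j * ((c i : G)⁻¹)⁻¹
    rw [hj, inv_inv]
  have hfr : ∀ k, par (fr ι t k) = if k = 3 then -1 else 1 := by
    intro k
    induction k using Fin.lastCases with
    | last =>
      rw [show (Fin.last 3 : Fin 4) = 3 from rfl, if_pos rfl]
      have := hpar 1 1
      rwa [map_one, one_mul, pow_one, pow_one] at this
    | cast k =>
      rw [if_neg (show k.castSucc ≠ (3 : Fin 4) from (Fin.castSucc_lt_last k).ne), fr_castSucc]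
      exact if_pos ⟨_, rfl⟩
  show ∏ i, par (((c (ρ n i))⁻¹ * n * c i : normalizer (hι.A h.sq : Set G)) : G) = -1
  simp only [hval, hfr]
  rw [Finset.prod_eq_single j]
  · rw [if_pos]
    rw [map_inv, Equiv.Perm.inv_eq_iff_eq, hc3]
  · intro i _ hij
    rw [if_neg]
    rw [map_inv, Equiv.Perm.inv_eq_iff_eq, hc3]
    exact fun e => hij e.symm
  · exact fun h' => absurd (Finset.mem_univ j) h'

/-- The sign change lies outside a subgroup of index two. -/
theorem Iota.exists_index_two (hι : H.Iota t ι) (h : H.Full t) {χ : H.C [9] →* ℤˣ}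
    (hχ : H.OddChar t χ) : ∃ M : Subgroup G, M.Normal ∧ M.index = 2 ∧ t ∉ M := by
  haveI : Fact (Nat.Prime 2) := ⟨Nat.prime_two⟩
  set NA := normalizer (hι.A h.sq : Set G)
  obtain ⟨ψ, hψ⟩ : ∃ ψ : NA →* ℤˣ, ∀ (n : NA) (i : Fin 4), (n : G) = fr ι t i → ψ n = -1 :=
    hι.exists_char h hχ
  have hAN : hι.A h.sq ≤ NA := le_normalizer
  have hA2 : IsPGroup 2 (hι.A h.sq) := (hι.isPGroup_T h.sq).to_le (hι.A_le_T h.sq)
  obtain ⟨Q, hQ⟩ := (hA2.of_equiv (subgroupOfEquivOfLe hAN).symm :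
    IsPGroup 2 ((hι.A h.sq).subgroupOf NA)).exists_le_sylow
  set Qm := (Q : Subgroup NA).map NA.subtype
  obtain ⟨S, hS⟩ := (Q.2.map NA.subtype).exists_le_sylow
  have hSN : (S : Subgroup G) ≤ NA := by
    by_contra hne
    have hlt : Qm.subgroupOf (S : Subgroup G) < ⊤ := lt_top_iff_ne_top.2 fun e' =>
      hne ((subgroupOf_eq_top.1 e').trans (map_subtype_le _))
    haveI := S.2.isNilpotent
    obtain ⟨⟨n, hnS⟩, hnn, hnF⟩ := SetLike.exists_of_lt
      (Group.normalizerCondition_of_isNilpotent _ hlt)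
    have hn : n ∈ normalizer (Qm : Set G) := mem_normalizer_of_conj_le fun x hx =>
      (mem_normalizer_iff.1 hnn ⟨x, hS hx⟩).1 hx
    have hnN : n ∈ NA := (hι.permutes h (S := Qm) (fun a ha => ⟨⟨a, hAN ha⟩, hQ ha, rfl⟩) hn
      fun g hg hc => hι.class_N h hχ (map_subtype_le _ hg) hc).1
    have hle : ((S : Subgroup G).subgroupOf NA) = (Q : Subgroup NA) :=
      Q.3 (S.2.comap_of_injective _ NA.subtype_injective) fun x hx => hS ⟨x, hx, rfl⟩
    refine hnF (mem_subgroupOf.2 ⟨⟨n, hnN⟩, ?_, rfl⟩)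
    rw [← hle]; exact mem_subgroupOf.2 hnS
  set φ : (S : Subgroup G) →* ℤˣ := ψ.comp (Subgroup.inclusion hSN)
  have htS : t ∈ (S : Subgroup G) :=
    hS ⟨⟨t, hAN (hι.fr_mem_A h.sq 3)⟩, hQ (hι.fr_mem_A h.sq 3), rfl⟩
  have hφt : φ ⟨t, htS⟩ = -1 := hψ ⟨t, hSN htS⟩ 3 rfl
  set K := φ.ker.map (S : Subgroup G).subtype
  have hKi : K.relIndex (S : Subgroup G) = 2 := by
    show (K.subgroupOf (S : Subgroup G)).index = 2
    rw [show K.subgroupOf (S : Subgroup G) = φ.ker from
      comap_map_eq_self_of_injective (S : Subgroup G).subtype_injective _, Subgroup.index_ker,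
      MonoidHom.range_eq_top.2 fun v => ?_, Subgroup.card_top, Nat.card_eq_fintype_card,
      Fintype.card_units_int]
    rcases Int.units_eq_one_or v with rfl | rfl
    · exact ⟨1, map_one _⟩
    · exact ⟨_, hφt⟩
  have htK : t ∉ K := by
    rintro ⟨x, hx, hxt⟩
    rw [show x = ⟨t, htS⟩ from Subtype.ext hxt] at hx
    have := MonoidHom.mem_ker.1 hx
    rw [hφt] at this
    exact absurd this (by decide)
  rcases Cfsg.Agent.S0111.result S K (map_subtype_le _) hKi t
      (orderOf_eq_prime (by rw [pow_two, h.sq]) h.t_ne_one) htS htK with hM | ⟨g, hg⟩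
  · exact hM
  · exfalso
    obtain ⟨x, hx, hxg⟩ := hg
    obtain ⟨i, hi⟩ := hι.class_N h hχ (hSN x.2) (isConj_iff.2 ⟨g, hxg.symm⟩)
    have := MonoidHom.mem_ker.1 hx
    rw [show φ x = -1 from hψ _ i hi] at this
    exact absurd this (by decide)

/-- A block rotation is fused into the elementary abelian subgroup. -/
theorem Iota.sigma_into_J (hι : H.Iota t ι) (h : H.Full t) {χ : H.C [9] →* ℤˣ}
    (hχ : H.OddChar t χ) : ∃ g, g * H.S 4 * g⁻¹ ∈ H.J := by
  haveI : Fact (Nat.Prime 3) := ⟨Nat.prime_three⟩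
  obtain ⟨ρ, hρ, hρs⟩ := hι.exists_rho h hχ
  obtain ⟨n, hn⟩ := hρs (Equiv.swap 2 3)
  obtain ⟨-, htp, ⟨c, hc⟩, -⟩ := Six.main_table
  set g := (n : G) * ι c
  have hd3 : ι (Equiv.swap 0 1 * Equiv.swap 3 4) = H.dd t 3 := by
    rw [map_mul, hι.a, hι.b]
    simp only [dd, show db 3 0 = 1 by decide +kernel, show db 3 1 = 1 by decide +kernel,
      show db 3 2 = 0 by decide +kernel, pow_one, pow_zero, mul_one]
  have h7 : H.dd t 7 = ι (Equiv.swap 0 1 * Equiv.swap 3 4) * t := by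
    rw [hd3]
    conv_rhs => arg 2; rw [← ti_two (H := H) (t := t), ← dd_unit]
    rw [h.dd_mul, show dx 3 (du 2) = 7 by decide +kernel]
  have hy : g * H.dd t 7 * g⁻¹ = ι Six.tp := by
    have e : ι c * H.dd t 7 * (ι c)⁻¹ = ι (Six.tri 0) * ι (Six.tri 1) * t := by
      rw [h7, ← map_mul ι (Six.tri 0), ← hc]
      generalize Equiv.swap (0 : Fin 6) 1 * Equiv.swap 3 4 = σ
      rw [map_mul, map_mul, map_inv]
      calc ι c * (ι σ * t) * (ι c)⁻¹ = ι c * ι σ * (t * (ι c)⁻¹) := by group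
        _ = _ := by rw [← ((show Commute (ι c) t from hι.comm _).inv_left).eq]; group
    have h0 := hρ n 0
    have h1 := hρ n 1
    have h3 := hρ n 3
    rw [hn] at h0 h1 h3
    calc g * H.dd t 7 * g⁻¹ = (n : G) * (ι c * H.dd t 7 * (ι c)⁻¹) * (n : G)⁻¹ := by
          simp only [g]; group
      _ = ((n : G) * fr ι t 0 * (n : G)⁻¹) * ((n : G) * fr ι t 1 * (n : G)⁻¹) *
          ((n : G) * fr ι t 3 * (n : G)⁻¹) := by
          rw [e]
          show (n : G) * (fr ι t 0 * fr ι t 1 * fr ι t 3) * (n : G)⁻¹ = _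
          group
      _ = _ := by
          rw [h0, h1, h3, ← htp, map_mul, map_mul]
          rfl
  set w := g * H.S 4 * g⁻¹
  have hσ : H.S 4 * H.dd t 7 = H.dd t 7 * H.S 4 := by
    have := h.dd_conj 4 7
    rw [show pd 4 7 = 7 by decide +kernel, mul_inv_eq_iff_eq_mul] at this
    exact this
  have hwy : w * ι Six.tp = ι Six.tp * w := by
    rw [← hy]
    calc g * H.S 4 * g⁻¹ * (g * H.dd t 7 * g⁻¹) = g * (H.S 4 * H.dd t 7) * g⁻¹ := by group
      _ = g * (H.dd t 7 * H.S 4) * g⁻¹ := by rw [hσ]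
      _ = _ := by simp only [w]; group
  have hw1 : w ≠ 1 := fun e => by
    rw [conj_eq_one_iff] at e
    exact absurd (H.indep 0 4 (by rw [H.emb_zero, one_mul, e])).2 (by decide)
  have hw3 : w ^ 3 = 1 := by
    show (g * H.S 4 * g⁻¹) ^ 3 = 1
    rw [conj_pow, pow_succ, pow_two, H.S_mul, H.S_mul, show pm (pm 4 4) 4 = 0 by decide +kernel,
      H.S_zero, mul_one, mul_inv_cancel]
  have hRp : IsPGroup 3 (zpowers w) :=
    IsPGroup.of_card (n := 1) (by rw [Nat.card_zpowers, pow_one]; exact orderOf_eq_prime hw3 hw1)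
  rcases hι.s with hs | hs <;> rw [hs] at hwy
  · obtain ⟨k, -, hk⟩ := h.sylow_tau hRp (zpowers_le.2 (mem_centralizer_singleton_iff.2 hwy))
    refine ⟨k * g, ?_⟩
    rw [show k * g * H.S 4 * (k * g)⁻¹ = k * w * k⁻¹ by simp only [w]; group]
    exact (hk w (mem_zpowers w)).1
  · set C := centralizer ({t * H.S 1} : Set G)
    have hy4 : t * H.S 1 ∈ H.C [4] :=
      (mono_tables.2.1 4 1 ▸ h.ind.mul (H.induces_S 1)).mem_C (X := [4]) fun v hv => by
        rw [List.mem_singleton.1 hv]; exact fusion_tables.2.2.2.2.2.2.2.2.2.1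
    have he4 : H.emb 4 ∈ C :=
      mem_centralizer_singleton_iff.2 (H.mem_C.1 hy4 4 List.mem_cons_self).symm
    have ho : orderOf (⟨H.emb 4, he4⟩ : C) = 3 := by
      rw [Subgroup.orderOf_mk]
      exact orderOf_eq_prime (H.emb_cube 4)
        fun e => absurd (H.emb_inj (e.trans H.emb_zero.symm)) (by decide)
    obtain ⟨Q, hQ⟩ := (IsPGroup.of_card (n := 1) (show Nat.card (zpowers (⟨H.emb 4, he4⟩ : C)) =
      3 ^ 1 by rw [Nat.card_zpowers, ho, pow_one])).exists_le_sylow
    have hQeq : (Q : Subgroup C) = zpowers ⟨H.emb 4, he4⟩ := by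
      refine (Subgroup.eq_of_le_of_card_ge hQ ?_).symm
      rw [Nat.card_zpowers, ho, Nat.card_congr
        ((Q : Subgroup C).equivMapOfInjective _ C.subtype_injective).toEquiv]
      exact h.small_ttau (Q.2.map _) (map_subtype_le _)
    have hwC : w ∈ C := mem_centralizer_singleton_iff.2 hwy
    obtain ⟨R, hR⟩ := ((hRp.of_equiv (subgroupOfEquivOfLe (zpowers_le.2 hwC)).symm :
      IsPGroup 3 ((zpowers w).subgroupOf C))).exists_le_sylow
    obtain ⟨k, hk⟩ := MulAction.exists_smul_eq C R Q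
    refine ⟨(k : G) * g, ?_⟩
    have hm : k * ⟨w, hwC⟩ * k⁻¹ ∈ (Q : Subgroup C) := by
      rw [← hk]
      exact ⟨⟨w, hwC⟩, hR (mem_subgroupOf.2 (mem_zpowers w)), rfl⟩
    rw [hQeq] at hm
    obtain ⟨j, hj⟩ := hm
    rw [show (k : G) * g * H.S 4 * ((k : G) * g)⁻¹ = (k : G) * w * (k : G)⁻¹ by simp only [w]; group,
      show (k : G) * w * (k : G)⁻¹ = H.emb 4 ^ j from (congrArg Subtype.val hj).symm]
    exact zpow_mem (H.emb_mem 4) j

end Hyp

end CfsgLib.ThreeSymNine
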