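import Cfsg.Agent.ThreeSymNine.AlphaLocal

/-!
# Fusion of the sign change inside the two-group of a standard symmetric group of degree six
-/

set_option autoImplicit false
set_option maxRecDepth 100000
set_option synthInstance.maxSize 100000
set_option linter.style.haveILetI false
set_option linter.unusedSectionVars false

namespace CfsgLib.ThreeSymNine

open CfsgLib.AltNine Subgroup

attribute [local instance 10000] List.decidableBAll List.decidableBEx

universe u

namespace Six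

open Equiv

/-- The double transposition exchanging the first two transpositions between the triples. -/
def rr : Perm (Fin 6) := swap 0 1 * swap 3 4

/-- The elements of the two-group. -/
def tt (x : Fin 8) (l : Fin 2) : Perm (Fin 6) := trip x * rr ^ (l : ℕ)

theorem tt_table : (∀ x l y m, ∃ z k, tt x l * tt y m = tt z k) ∧
    (∀ x l, ∃ z k, (tt x l)⁻¹ = tt z k) ∧ tt 0 0 = 1 ∧ tt 0 1 = rr ∧
    (∀ x l, tt x l ^ 4 = 1) ∧ (∀ x, tt x 0 = trip x) := by decide +kernel

theorem tt_class : ∀ x l, tt x l * tt x l ≠ 1 ∨ tt x l = 1 ∨ (∃ i, tt x l = tri i) ∨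
    (∃ c : Perm (Fin 6), tt x l = c * (swap 0 1 * swap 3 4) * c⁻¹) ∨
    ∃ c : Perm (Fin 6), tt x l = c * tp * c⁻¹ := by decide +kernel

theorem four_table : (∀ π : Perm (Fin 4), π 3 = 3 → ∃ σ : Perm (Fin 6), ∀ i j : Fin 3,
      π i.castSucc = j.castSucc → σ * tri i * σ⁻¹ = tri j) ∧
    (∀ π : Perm (Fin 4), π 3 = 3 → π * swap 0 1 = swap 0 1 * π → π = 1 ∨ π = swap 0 1) ∧
    (∀ i : Fin 3, rr * tri i * rr⁻¹ = tri (swap 0 1 i)) := by decide +kernel

theorem tri_gen : (∀ i, tri i ≠ 1) ∧ ∀ i j, tri i = tri j → i = j := by decide +kernel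

end Six

theorem dd5_table : ∃ a : Fin 6, pd a 5 = 3 := by decide +kernel

/-- An element carrying a subgroup into itself normalizes it. -/
theorem mem_normalizer_of_conj_le {G : Type u} [Group G] [Finite G] {A : Subgroup G} {n : G}
    (h : ∀ x ∈ A, n * x * n⁻¹ ∈ A) : n ∈ normalizer (A : Set G) := by
  have e : A.map (MulAut.conj n).toMonoidHom = A := by
    refine Subgroup.eq_of_le_of_card_ge (by rintro _ ⟨x, hx, rfl⟩; exact h x hx) ?_
    rw [← Nat.card_congr (A.equivMapOfInjective _ (MulAut.conj n).injective).toEquiv]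
  refine mem_normalizer_iff.2 fun x => ⟨h x, fun hx => ?_⟩
  rw [← e] at hx
  obtain ⟨y, hy, hyx⟩ := hx
  rwa [← (MulAut.conj n).injective hyx]

namespace Hyp

variable {G : Type u} [Group G] [Finite G] {H : Hyp G} {t : G}
  {ι : Equiv.Perm (Fin 6) →* G}

/-- The abelian subgroup of order sixteen of a standard symmetric group. -/
def Iota.A (hι : H.Iota t ι) (ht : t * t = 1) : Subgroup G where
  carrier := {g | ∃ x, ∃ n : ℕ, g = ι (Six.trip x) * t ^ n}
  one_mem' := ⟨0, 0, by rw [Six.trip_table.2.2.2.2.1, map_one, pow_zero, one_mul]⟩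
  mul_mem' := by
    rintro _ _ ⟨x, n, rfl⟩ ⟨y, m, rfl⟩
    obtain ⟨z, hz⟩ := Six.trip_table.2.2.1 x y
    refine ⟨z, n + m, ?_⟩
    rw [← hz, map_mul, pow_add,
      ((show Commute (ι (Six.trip y)) t from hι.comm _).pow_right n).symm.mul_mul_mul_comm]
  inv_mem' := by
    rintro _ ⟨x, n, rfl⟩
    refine ⟨x, n, ?_⟩
    rw [mul_inv_rev, ← map_inv, inv_eq_of_mul_eq_one_right (Six.trip_table.2.2.2.1 x), ← inv_pow,
      inv_eq_of_mul_eq_one_right ht]
    exact ((show Commute (ι (Six.trip x)) t from hι.comm _).pow_right n).symm.eq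

/-- The two-group of order thirty-two of a standard symmetric group. -/
def Iota.T (hι : H.Iota t ι) (ht : t * t = 1) : Subgroup G where
  carrier := {g | ∃ x l, ∃ n : ℕ, g = ι (Six.tt x l) * t ^ n}
  one_mem' := ⟨0, 0, 0, by rw [Six.tt_table.2.2.1, map_one, pow_zero, one_mul]⟩
  mul_mem' := by
    rintro _ _ ⟨x, l, n, rfl⟩ ⟨y, k, m, rfl⟩
    obtain ⟨z, j, hz⟩ := Six.tt_table.1 x l y k
    refine ⟨z, j, n + m, ?_⟩
    rw [← hz, map_mul, pow_add,
      ((show Commute (ι (Six.tt y k)) t from hι.comm _).pow_right n).symm.mul_mul_mul_comm]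
  inv_mem' := by
    rintro _ ⟨x, l, n, rfl⟩
    obtain ⟨z, j, hz⟩ := Six.tt_table.2.1 x l
    refine ⟨z, j, n, ?_⟩
    rw [← hz, mul_inv_rev, map_inv, ← inv_pow, inv_eq_of_mul_eq_one_right ht]
    exact (((show Commute (ι (Six.tt x l)) t from hι.comm _).inv_left).pow_right n).symm.eq

/-- The four fused involutions generating the abelian subgroup. -/
def fr (ι : Equiv.Perm (Fin 6) →* G) (t : G) : Fin 4 → G :=
  ![ι (Six.tri 0), ι (Six.tri 1), ι (Six.tri 2), t]

theorem fr_castSucc (i : Fin 3) : fr ι t i.castSucc = ι (Six.tri i) := by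
  fin_cases i <;> rfl

theorem fr_last : fr ι t 3 = t := rfl

theorem Iota.pow_cases (_hι : H.Iota t ι) (ht : t * t = 1) (n : ℕ) : t ^ n = 1 ∨ t ^ n = t := by
  rcases Nat.even_or_odd n with ⟨m, rfl⟩ | ⟨m, rfl⟩
  · left; rw [← two_mul, pow_mul, pow_two, ht, one_pow]
  · right; rw [pow_succ, pow_mul, pow_two, ht, one_pow, one_mul]

theorem Iota.fr_inj (hι : H.Iota t ι) : Function.Injective (fr ι t) := by
  intro i j e
  induction i using Fin.lastCases with
  | last =>
    induction j using Fin.lastCases with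
    | last => rfl
    | cast j => exact absurd ((fr_castSucc (ι := ι) (t := t) j).symm.trans e.symm) (hι.not_mem _)
  | cast i =>
    induction j using Fin.lastCases with
    | last => exact absurd ((fr_castSucc (ι := ι) (t := t) i).symm.trans e) (hι.not_mem _)
    | cast j =>
      rw [fr_castSucc, fr_castSucc] at e
      rw [Six.tri_gen.2 i j (hι.inj e)]

/-- The members of the two-group fused with the sign change. -/
theorem Iota.class_T (hι : H.Iota t ι) (h : H.Full t) {χ : H.C [9] →* ℤˣ} (hχ : H.OddChar t χ)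
    {g : G} (hg : g ∈ hι.T h.sq) (hc : IsConj t g) : ∃ i, g = fr ι t i := by
  have h0 : IsConj t (H.ti t 0) := isConj_iff.2 ⟨H.S (bc 0), rfl⟩
  have key : ∀ {y : G}, (∀ z, z * H.ti t 0 * z⁻¹ ≠ y) → ¬ IsConj t y := fun hne hy => by
    obtain ⟨z, hz⟩ := isConj_iff.1 (h0.symm.trans hy)
    exact hne z hz
  have n3 : ¬ IsConj t (H.dd t 3) := key (h.t0_ne_d3 hχ)
  have n5 : ¬ IsConj t (H.ti t 0 * t) := fun hy => by
    obtain ⟨a, ha⟩ := dd5_table
    refine n3 (hy.trans (isConj_iff.2 ⟨H.S a, ?_⟩))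
    rw [← ha, ← h.dd_conj, show (5 : Fin 8) = dx (du 0) (du 2) by decide +kernel, ← h.dd_mul,
      dd_unit, dd_unit, ti_two]
  have n7 : ¬ IsConj t (H.dd t 3 * t) := by
    have : H.dd t 3 * t = H.dd t 7 := by
      conv_lhs => arg 2; rw [← ti_two (H := H) (t := t), ← dd_unit]
      rw [h.dd_mul, show dx 3 (du 2) = 7 by decide +kernel]
    rw [this]; exact key h.t0_ne_u
  have n1 : ¬ IsConj t (H.S 1) := key h.t0_ne_tau
  have n1' : ¬ IsConj t (t * H.S 1) := key h.t0_ne_ttau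
  have hd3 : ι (Equiv.swap 0 1 * Equiv.swap 3 4) = H.dd t 3 := by
    rw [map_mul, hι.a, hι.b]
    simp only [dd, show db 3 0 = 1 by decide +kernel, show db 3 1 = 1 by decide +kernel,
      show db 3 2 = 0 by decide +kernel, pow_one, pow_zero, mul_one]
  obtain ⟨x, l, n, rfl⟩ := hg
  obtain ⟨z, hz⟩ := isConj_iff.1 hc
  have hsq : ι (Six.tt x l) * t ^ n * (ι (Six.tt x l) * t ^ n) = 1 := by
    rw [← hz, show z * t * z⁻¹ * (z * t * z⁻¹) = z * (t * t) * z⁻¹ by group, h.sq, mul_one,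
      mul_inv_cancel]
  have hσ : Six.tt x l * Six.tt x l = 1 := hι.inj (by
    rw [map_one, map_mul]
    rw [((show Commute (ι (Six.tt x l)) t from hι.comm _).pow_right n).symm.mul_mul_mul_comm] at hsq
    rcases hι.pow_cases h.sq n with e | e <;> rw [e] at hsq <;> simpa [h.sq] using hsq)
  have hconj : ∀ {c σ : Equiv.Perm (Fin 6)}, Six.tt x l = c * σ * c⁻¹ →
      IsConj t (ι σ * t ^ n) := by
    intro c σ e
    refine hc.trans (isConj_iff.2 ⟨ι c⁻¹, ?_⟩)
    have hct : Commute (ι c) (t ^ n) := (show Commute (ι c) t from hι.comm _).pow_right n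
    rw [e, map_inv, inv_inv, map_mul, map_mul, map_inv]
    calc (ι c)⁻¹ * (ι c * ι σ * (ι c)⁻¹ * t ^ n) * ι c
        = ι σ * ((ι c)⁻¹ * (t ^ n * ι c)) := by group
      _ = ι σ * t ^ n := by rw [← hct.eq, inv_mul_cancel_left]
  rcases Six.tt_class x l with e | e | ⟨i, e⟩ | ⟨c, e⟩ | ⟨c, e⟩
  · exact absurd hσ e
  · rcases hι.pow_cases h.sq n with e' | e' <;> rw [e, e', map_one, one_mul] at hc ⊢
    · exact absurd (isConj_one_left.1 hc) h.t_ne_one
    · exact ⟨3, fr_last.symm⟩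
  · rcases hι.pow_cases h.sq n with e' | e'
    · exact ⟨i.castSucc, by rw [e, e', mul_one, fr_castSucc]⟩
    · exfalso
      obtain ⟨σ, hσi⟩ := Six.lift_table.1 i
      have := hconj (c := σ) (σ := Equiv.swap 0 1) (e.trans hσi.symm)
      rw [e', hι.a] at this
      exact n5 this
  · exfalso
    have := hconj e
    rw [hd3] at this
    rcases hι.pow_cases h.sq n with e' | e' <;> rw [e'] at this
    · rw [mul_one] at this; exact n3 this
    · exact n7 this
  · exfalso
    have := hconj e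
    rcases hι.pow_cases h.sq n with e' | e' <;> rw [e'] at this
    · rw [mul_one] at this
      rcases hι.s with s | s <;> rw [s] at this
      · exact n1 this
      · exact n1' this
    · rcases hι.s with s | s <;> rw [s] at this
      · rw [h.comm] at this; exact n1' this
      · rw [mul_assoc, h.comm, ← mul_assoc, h.sq, one_mul] at this; exact n1 this

theorem Iota.A_le_T (hι : H.Iota t ι) (ht : t * t = 1) : hι.A ht ≤ hι.T ht := by
  rintro _ ⟨x, n, rfl⟩
  exact ⟨x, 0, n, by rw [Six.tt_table.2.2.2.2.2]⟩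

theorem Iota.fr_mem_A (hι : H.Iota t ι) (ht : t * t = 1) (i : Fin 4) : fr ι t i ∈ hι.A ht := by
  induction i using Fin.lastCases with
  | last => exact ⟨0, 1, by rw [Six.trip_table.2.2.2.2.1, map_one, one_mul, pow_one]; rfl⟩
  | cast i =>
    obtain ⟨x, hx⟩ := Six.trip_table.2.2.2.2.2.1 i
    exact ⟨x, 0, by rw [fr_castSucc, pow_zero, mul_one, hx]⟩

theorem Iota.fr_class (hι : H.Iota t ι) (_h : H.Full t) (i : Fin 4) : IsConj t (fr ι t i) := by
  induction i using Fin.lastCases with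
  | last => exact IsConj.refl t
  | cast i =>
    obtain ⟨σ, hσ⟩ := Six.lift_table.1 i
    have h0 : IsConj t (H.ti t 0) := isConj_iff.2 ⟨H.S (bc 0), rfl⟩
    refine h0.trans (isConj_iff.2 ⟨ι σ, ?_⟩)
    rw [fr_castSucc, ← hσ, map_mul, map_mul, map_inv, hι.a]

/-- The abelian subgroup is generated by the four involutions. -/
theorem Iota.A_gen (hι : H.Iota t ι) (ht : t * t = 1) : hι.A ht ≤ Subgroup.closure (Set.range (fr ι t)) := by
  rintro _ ⟨x, n, rfl⟩
  refine mul_mem ?_ (pow_mem (Subgroup.subset_closure (k := Set.range (fr ι t)) ⟨3, fr_last⟩) n)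
  have hmem : ∀ i : Fin 3, ι (Six.tri i) ∈ Subgroup.closure (Set.range (fr ι t)) := fun i =>
    Subgroup.subset_closure ⟨i.castSucc, fr_castSucc i⟩
  have e : Six.trip x = Six.tri 0 ^ (x.1 % 2) * Six.tri 1 ^ (x.1 / 2 % 2) * Six.tri 2 ^ (x.1 / 4) :=
    rfl
  rw [e, map_mul, map_mul, map_pow, map_pow, map_pow]
  exact mul_mem (mul_mem (pow_mem (hmem 0) _) (pow_mem (hmem 1) _)) (pow_mem (hmem 2) _)

/-- An element centralizing the four involutions lies in the abelian subgroup. -/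
theorem Iota.centralizing (hι : H.Iota t ι) (ht : t * t = 1) {y : G}
    (hy : ∀ i, y * fr ι t i * y⁻¹ = fr ι t i) : y ∈ hι.A ht :=
  hι.cent y (mul_inv_eq_iff_eq_mul.1 (hy 3))
    fun i => fr_castSucc (ι := ι) (t := t) i ▸ mul_inv_eq_iff_eq_mul.1 (hy i.castSucc)

theorem Iota.A_comm (hι : H.Iota t ι) (ht : t * t = 1) {a b : G} (ha : a ∈ hι.A ht)
    (hb : b ∈ hι.A ht) : a * b = b * a := by
  have hsq : ∀ {c : G}, c ∈ hι.A ht → c * c = 1 := by
    rintro _ ⟨x, n, rfl⟩
    rw [((show Commute (ι (Six.trip x)) t from hι.comm _).pow_right n).symm.mul_mul_mul_comm,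
      ← map_mul, Six.trip_table.2.2.2.1, map_one, one_mul, ← pow_add, ← two_mul, pow_mul, pow_two,
      ht, one_pow]
  calc a * b = (a * b)⁻¹ := (inv_eq_of_mul_eq_one_right (hsq (mul_mem ha hb))).symm
    _ = b * a := by
      rw [mul_inv_rev, inv_eq_of_mul_eq_one_right (hsq ha), inv_eq_of_mul_eq_one_right (hsq hb)]

theorem Iota.isPGroup_T (hι : H.Iota t ι) (ht : t * t = 1) : IsPGroup 2 (hι.T ht) := by
  rintro ⟨_, x, l, n, rfl⟩
  refine ⟨2, Subtype.ext ?_⟩
  show (ι (Six.tt x l) * t ^ n) ^ (2 ^ 2) = 1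
  rw [((show Commute (ι (Six.tt x l)) t from hι.comm _).pow_right n).mul_pow, ← map_pow,
    show (2 : ℕ) ^ 2 = 4 from rfl, Six.tt_table.2.2.2.2.1, map_one, one_mul, ← pow_mul,
    show n * 4 = 2 * (2 * n) by ring, pow_mul, pow_two, ht, one_pow]

/-- Conjugation permutes the four involutions. -/
theorem Iota.exists_perm (hι : H.Iota t ι) {n : G}
    (hn : ∀ i, ∃ j, n * fr ι t i * n⁻¹ = fr ι t j) :
    ∃ π : Equiv.Perm (Fin 4), ∀ i, n * fr ι t i * n⁻¹ = fr ι t (π i) := by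
  choose p hp using hn
  have hinj : Function.Injective p := fun i j e =>
    hι.fr_inj (mul_left_cancel (mul_right_cancel ((hp i).trans (e ▸ (hp j).symm))))
  exact ⟨Equiv.ofBijective p (Finite.injective_iff_bijective.1 hinj), hp⟩

/-- Normalizing the abelian subgroup. -/
theorem Iota.permutes (hι : H.Iota t ι) (h : H.Full t)
    {S : Subgroup G} {n : G} (hS : hι.A h.sq ≤ S) (hn : n ∈ normalizer (S : Set G))
    (hcl : ∀ g ∈ S, IsConj t g → ∃ i, g = fr ι t i) :
    n ∈ normalizer (hι.A h.sq : Set G) ∧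
      ∃ π : Equiv.Perm (Fin 4), ∀ i, n * fr ι t i * n⁻¹ = fr ι t (π i) := by
  have hex : ∀ i, ∃ j, n * fr ι t i * n⁻¹ = fr ι t j := fun i =>
    hcl _ ((mem_normalizer_iff.1 hn _).1 (hS (hι.fr_mem_A h.sq i)))
      ((hι.fr_class h i).trans (isConj_iff.2 ⟨n, rfl⟩))
  refine ⟨mem_normalizer_of_conj_le fun x hx => ?_, hι.exists_perm hex⟩
  have hle : Subgroup.closure (Set.range (fr ι t)) ≤ (hι.A h.sq).comap (MulAut.conj n).toMonoidHom := by
    rw [closure_le]
    rintro _ ⟨i, rfl⟩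
    obtain ⟨j, hj⟩ := hex i
    show n * fr ι t i * n⁻¹ ∈ hι.A h.sq
    rw [hj]
    exact hι.fr_mem_A h.sq j
  exact hle (hι.A_gen h.sq hx)

/-- An element normalizing the abelian subgroup permutes the four involutions. -/
theorem Iota.normalizing (hι : H.Iota t ι) (h : H.Full t) {χ : H.C [9] →* ℤˣ}
    (hχ : H.OddChar t χ) {n : G} (hn : n ∈ normalizer (hι.A h.sq : Set G)) :
    ∃ π : Equiv.Perm (Fin 4), ∀ i, n * fr ι t i * n⁻¹ = fr ι t (π i) :=
  (hι.permutes h le_rfl hn fun _ hg hc => hι.class_T h hχ (hι.A_le_T h.sq hg) hc).2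

theorem Iota.perm_unique (hι : H.Iota t ι) {n : G} {π π' : Equiv.Perm (Fin 4)}
    (h1 : ∀ i, n * fr ι t i * n⁻¹ = fr ι t (π i))
    (h2 : ∀ i, n * fr ι t i * n⁻¹ = fr ι t (π' i)) : π = π' :=
  Equiv.ext fun i => hι.fr_inj ((h1 i).symm.trans (h2 i))

theorem Iota.rr_perm (hι : H.Iota t ι) (i : Fin 4) :
    ι Six.rr * fr ι t i * (ι Six.rr)⁻¹ = fr ι t (Equiv.swap 0 1 i) := by
  induction i using Fin.lastCases with
  | last =>
    show ι Six.rr * t * (ι Six.rr)⁻¹ = t
    rw [hι.comm, mul_inv_cancel_right]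
  | cast i =>
    rw [fr_castSucc, ← map_inv, ← map_mul, ← map_mul, Six.four_table.2.2 i]
    fin_cases i <;> rfl

/-- The stabilizer of the sign change in the normalizer of the abelian subgroup. -/
theorem Iota.stab_t (hι : H.Iota t ι) (h : H.Full t) {χ : H.C [9] →* ℤˣ} (hχ : H.OddChar t χ)
    {n : G} (hn : n ∈ normalizer (hι.A h.sq : Set G)) (hnt : n * t = t * n) :
    ∃ σ, ∃ k : ℕ, n = ι σ * t ^ k := by
  obtain ⟨π, hπ⟩ := hι.normalizing h hχ hn
  have hπ3 : π 3 = 3 := hι.fr_inj (by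
    rw [← hπ, fr_last, hnt, mul_inv_cancel_right])
  obtain ⟨σ, hσ⟩ := Six.four_table.1 π hπ3
  have hy : (ι σ)⁻¹ * n ∈ hι.A h.sq := by
    refine hι.centralizing h.sq fun i => ?_
    induction i using Fin.lastCases with
    | last =>
      show (ι σ)⁻¹ * n * t * ((ι σ)⁻¹ * n)⁻¹ = t
      have hc : Commute ((ι σ)⁻¹ * n) t :=
        (show Commute (ι σ) t from hι.comm _).inv_left.mul_left hnt
      rw [hc.eq, mul_inv_cancel_right]
    | cast i =>
      have hne : π i.castSucc ≠ 3 := fun e => by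
        rw [← hπ3] at e
        exact absurd (π.injective e) (Fin.castSucc_lt_last i).ne
      obtain ⟨j, hj⟩ : ∃ j : Fin 3, π i.castSucc = j.castSucc :=
        ⟨(π i.castSucc).castPred hne, (Fin.castSucc_castPred _ hne).symm⟩
      have e1 := hπ i.castSucc
      rw [hj, fr_castSucc, fr_castSucc, ← hσ i j hj, map_mul, map_mul, map_inv] at e1
      rw [fr_castSucc]
      calc (ι σ)⁻¹ * n * ι (Six.tri i) * ((ι σ)⁻¹ * n)⁻¹
          = (ι σ)⁻¹ * (n * ι (Six.tri i) * n⁻¹) * ι σ := by group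
        _ = _ := by rw [e1]; group
  obtain ⟨x, k, hx⟩ := hy
  refine ⟨σ * Six.trip x, k, ?_⟩
  rw [map_mul, mul_assoc, ← hx, mul_inv_cancel_left]

/-- The two-group is its own normalizer in the centralizer of the sign change. -/
theorem Iota.T_self (hι : H.Iota t ι) (h : H.Full t) {χ : H.C [9] →* ℤˣ} (hχ : H.OddChar t χ)
    {n : G} (hn : n ∈ normalizer (hι.T h.sq : Set G)) (hnt : n * t = t * n) :
    n ∈ hι.T h.sq := by
  obtain ⟨-, π, hπ⟩ := hι.permutes h (hι.A_le_T h.sq) hn fun _ hg hc => hι.class_T h hχ hg hc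
  have hπ3 : π 3 = 3 := hι.fr_inj (by rw [← hπ, fr_last, hnt, mul_inv_cancel_right])
  have hrT : ι Six.rr ∈ hι.T h.sq :=
    ⟨0, 1, 0, by rw [Six.tt_table.2.2.2.1, pow_zero, mul_one]⟩
  obtain ⟨x, l, k, hxl⟩ := (mem_normalizer_iff.1 hn _).1 hrT
  have hA : ι (Six.trip x) * t ^ k ∈ hι.A h.sq := ⟨x, k, rfl⟩
  have hsplit : n * ι Six.rr * n⁻¹ = ι (Six.trip x) * t ^ k * ι Six.rr ^ (l : ℕ) := by
    rw [hxl, Six.tt, map_mul, map_pow, mul_assoc, mul_assoc,
      (((show Commute (ι Six.rr) t from hι.comm _).pow_left (l : ℕ)).pow_right k).eq]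
  have hrl : ∀ i, ι Six.rr ^ (l : ℕ) * fr ι t i * (ι Six.rr ^ (l : ℕ))⁻¹ =
      fr ι t ((Equiv.swap 0 1 ^ (l : ℕ) : Equiv.Perm (Fin 4)) i) := by
    intro i
    rcases (show (l : ℕ) = 0 ∨ (l : ℕ) = 1 by omega) with e | e <;> rw [e]
    · simp
    · rw [pow_one, pow_one]; exact hι.rr_perm i
  have hfix : ∀ (a : G) (i : Fin 4), a ∈ hι.A h.sq → a * fr ι t i * a⁻¹ = fr ι t i :=
    fun a i ha => by rw [hι.A_comm h.sq ha (hι.fr_mem_A h.sq i), mul_inv_cancel_right]
  have hperm : π * Equiv.swap 0 1 = (Equiv.swap 0 1 ^ (l : ℕ) : Equiv.Perm (Fin 4)) * π := by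
    refine Equiv.ext fun i => hι.fr_inj ?_
    simp only [Equiv.Perm.mul_apply]
    calc fr ι t (π (Equiv.swap 0 1 i)) = n * fr ι t (Equiv.swap 0 1 i) * n⁻¹ := (hπ _).symm
      _ = n * (ι Six.rr * fr ι t i * (ι Six.rr)⁻¹) * n⁻¹ := by rw [hι.rr_perm]
      _ = (n * ι Six.rr * n⁻¹) * (n * fr ι t i * n⁻¹) * (n * ι Six.rr * n⁻¹)⁻¹ := by group
      _ = ι (Six.trip x) * t ^ k * (ι Six.rr ^ (l : ℕ) * fr ι t (π i) * (ι Six.rr ^ (l : ℕ))⁻¹) *
          (ι (Six.trip x) * t ^ k)⁻¹ := by rw [hπ, hsplit]; group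
      _ = _ := by rw [hrl, hfix _ _ hA]
  have hl : (l : ℕ) = 1 := by
    rcases (show (l : ℕ) = 0 ∨ (l : ℕ) = 1 by omega) with e | e
    · exfalso
      rw [e, pow_zero, one_mul] at hperm
      exact absurd (mul_left_cancel (hperm.trans (mul_one π).symm))
        (show (Equiv.swap 0 1 : Equiv.Perm (Fin 4)) ≠ 1 by decide)
    · exact e
  rw [hl, pow_one] at hperm
  rcases Six.four_table.2.1 π hπ3 hperm with e | e
  · exact hι.A_le_T h.sq (hι.centralizing h.sq fun i => by rw [hπ, e]; rfl)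
  · have hmem : (ι Six.rr)⁻¹ * n ∈ hι.A h.sq := hι.centralizing h.sq fun i => by
      calc (ι Six.rr)⁻¹ * n * fr ι t i * ((ι Six.rr)⁻¹ * n)⁻¹
          = (ι Six.rr)⁻¹ * (n * fr ι t i * n⁻¹) * ι Six.rr := by group
        _ = fr ι t i := by rw [hπ, e, ← hι.rr_perm]; group
    have := mul_mem hrT (hι.A_le_T h.sq hmem)
    rwa [mul_inv_cancel_left] at this

end Hyp

end CfsgLib.ThreeSymNine
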