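import Cfsg.Agent.ThreeSymNine.FullTables
import Cfsg.Agent.ThreeSymNine.Lifts

/-!
# The full monomial automizer: the normalizer
-/

set_option autoImplicit false
set_option maxRecDepth 100000
set_option linter.style.haveILetI false
set_option linter.unusedSectionVars false

namespace CfsgLib.ThreeSymNine

open CfsgLib.AltNine Subgroup

attribute [local instance 10000] List.decidableBAll List.decidableBEx

universe u

namespace Hyp

variable {G : Type u} [Group G] (H : Hyp G)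

/-- The data of the full case: a lift of the sign change of the last coordinate. -/
structure Full (H : Hyp G) (t : G) : Prop where
  signs : H.Signs allSigns
  ind : H.Induces t (dmat 4)
  sq : t * t = 1
  comm : H.S 1 * t = t * H.S 1

theorem exists_Full (hs : H.Signs allSigns) : ∃ t, H.Full t := by
  obtain ⟨-, -, -, -, -, -, -, h2, h12, h12'⟩ := pd_table
  have hW : H.W (dmat 4) := mono_tables.2.2.1 4 ▸ hs.mem (by decide) 0
  obtain ⟨t, it, t2, ht⟩ := Hyp.W.exists_commuting (H.induces_S 1)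
    (by rw [H.S_mul, show pm 1 1 = 0 by decide +kernel, H.S_zero]) hW h2 h12 h12'
  exact ⟨t, hs, it, t2, ht⟩

/-- The lifts of the sign changes of single coordinates. -/
def ti (t : G) (i : Fin 3) : G := H.S (bc i) * t * (H.S (bc i))⁻¹

/-- The lifts of the sign vectors. -/
def dd (t : G) (d : Fin 8) : G := H.ti t 0 ^ db d 0 * H.ti t 1 ^ db d 1 * H.ti t 2 ^ db d 2

variable {H} {t : G}

theorem ti_two : H.ti t 2 = t := by
  show H.S (bc 2) * t * (H.S (bc 2))⁻¹ = t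
  rw [show bc 2 = 0 from rfl, H.S_zero, inv_one, one_mul, mul_one]

theorem Full.ti_ind (h : H.Full t) (i : Fin 3) : H.Induces (H.ti t i) (dmat (du i)) := by
  rw [← pd_table.2.2.2.2.1 i]
  show H.Induces (H.S (bc i) * t * (H.S (bc i))⁻¹) _
  rw [H.S_inv]
  exact ((H.induces_S _).mul h.ind).mul (H.induces_S _)

theorem Full.ti_sq (h : H.Full t) (i : Fin 3) : H.ti t i * H.ti t i = 1 := by
  show H.S (bc i) * t * (H.S (bc i))⁻¹ * (H.S (bc i) * t * (H.S (bc i))⁻¹) = 1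
  rw [show H.S (bc i) * t * (H.S (bc i))⁻¹ * (H.S (bc i) * t * (H.S (bc i))⁻¹) =
    H.S (bc i) * (t * t) * (H.S (bc i))⁻¹ by group, h.sq, mul_one, mul_inv_cancel]

theorem Full.ti_conj (h : H.Full t) (a : Fin 6) (i : Fin 3) :
    H.S a * H.ti t i * (H.S a)⁻¹ = H.ti t (img a i) := by
  have hk := pd_table.2.2.1 a i (pm a (bc i)) (pd_table.2.2.2.1 a i)
  set k := pm (pinv (bc (img a i))) (pm a (bc i)) with hkdef
  have hk' : H.S a * H.S (bc i) = H.S (bc (img a i)) * H.S k := by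
    rw [H.S_mul, H.S_mul, hkdef,
      (show ∀ c x : Fin 6, pm c (pm (pinv c) x) = x by decide +kernel)]
  have hkt : H.S k * t * (H.S k)⁻¹ = t := by
    rcases List.mem_cons.1 hk with e | e
    · rw [e, H.S_zero, inv_one, one_mul, mul_one]
    · rw [List.mem_singleton.1 e, h.comm, mul_inv_cancel_right]
  show H.S a * (H.S (bc i) * t * (H.S (bc i))⁻¹) * (H.S a)⁻¹ =
    H.S (bc (img a i)) * t * (H.S (bc (img a i)))⁻¹
  rw [show H.S a * (H.S (bc i) * t * (H.S (bc i))⁻¹) * (H.S a)⁻¹ =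
    (H.S a * H.S (bc i)) * t * (H.S a * H.S (bc i))⁻¹ by group, hk',
    show H.S (bc (img a i)) * H.S k * t * (H.S (bc (img a i)) * H.S k)⁻¹ =
      H.S (bc (img a i)) * (H.S k * t * (H.S k)⁻¹) * (H.S (bc (img a i)))⁻¹ by group, hkt]

theorem Full.ti_comm (h : H.Full t) (i j : Fin 3) : Commute (H.ti t i) (H.ti t j) := by
  by_cases hij : i = j
  · subst hij; exact Commute.refl _
  set a := H.ti t i
  set b := H.ti t j
  have ha : a⁻¹ = a := inv_eq_of_mul_eq_one_right (h.ti_sq i)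
  have hb : b⁻¹ = b := inv_eq_of_mul_eq_one_right (h.ti_sq j)
  obtain ⟨w, hw⟩ : a * b * (a * b) ∈ H.J := H.mem_J_of_induces_one (by
    have h2 := ((h.ti_ind i).mul (h.ti_ind j)).mul ((h.ti_ind i).mul (h.ti_ind j))
    rw [dx_table.1, dx_table.1, (dx_table.2.2.2.2 _).1] at h2
    exact (show dmat 0 = pmat 0 by decide +kernel) ▸ h2)
  have e1 : a * H.emb w * a⁻¹ = (H.emb w)⁻¹ := by
    rw [hw]
    calc a * (a * b * (a * b)) * a⁻¹ = (a * a) * b * a * b * a⁻¹ := by group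
      _ = b * a * b * a := by rw [h.ti_sq i, one_mul, ha]
      _ = _ := by rw [mul_inv_rev, mul_inv_rev, ha, hb]; group
  have e2 : b * H.emb w * b⁻¹ = (H.emb w)⁻¹ := by
    rw [hw]
    calc b * (a * b * (a * b)) * b⁻¹ = b * a * b * a := by group
      _ = _ := by rw [mul_inv_rev, mul_inv_rev, ha, hb]; group
  rw [h.ti_ind i w, ← H.emb_nv] at e1
  rw [h.ti_ind j w, ← H.emb_nv] at e2
  have hw0 := pd_table.2.2.2.2.2.1 i j hij w (H.emb_inj e1) (H.emb_inj e2)
  rw [hw0, H.emb_zero] at hw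
  show a * b = b * a
  calc a * b = (a * b)⁻¹ := (inv_eq_of_mul_eq_one_right hw.symm).symm
    _ = b * a := by rw [mul_inv_rev, ha, hb]

theorem Full.ti_pow (h : H.Full t) (i : Fin 3) (n : ℕ) : H.ti t i ^ n = H.ti t i ^ (n % 2) := by
  conv_lhs => rw [← Nat.mod_add_div n 2, pow_add, pow_mul, pow_two, h.ti_sq, one_pow, mul_one]

theorem Full.dd_mul (h : H.Full t) (d e : Fin 8) : H.dd t d * H.dd t e = H.dd t (dx d e) := by
  simp only [dd, dx_table.2.2.2.1, ← h.ti_pow, pow_add]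
  have c01 := fun m n => ((h.ti_comm 1 0).pow_pow m n).eq
  have c02 := fun m n => ((h.ti_comm 2 0).pow_pow m n).eq
  have c12 := fun m n => ((h.ti_comm 2 1).pow_pow m n).eq
  calc H.ti t 0 ^ db d 0 * H.ti t 1 ^ db d 1 * H.ti t 2 ^ db d 2 *
        (H.ti t 0 ^ db e 0 * H.ti t 1 ^ db e 1 * H.ti t 2 ^ db e 2)
      = H.ti t 0 ^ db d 0 * (H.ti t 1 ^ db d 1 * (H.ti t 2 ^ db d 2 * H.ti t 0 ^ db e 0)) *
          H.ti t 1 ^ db e 1 * H.ti t 2 ^ db e 2 := by group
    _ = H.ti t 0 ^ db d 0 * (H.ti t 1 ^ db d 1 * H.ti t 0 ^ db e 0) *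
          (H.ti t 2 ^ db d 2 * H.ti t 1 ^ db e 1) * H.ti t 2 ^ db e 2 := by rw [c02]; group
    _ = _ := by rw [c01, c12]; group

theorem Full.dd_ind (h : H.Full t) (d : Fin 8) : H.Induces (H.dd t d) (dmat d) := by
  have key : ∀ i : Fin 3, ∀ n, n ≤ 1 →
      H.Induces (H.ti t i ^ n) (dmat (if n = 0 then 0 else du i)) := by
    intro i n hn
    rcases (show n = 0 ∨ n = 1 by omega) with rfl | rfl
    · rw [pow_zero, if_pos rfl, show dmat 0 = pmat 0 by decide +kernel]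
      exact H.induces_J (one_mem _)
    · rw [pow_one, if_neg one_ne_zero]; exact h.ti_ind i
  have hle : ∀ i, db d i ≤ 1 := fun i => Nat.le_of_lt_succ (Nat.mod_lt _ (by decide))
  have := ((key 0 _ (hle 0)).mul (key 1 _ (hle 1))).mul (key 2 _ (hle 2))
  rw [dx_table.1, dx_table.1,
    (show ∀ d : Fin 8, dx (dx (if db d 0 = 0 then 0 else du 0) (if db d 1 = 0 then 0 else du 1))
      (if db d 2 = 0 then 0 else du 2) = d by decide +kernel)] at this
  exact this

theorem dd_zero : H.dd t 0 = 1 := by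
  simp only [dd, (show ∀ i : Fin 3, db 0 i = 0 by decide +kernel), pow_zero, one_mul]

theorem dd_unit (i : Fin 3) : H.dd t (du i) = H.ti t i := by
  have : ∀ i j : Fin 3, db (du i) j = if i = j then 1 else 0 := by decide +kernel
  simp only [dd, this]
  fin_cases i <;> simp

theorem Full.dd_inj (h : H.Full t) {d e : Fin 8} (he : H.dd t d = H.dd t e) : d = e :=
  dx_table.2.1 d e ((h.dd_ind d).unique (he ▸ h.dd_ind e))

theorem Full.dd_conj (h : H.Full t) (a : Fin 6) (d : Fin 8) :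
    H.S a * H.dd t d * (H.S a)⁻¹ = H.dd t (pd a d) := by
  have hti : ∀ i n, n ≤ 1 → ∃ f, H.ti t i ^ n = H.dd t f := fun i n hn => by
    rcases (show n = 0 ∨ n = 1 by omega) with rfl | rfl
    · exact ⟨0, by rw [pow_zero, dd_zero]⟩
    · exact ⟨du i, by rw [pow_one, dd_unit]⟩
  have hle : ∀ i, db d i ≤ 1 := fun i => Nat.le_of_lt_succ (Nat.mod_lt _ (by decide))
  obtain ⟨f0, e0⟩ := hti (img a 0) _ (hle 0)
  obtain ⟨f1, e1⟩ := hti (img a 1) _ (hle 1)
  obtain ⟨f2, e2⟩ := hti (img a 2) _ (hle 2)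
  have hlhs : H.S a * H.dd t d * (H.S a)⁻¹ = H.dd t (dx (dx f0 f1) f2) := by
    rw [← h.dd_mul, ← h.dd_mul, ← e0, ← e1, ← e2, ← h.ti_conj, ← h.ti_conj, ← h.ti_conj]
    simp only [conj_pow, dd]
    group
  rw [hlhs]
  congr 1
  refine dx_table.2.1 _ _ (Induces.unique (h.dd_ind _) ?_)
  rw [← hlhs, ← pd_table.1, H.S_inv]
  exact ((H.induces_S a).mul (h.dd_ind d)).mul (H.induces_S _)

/-- An element of the normalizer. -/
def el (H : Hyp G) (t : G) (v : Fin 27) (d : Fin 8) (a : Fin 6) : G := H.emb v * H.dd t d * H.S a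

theorem Full.el_mul (h : H.Full t) (v w : Fin 27) (d e : Fin 8) (a b : Fin 6) :
    H.el t v d a * H.el t w e b =
      H.el t (av v (app (dmat d) (pa a w))) (dx d (pd a e)) (pm a b) := by
  simp only [el, H.emb_add, ← h.dd_mul, ← H.S_mul, ← h.dd_ind d (pa a w), ← H.S_act,
    ← h.dd_conj a e]
  group

theorem Full.el_ind (h : H.Full t) (v : Fin 27) (d : Fin 8) (a : Fin 6) :
    H.Induces (H.el t v d a) (mono d a) := by
  have hz : ∀ d a, mm (pmat 0) (mono d a) = mono d a := fun _ _ => (mm_one _).1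
  show H.Induces (H.emb v * H.dd t d * H.S a) _
  rw [← hz, ← mono_tables.2.1, mul_assoc]
  exact (H.induces_J (H.emb_mem v)).mul ((h.dd_ind d).mul (H.induces_S a))

theorem Full.el_inj (h : H.Full t) {v w : Fin 27} {d e : Fin 8} {a b : Fin 6}
    (he : H.el t v d a = H.el t w e b) : v = w ∧ d = e ∧ a = b := by
  obtain ⟨hd, ha⟩ := pd_table.2.1 d e a b ((h.el_ind v d a).unique (he ▸ h.el_ind w e b))
  subst hd ha
  exact ⟨H.emb_inj (mul_right_cancel (mul_right_cancel he)), rfl, rfl⟩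

variable [Finite G]

theorem Full.el_mem (h : H.Full t) (v : Fin 27) (d : Fin 8) (a : Fin 6) : H.el t v d a ∈ H.N :=
  (h.el_ind v d a).mem_N

theorem Full.exists_el (h : H.Full t) {n : G} (hn : n ∈ H.N) {d : Fin 8} {a : Fin 6}
    (hM : H.Induces n (mono d a)) : ∃ v, n = H.el t v d a := by
  obtain ⟨w, hw⟩ : (H.el t 0 d a)⁻¹ * n ∈ H.J := hM.mul_inv_mem (h.el_ind 0 d a)
  refine ⟨app (mono d a) w, ?_⟩
  have hI := h.el_ind 0 d a w
  rw [hw] at hI
  simp only [el, H.emb_zero, one_mul] at hI ⊢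
  rw [← hI]
  group

theorem Full.mem_N_iff (h : H.Full t) {n : G} : n ∈ H.N ↔ ∃ v d a, n = H.el t v d a := by
  refine ⟨fun hn => ?_, ?_⟩
  · obtain ⟨M, hM⟩ := H.exists_induces_of_mem hn
    obtain ⟨d, -, a, rfl⟩ := (h.signs M).1 ⟨n, hM⟩
    obtain ⟨v, hv⟩ := h.exists_el hn hM
    exact ⟨v, d, a, hv⟩
  · rintro ⟨v, d, a, rfl⟩; exact h.el_mem v d a

/-- Elements of order three of the normalizer are in the core or conjugate to a block rotation. -/
theorem Full.order_three (h : H.Full t) {n : G} (hn : n ∈ H.N) (h3 : n ^ 3 = 1) :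
    n ∈ H.J ∨ ∃ k ∈ H.N, k * n * k⁻¹ = H.S 4 ∨ k * n * k⁻¹ = H.S 5 := by
  obtain ⟨v, d, a, rfl⟩ := h.mem_N_iff.1 hn
  have hM3 : mm (mono d a) (mm (mono d a) (mono d a)) = pmat 0 := by
    refine ((h.el_ind v d a).mul ((h.el_ind v d a).mul (h.el_ind v d a))).unique ?_
    rw [show H.el t v d a * (H.el t v d a * H.el t v d a) = 1 from
      (mul_assoc _ _ _).symm.trans (by rw [← pow_two, ← pow_succ]; exact h3)]
    exact H.induces_J (one_mem _)
  rcases order_three_full d a hM3 with ⟨rfl, rfl⟩ | ⟨ha, f, hf⟩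
  · left
    show H.emb v * H.dd t 0 * H.S 0 ∈ H.J
    rw [dd_zero, H.S_zero, mul_one, mul_one]
    exact H.emb_mem v
  right
  have hpinv : (H.dd t f)⁻¹ = H.dd t f := inv_eq_of_mul_eq_one_right (by
    rw [h.dd_mul, (dx_table.2.2.2.2 f).1, dd_zero])
  have he : H.dd t f * H.el t v d a * (H.dd t f)⁻¹ = H.emb (app (dmat f) v) * H.S a := by
    rw [hpinv]
    calc H.dd t f * (H.emb v * H.dd t d * H.S a) * H.dd t f
        = (H.dd t f * H.emb v * (H.dd t f)⁻¹) * (H.dd t f * H.dd t d) *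
            (H.S a * H.dd t f * (H.S a)⁻¹) * H.S a := by group
      _ = H.emb (app (dmat f) v) * (H.dd t (dx (dx f d) (pd a f))) * H.S a := by
          rw [h.dd_ind f v, h.dd_conj, h.dd_mul, mul_assoc (H.emb _), h.dd_mul]
      _ = _ := by rw [hf, dd_zero, mul_one]
  set w := app (dmat f) v
  have hw3 : (H.emb w * H.S a) ^ 3 = 1 := by rw [← he, conj_pow, h3, mul_one, mul_inv_cancel]
  rw [pow_succ', pow_two, H.mul_mk, H.mul_mk] at hw3
  obtain ⟨j, hj⟩ := split_three w a ha (H.indep _ _ hw3).1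
  refine ⟨(H.emb j)⁻¹ * H.dd t f,
    mul_mem (inv_mem (H.J_le_N (H.emb_mem j))) (h.dd_ind f).mem_N, ?_⟩
  have hjS : H.emb j * H.S a * (H.emb j)⁻¹ = H.emb w * H.S a := by
    rw [mul_assoc, ← H.emb_nv, H.S_emb, ← mul_assoc, ← H.emb_add, pa_nv, hj]
  have e : (H.emb j)⁻¹ * H.dd t f * H.el t v d a * ((H.emb j)⁻¹ * H.dd t f)⁻¹ = H.S a := by
    rw [show (H.emb j)⁻¹ * H.dd t f * H.el t v d a * ((H.emb j)⁻¹ * H.dd t f)⁻¹ =
      (H.emb j)⁻¹ * (H.dd t f * H.el t v d a * (H.dd t f)⁻¹) * H.emb j by group, he, ← hjS]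
    group
  rcases ha with rfl | rfl
  · exact Or.inl e
  · exact Or.inr e

end Hyp

end CfsgLib.ThreeSymNine
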