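import Cfsg.Agent.ThreeSymNine.Classes

/-!
# Finite checks for the full monomial automizer
-/

set_option autoImplicit false
set_option maxRecDepth 100000
set_option synthInstance.maxSize 100000

namespace CfsgLib.ThreeSymNine

open CfsgLib.AltNine

attribute [local instance 10000] List.decidableBAll List.decidableBEx

/-- The allowed signs in the full case. -/
def allSigns : List (Fin 8) := [0, 1, 2, 3, 4, 5, 6, 7]

/-- Product of sign vectors. -/
def dx (d e : Fin 8) : Fin 8 := ⟨Nat.xor d.1 e.1 % 8, Nat.mod_lt _ (by decide)⟩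

/-- A unit sign vector. -/
def du (i : Fin 3) : Fin 8 := ⟨2 ^ i.1 % 8, Nat.mod_lt _ (by decide)⟩

/-- A coordinate of a sign vector. -/
def db (d : Fin 8) (i : Fin 3) : ℕ := d.1 / 2 ^ i.1 % 2

/-- The action of block permutations on sign vectors. -/
def pd (a : Fin 6) (d : Fin 8) : Fin 8 :=
  ⟨(db d 0 * 2 ^ (img a 0).1 + db d 1 * 2 ^ (img a 1).1 + db d 2 * 2 ^ (img a 2).1) % 8,
    Nat.mod_lt _ (by decide)⟩

/-- The block transposition carrying the last block to a given one. -/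
def bc (i : Fin 3) : Fin 6 := if i = 0 then 3 else if i = 1 then 2 else 0

/-- The basis vector of a block. -/
def bv (i : Fin 3) : Fin 27 := if i = 0 then 1 else if i = 1 then 3 else 9

theorem dx_table : (∀ d e : Fin 8, mm (dmat d) (dmat e) = dmat (dx d e)) ∧
    (∀ d e : Fin 8, dmat d = dmat e → d = e) ∧
    (∀ d : Fin 8, ∀ i : Fin 3, db (dx d (du i)) i = (db d i + 1) % 2) ∧
    (∀ d e : Fin 8, ∀ i : Fin 3, db (dx d e) i = (db d i + db e i) % 2) ∧
    (∀ d : Fin 8, dx d d = 0 ∧ dx 0 d = d ∧ dx d 0 = d) := by decide +kernel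

theorem pd_table : (∀ a d, mm (mm (pmat a) (dmat d)) (pmat (pinv a)) = dmat (pd a d)) ∧
    (∀ d e a b, mono d a = mono e b → d = e ∧ a = b) ∧
    (∀ a i, ∀ c : Fin 6, img c 2 = img a i → pm (pinv (bc (img a i))) c ∈ ([0, 1] : List (Fin 6))) ∧
    (∀ a i, img (pm a (bc i)) 2 = img a i) ∧
    (∀ i, mm (mm (pmat (bc i)) (dmat 4)) (pmat (pinv (bc i))) = dmat (du i)) ∧
    (∀ i j, i ≠ j → ∀ v, app (dmat (du i)) v = nv v → app (dmat (du j)) v = nv v → v = 0) ∧
    (∀ i, dmat (du i) ≠ pmat 0) ∧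
    mm (dmat 4) (dmat 4) = pmat 0 ∧
    mm (mm (pmat 1) (dmat 4)) (mm (pmat 1) (dmat 4)) = pmat 0 ∧
    mm (mm (mm (mm (dmat 4) (pmat 1)) (dmat 4)) (pmat 1)) (dmat 4) = dmat 4 := by decide +kernel

theorem order_three_full : ∀ d a, mm (mono d a) (mm (mono d a) (mono d a)) = pmat 0 →
    (a = 0 ∧ d = 0) ∨ ((a = 4 ∨ a = 5) ∧ ∃ f, dx (dx f d) (pd a f) = 0) := by decide +kernel

theorem split_three : ∀ w : Fin 27, ∀ a : Fin 6, (a = 4 ∨ a = 5) →
    av w (pa a (av w (pa a w))) = 0 → ∃ j, av j (nv (pa a j)) = w := by decide +kernel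

end CfsgLib.ThreeSymNine
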