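import Cfsg.Agent.ThreeSymNine.LocalFull

/-!
# The full monomial automizer: the three-parts of involution centralizers and fusion of involutions
-/

set_option autoImplicit false
set_option maxRecDepth 100000
set_option synthInstance.maxSize 100000
set_option linter.style.haveILetI false
set_option linter.unusedSectionVars false

namespace CfsgLib.ThreeSymNine

open CfsgLib.AltNine Subgroup

attribute [local instance 10000] List.decidableBAll List.decidableBEx

universe u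

/-- The vectors of weight one. -/
def ones : List (Fin 27) := [1, 2, 3, 6, 9, 18]

theorem fusion_tables : (∀ d : Fin 8, ∀ a : Fin 6, app (mono d a) 9 ∈ ones) ∧
    (∀ d : Fin 8, ∀ a : Fin 6, app (mono d a) 3 ∈ ones) ∧
    (∀ p ∈ ones, app (dmat 1) p = p → p = 3 ∨ p = 6 ∨ p = 9 ∨ p = 18) ∧
    (∀ p ∈ ones, app (pmat 1) p = p → p = 9 ∨ p = 18) ∧
    (∀ d : Fin 8, ∀ a : Fin 6, app (dmat 1) (app (mono d a) 13) ≠ app (mono d a) 13) ∧
    app (dmat 1) 9 = 9 ∧ app (dmat 1) 3 = 3 ∧ app (pmat 1) 9 = 9 ∧ app (dmat 3) 9 = 9 ∧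
    app (mono 4 1) 4 = 4 ∧
    (Finset.univ.filter fun v => app (dmat 1) v = v).card = 9 ∧
    (Finset.univ.filter fun v => app (pmat 1) v = v).card = 9 ∧
    nv 9 = 18 ∧ nv 3 = 6 ∧ nv (6 : Fin 27) = 3 ∧ nv (18 : Fin 27) = 9 := by decide +kernel

/-- The matrices of the reflections fixing the last basis vector. -/
def refls : List Mat := [mono 1 0, mono 2 0, mono 0 1, mono 3 1]

theorem refl_table : ∀ d ∈ allSigns, ∀ a : Fin 6, ∀ w : Fin 27, w ≠ 0 → w ≠ 9 → w ≠ 18 →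
    app (mono d a) 9 = 9 → app (mono d a) w = w → mono d a ≠ pmat 0 → mono d a ∈ refls := by
  decide +kernel

theorem nine_part : ∀ w : Fin 27, w = av (av (sm (dig w 0) 1) (sm (dig w 1) 3)) (sm (dig w 2) 9) ∧
    (w ≠ 0 → w ≠ 9 → w ≠ 18 → av (sm (dig w 0) 1) (sm (dig w 1) 3) ≠ 0) := by decide +kernel

theorem four_sq : ∀ M ∈ fourStab, mm M (mm M M) = pmat 0 → M = pmat 0 := by decide +kernel

theorem dmat_mono : dmat 1 = mono 1 0 ∧ dmat 3 = mono 3 0 ∧ pmat 1 = mono 0 1 := by decide +kernel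

namespace Hyp

variable {G : Type u} [Group G] [Finite G] {H : Hyp G} {t : G}

theorem Signs.C_pair_nine (hs : H.Signs allSigns) {w : Fin 27} (h0 : w ≠ 0) (h9 : w ≠ 9)
    (h18 : w ≠ 18) : H.C [9, w] ≤ H.N := by
  obtain ⟨hw, hne⟩ := nine_part w
  refine le_trans ?_ (hs.nine_loc _ _ (hne h0 h9 h18))
  intro c hc
  refine H.mem_C.2 fun v hv => ?_
  have c9 : Commute c (H.emb 9) := H.mem_C.1 hc 9 List.mem_cons_self
  rcases List.mem_cons.1 hv with rfl | hv
  · exact c9.eq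
  · rw [List.mem_singleton.1 hv]
    have cw : Commute c (H.emb w) := H.mem_C.1 hc w (List.mem_cons_of_mem _ List.mem_cons_self)
    rw [hw, H.emb_add, H.emb_sm (dig w 2) 9] at cw
    have := cw.mul_right (c9.pow_right (dig w 2).1).inv_right
    rwa [mul_inv_cancel_right] at this

/-- A block rotation fused into the core is fused with the central element. -/
theorem Full.sigma_fused (h : H.Full t) {g : G} {v : Fin 27} (e : g * H.S 4 * g⁻¹ = H.emb v) :
    ∃ M, H.W M ∧ app M 13 = v := by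
  classical
  have hS4 : H.S 4 ≠ 1 := fun e' => absurd
    (H.indep 0 4 (by rw [H.emb_zero, one_mul, e'])).2 (by decide)
  have hv0 : v ≠ 0 := fun e0 => by
    rw [e0, H.emb_zero, conj_eq_one_iff] at e; exact hS4 e
  obtain ⟨d, hd, c, r, hr, hrv⟩ := full_reps v hv0
  have hW := h.signs.mem hd c
  simp only [List.mem_cons, List.not_mem_nil, or_false] at hr
  rcases hr with rfl | hr
  · exact ⟨_, hW, hrv⟩
  exfalso
  obtain ⟨n, hn⟩ := hW
  set k := n⁻¹ * g
  have ek : k * H.S 4 * k⁻¹ = H.emb r := by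
    show n⁻¹ * g * H.S 4 * (n⁻¹ * g)⁻¹ = _
    calc n⁻¹ * g * H.S 4 * (n⁻¹ * g)⁻¹ = n⁻¹ * (g * H.S 4 * g⁻¹) * n := by group
      _ = n⁻¹ * (n * H.emb r * n⁻¹) * n := by rw [e, hn r, hrv]
      _ = _ := by group
  set y := k * H.emb 13 * k⁻¹ with hy
  have hyr : y * H.emb r = H.emb r * y := by
    rw [← ek, hy]
    have hxs : H.emb 13 * H.S 4 = H.S 4 * H.emb 13 := by rw [H.S_emb, (pa_table.2 4).1]
    calc k * H.emb 13 * k⁻¹ * (k * H.S 4 * k⁻¹) = k * (H.emb 13 * H.S 4) * k⁻¹ := by group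
      _ = k * (H.S 4 * H.emb 13) * k⁻¹ := by rw [hxs]
      _ = _ := by group
  have hy3 : y ^ 3 = 1 := by rw [hy, conj_pow, H.emb_cube, mul_one, mul_inv_cancel]
  -- conjugate it into the core fixing the vector
  obtain ⟨z, hz, hzJ⟩ : ∃ z, z * H.emb r = H.emb r * z ∧ z * y * z⁻¹ ∈ H.J := by
    rcases hr with rfl | rfl
    · refine ⟨1, by simp, ?_⟩
      rw [one_mul, inv_one, mul_one]
      have hyN : y ∈ H.N := h.signs.C_four (H.mem_C.2 fun w hw => by
        rw [List.mem_singleton.1 hw]; exact hyr)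
      obtain ⟨M, hM⟩ := H.exists_induces_of_mem hyN
      have hMs : M ∈ fourStab := h.signs.stab [4] _ four_tables.1 (hM.stab (H.mem_C.2 fun w hw => by
        rw [List.mem_singleton.1 hw]; exact hyr))
      have hM1 := four_sq M hMs ((hM.mul (hM.mul hM)).unique (by
        rw [show y * (y * y) = 1 from (mul_assoc _ _ _).symm.trans
          (by rw [← pow_two, ← pow_succ]; exact hy3)]
        exact H.induces_J (one_mem _)))
      exact H.mem_J_of_induces_one (hM1 ▸ hM)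
    · have hU : IsPGroup 3 (zpowers y) := IsPGroup.of_card (n := 1) (by
        rw [Nat.card_zpowers, pow_one]
        refine orderOf_eq_prime hy3 fun e' => ?_
        rw [hy, conj_eq_one_iff] at e'
        exact absurd (H.emb_inj (e'.trans H.emb_zero.symm)) (by decide))
      obtain ⟨c, hc, hcU⟩ := h.signs.conj_into_J hU (zpowers_le.2 (H.mem_C.2 fun w hw => by
        rw [List.mem_singleton.1 hw]; exact hyr))
      exact ⟨c, H.mem_C.1 hc 9 List.mem_cons_self, hcU y (mem_zpowers y)⟩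
  set k' := z * k
  have ek' : k' * H.S 4 * k'⁻¹ = H.emb r := by
    show z * k * H.S 4 * (z * k)⁻¹ = _
    rw [show z * k * H.S 4 * (z * k)⁻¹ = z * (k * H.S 4 * k⁻¹) * z⁻¹ by group, ek, hz,
      mul_inv_cancel_right]
  obtain ⟨w, hw⟩ : k' * H.emb 13 * k'⁻¹ ∈ H.J := by
    show z * k * H.emb 13 * (z * k)⁻¹ ∈ H.J
    rw [show z * k * H.emb 13 * (z * k)⁻¹ = z * (k * H.emb 13 * k⁻¹) * z⁻¹ by group]
    exact hzJ
  obtain ⟨M, hM, hMw⟩ := H.fusion_app hw.symm
  have hkN : k' ∈ H.N := H.mem_N_of_fusion hw.symm (hMw ▸ H.cent_le_transport hM H.cent_x_le)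
  have hSJ : H.S 4 ∈ H.J := by
    rw [show H.S 4 = k'⁻¹ * H.emb r * k'⁻¹⁻¹ by rw [← ek']; group]
    exact (mem_normalizer_iff.1 (inv_mem hkN) (H.emb r)).1 (H.emb_mem r)
  obtain ⟨q, hq⟩ := hSJ
  exact absurd (H.indep (nv q) 4 (by rw [H.emb_nv, hq, inv_mul_cancel])).2 (by decide)

/-- An involution fixing a basis vector and a subgroup of order nine: that subgroup is a Sylow
subgroup of its centralizer. -/
theorem Full.fix_sylow (h : H.Full t) {y : G} {Y : Mat} (hY : H.Induces y Y) (hy2 : y * y = 1)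
    (hy1 : y ≠ 1) (h9 : app Y 9 = 9) (hcard : (Finset.univ.filter fun v => app Y v = v).card = 9)
    (h4 : ∀ n : G, (∀ w ∈ H.Fix y, n * w * n⁻¹ ∈ H.Fix y) → n ^ 4 * H.emb 9 = H.emb 9 * n ^ 4)
    {R : Subgroup G} (hR : IsPGroup 3 R) (hRy : R ≤ centralizer {y}) :
    ∃ c, c * y = y * c ∧ ∀ w ∈ R, c * w * c⁻¹ ∈ H.Fix y := by
  classical
  haveI : Fact (Nat.Prime 3) := ⟨Nat.prime_three⟩
  set C := centralizer ({y} : Set G)
  have hle : H.Fix y ≤ C := inf_le_right
  have hp : IsPGroup 3 ((H.Fix y).subgroupOf C) :=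
    (H.isPGroup_J.to_le (inf_le_left : H.Fix y ≤ H.J)).of_equiv (subgroupOfEquivOfLe hle).symm
  obtain ⟨Q, hQ⟩ := hp.exists_le_sylow
  have heq : (Q : Subgroup C) = (H.Fix y).subgroupOf C := by
    refine le_antisymm ?_ hQ
    by_contra hne
    have hlt : ((H.Fix y).subgroupOf C).subgroupOf (Q : Subgroup C) < ⊤ :=
      lt_top_iff_ne_top.2 fun e' => hne (subgroupOf_eq_top.1 e')
    haveI := Q.2.isNilpotent
    obtain ⟨⟨n, hnQ⟩, hnn, hnF⟩ := SetLike.exists_of_lt
      (Group.normalizerCondition_of_isNilpotent _ hlt)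
    apply hnF
    show (n : G) ∈ H.Fix y
    have hnorm : ∀ w ∈ H.Fix y, (n : G) * w * (n : G)⁻¹ ∈ H.Fix y := fun w hw =>
      (mem_normalizer_iff.1 hnn ⟨⟨w, hle hw⟩, hQ hw⟩).1 hw
    obtain ⟨e, he⟩ := Q.2 ⟨n, hnQ⟩
    have he' : (n : G) ^ 3 ^ e = 1 := by
      have := congrArg (fun z : (Q : Subgroup C) => ((z : C) : G)) he
      exact this
    have hn9 : (n : G) * H.emb 9 = H.emb 9 * n := by
      have hcop : Nat.Coprime (orderOf (n : G)) 4 :=
        Nat.Coprime.coprime_dvd_left (orderOf_dvd_of_pow_eq_one he')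
          (Nat.Coprime.pow_left e (by norm_num))
      obtain ⟨m, hm⟩ := exists_pow_eq_self_of_coprime hcop.symm
      rw [← hm]
      exact (Commute.pow_left (h4 n hnorm) m).eq
    have h9F : H.emb 9 ∈ H.Fix y := (H.mem_Fix hY).2 ⟨9, h9, rfl⟩
    set U := zpowers (n : G) ⊔ H.Fix y
    have hUQ : U ≤ (Q : Subgroup C).map C.subtype :=
      sup_le (zpowers_le.2 ⟨n, hnQ, rfl⟩) fun w hw => ⟨⟨w, hle hw⟩, hQ hw, rfl⟩
    have hUp : IsPGroup 3 U := (Q.2.map C.subtype).to_le hUQ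
    have hUC : U ≤ H.C [9] := sup_le (zpowers_le.2 (H.mem_C.2 fun w hw => by
      rw [List.mem_singleton.1 hw]; exact hn9)) fun w hw =>
        H.mem_C.2 fun v hv => by rw [List.mem_singleton.1 hv]; exact H.J_comm hw.1 (H.emb_mem 9)
    obtain ⟨k, -, hkJ⟩ := h.signs.conj_into_J hUp hUC
    set U' := U.map (MulAut.conj k).toMonoidHom
    have hU'J : U' ≤ H.J := by rintro _ ⟨w, hw, rfl⟩; exact hkJ w hw
    have hcardU : Nat.card U' = Nat.card U :=
      (Nat.card_congr (U.equivMapOfInjective _ (MulAut.conj k).injective).toEquiv).symm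
    have hFcard : Nat.card (H.Fix y) = 9 := (H.card_Fix hY).trans hcard
    by_contra hnot
    have hlt' : H.Fix y < U := lt_of_le_of_ne le_sup_right fun e' =>
      hnot (e'.ge (mem_sup_left (mem_zpowers _)))
    have h27 : Nat.card U' = 27 := by
      have hd : Nat.card U' ∣ 3 ^ 3 := (card_dvd_of_le hU'J).trans (by rw [H.card_J]; norm_num)
      obtain ⟨i, hi, hie⟩ := (Nat.dvd_prime_pow Nat.prime_three).1 hd
      have h9lt : 9 < Nat.card U' := by
        rw [hcardU, ← hFcard]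
        refine lt_of_le_of_ne (Subgroup.card_le_of_le hlt'.le) fun e' =>
          hlt'.ne (Subgroup.eq_of_le_of_card_ge hlt'.le e'.ge)
      rw [hie] at h9lt ⊢
      interval_cases i <;> first | omega | norm_num
    have hU'eq : U' = H.J := Subgroup.eq_of_le_of_card_ge hU'J (by rw [h27, H.card_J])
    have hky : k * y * k⁻¹ ∈ H.J := by
      refine H.mem_J_of_centralizes fun j hj => ?_
      obtain ⟨w, hw, hwj⟩ := (hU'eq ▸ hj : j ∈ U')
      have hwy : w * y = y * w := by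
        obtain ⟨wC, -, rfl⟩ := hUQ hw
        exact mem_centralizer_singleton_iff.1 wC.2
      rw [← hwj]
      show k * y * k⁻¹ * (k * w * k⁻¹) = k * w * k⁻¹ * (k * y * k⁻¹)
      calc k * y * k⁻¹ * (k * w * k⁻¹) = k * (y * w) * k⁻¹ := by group
        _ = k * (w * y) * k⁻¹ := by rw [hwy]
        _ = _ := by group
    have h3 := H.J_cube hky
    rw [conj_pow, conj_eq_one_iff, pow_succ, pow_two, hy2, one_mul] at h3
    exact hy1 h3
  obtain ⟨R', hR'⟩ :=
    (hR.of_equiv (subgroupOfEquivOfLe hRy).symm : IsPGroup 3 (R.subgroupOf C)).exists_le_sylow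
  obtain ⟨c, hc⟩ := MulAction.exists_smul_eq C R' Q
  refine ⟨c, mem_centralizer_singleton_iff.1 c.2, fun w hw => ?_⟩
  have : c * ⟨w, hRy hw⟩ * c⁻¹ ∈ (Q : Subgroup C) := by
    rw [← hc, Sylow.coe_subgroup_smul]
    exact ⟨⟨w, hRy hw⟩, hR' (show (⟨w, hRy hw⟩ : C) ∈ R.subgroupOf C from hw), rfl⟩
  rw [heq] at this
  exact this

/-- The images of basis vectors under an element normalizing a fixed subgroup. -/
theorem Full.one_image (h : H.Full t) {y : G} {Y : Mat} (hY : H.Induces y Y) {g : G}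
    {p : Fin 27} (hp : p = 9 ∨ p = 3) (hg : g * H.emb p * g⁻¹ ∈ H.Fix y) :
    ∃ q ∈ ones, app Y q = q ∧ g * H.emb p * g⁻¹ = H.emb q := by
  obtain ⟨q, hq, e⟩ := (H.mem_Fix hY).1 hg
  obtain ⟨M, hM, hMq⟩ := H.fusion_app e
  obtain ⟨d, -, a, rfl⟩ := (h.signs M).1 hM
  refine ⟨q, ?_, hq, e⟩
  rcases hp with rfl | rfl
  · exact hMq ▸ fusion_tables.1 d a
  · exact hMq ▸ fusion_tables.2.1 d a

theorem Full.t0 (h : H.Full t) : H.Induces (H.ti t 0) (dmat 1) ∧ H.ti t 0 * H.ti t 0 = 1 ∧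
    H.ti t 0 ≠ 1 := by
  refine ⟨h.ti_ind 0, h.ti_sq 0, fun e => pd_table.2.2.2.2.2.2.1 0 ?_⟩
  exact ((h.ti_ind 0).unique (e ▸ H.induces_J (one_mem _)))

theorem S_one : H.S 1 * H.S 1 = 1 ∧ H.S 1 ≠ 1 := by
  refine ⟨by rw [H.S_mul, show pm 1 1 = 0 by decide +kernel, H.S_zero], fun e => ?_⟩
  exact absurd (H.indep 0 1 (by rw [H.emb_zero, one_mul]; exact e)).2 (by decide)

/-- The Sylow three-subgroup of the centralizer of a sign reflection. -/
theorem Full.sylow_t0 (h : H.Full t) {R : Subgroup G} (hR : IsPGroup 3 R)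
    (hRy : R ≤ centralizer {H.ti t 0}) :
    ∃ c, c * H.ti t 0 = H.ti t 0 * c ∧ ∀ w ∈ R, c * w * c⁻¹ ∈ H.Fix (H.ti t 0) := by
  obtain ⟨-, -, hset, -, -, h9, h3, -, -, -, hc, -, n9, n3, n6, n18⟩ := fusion_tables
  obtain ⟨hI, h2, h1⟩ := h.t0
  refine h.fix_sylow hI h2 h1 h9 hc (fun n hn => ?_) hR hRy
  have hF9 : H.emb 9 ∈ H.Fix (H.ti t 0) := (H.mem_Fix hI).2 ⟨9, h9, rfl⟩
  have hF3 : H.emb 3 ∈ H.Fix (H.ti t 0) := (H.mem_Fix hI).2 ⟨3, h3, rfl⟩
  obtain ⟨p, hpo, hpf, hp⟩ := h.one_image hI (Or.inl rfl) (hn _ hF9)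
  obtain ⟨q, hqo, hqf, hq⟩ := h.one_image hI (Or.inr rfl) (hn _ hF3)
  have hinv : ∀ v w, n * H.emb v * n⁻¹ = H.emb w → n * H.emb (nv v) * n⁻¹ = H.emb (nv w) :=
    fun v w e => by rw [H.emb_nv, H.emb_nv, ← e]; group
  have h18 := hinv _ _ hp
  have h6 := hinv _ _ hq
  rw [n9] at h18
  rw [n3] at h6
  have hsq : n * (n * H.emb 9 * n⁻¹) * n⁻¹ = H.emb 9 ∨
      n * (n * H.emb 9 * n⁻¹) * n⁻¹ = H.emb 18 := by
    have hne : ∀ r, n * H.emb 9 * n⁻¹ = H.emb r → n * H.emb 3 * n⁻¹ ≠ H.emb r := fun r e1 e2 => by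
      exact absurd (H.emb_inj (mul_left_cancel (mul_right_cancel (e1.trans e2.symm)))) (by decide)
    rw [hp]
    rcases hset p hpo hpf with e | e | e | e <;> rw [e] at hp h18 ⊢
    · rw [hq]
      rcases hset q hqo hqf with e' | e' | e' | e' <;> rw [e'] at hq h6 ⊢
      · exact absurd hq (hne 3 hp)
      · exfalso
        rw [n3] at h18
        exact absurd (H.emb_inj (mul_left_cancel (mul_right_cancel (h18.trans hq.symm)))) (by decide)
      · exact Or.inl rfl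
      · exact Or.inr rfl
    · rw [h6]
      rcases hset q hqo hqf with e' | e' | e' | e' <;> rw [e'] at hq h6 ⊢
      · exfalso
        rw [n6] at h18
        exact absurd (H.emb_inj (mul_left_cancel (mul_right_cancel (h18.trans hq.symm)))) (by decide)
      · exact absurd hq (hne 6 hp)
      · right; rw [n9]
      · left; rw [n18]
    · exact Or.inl hp
    · rw [h18, n18]; exact Or.inl rfl
  have h18' : n * (n * H.emb 18 * n⁻¹) * n⁻¹ = (n * (n * H.emb 9 * n⁻¹) * n⁻¹)⁻¹ := by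
    rw [← n9, H.emb_nv]; simp [mul_assoc]
  have e4 : n ^ 4 * H.emb 9 * (n ^ 4)⁻¹ = H.emb 9 := by
    rw [show n ^ 4 * H.emb 9 * (n ^ 4)⁻¹ =
      n * (n * (n * (n * H.emb 9 * n⁻¹) * n⁻¹) * n⁻¹) * n⁻¹ by
        rw [pow_succ, pow_succ, pow_two]; group]
    rcases hsq with e | e <;> rw [e]
    · exact e
    · rw [h18', e, ← H.emb_nv, n18]
  exact mul_inv_eq_iff_eq_mul.1 e4

/-- The Sylow three-subgroup of the centralizer of the block transposition. -/
theorem Full.sylow_tau (h : H.Full t) {R : Subgroup G} (hR : IsPGroup 3 R)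
    (hRy : R ≤ centralizer {H.S 1}) :
    ∃ c, c * H.S 1 = H.S 1 * c ∧ ∀ w ∈ R, c * w * c⁻¹ ∈ H.Fix (H.S 1) := by
  obtain ⟨-, -, -, hset, -, -, -, h9, -, -, -, hc, n9, -, -, n18⟩ := fusion_tables
  refine h.fix_sylow (H.induces_S 1) S_one.1 S_one.2 h9 hc (fun n hn => ?_) hR hRy
  obtain ⟨p, hpo, hpf, hp⟩ := h.one_image (H.induces_S 1) (Or.inl rfl)
    (hn _ ((H.mem_Fix (H.induces_S 1)).2 ⟨9, h9, rfl⟩))
  apply mul_inv_eq_iff_eq_mul.1
  rw [show n ^ 4 * H.emb 9 * (n ^ 4)⁻¹ =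
    n * (n * (n * (n * H.emb 9 * n⁻¹) * n⁻¹) * n⁻¹) * n⁻¹ by
      rw [pow_succ, pow_succ, pow_two]; group]
  rcases hset p hpo hpf with rfl | rfl
  · simp only [hp]
  · have h18 : n * H.emb 18 * n⁻¹ = H.emb 9 := by
      have : n * H.emb (nv 9) * n⁻¹ = H.emb (nv 18) := by rw [H.emb_nv, H.emb_nv, ← hp]; group
      rwa [n9, n18] at this
    simp only [hp, h18]

theorem Full.t0_ne_tau (h : H.Full t) (g : G) : g * H.ti t 0 * g⁻¹ ≠ H.S 1 := by
  intro e
  obtain ⟨-, -, -, hset, -, h9, h3, -, -, -, -, -, n9, -, -, -⟩ := fusion_tables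
  obtain ⟨hI, -, -⟩ := h.t0
  set E := (H.Fix (H.ti t 0)).map (MulAut.conj g).toMonoidHom
  obtain ⟨c, -, hcE⟩ := h.sylow_tau (R := E) ((H.isPGroup_J.to_le inf_le_left).map _) (by
    rintro _ ⟨w, hw, rfl⟩
    refine mem_centralizer_singleton_iff.2 ?_
    rw [← e]
    show MulAut.conj g w * MulAut.conj g (H.ti t 0) = MulAut.conj g (H.ti t 0) * MulAut.conj g w
    rw [← map_mul, ← map_mul, mem_centralizer_singleton_iff.1 hw.2])
  have key : ∀ p : Fin 27, app (dmat 1) p = p → c * g * H.emb p * (c * g)⁻¹ ∈ H.Fix (H.S 1) := by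
    intro p hp
    rw [show c * g * H.emb p * (c * g)⁻¹ = c * (g * H.emb p * g⁻¹) * c⁻¹ by group]
    exact hcE _ ⟨H.emb p, (H.mem_Fix hI).2 ⟨p, hp, rfl⟩, rfl⟩
  obtain ⟨p, hpo, hpf, hp⟩ := h.one_image (H.induces_S 1) (Or.inl rfl) (key 9 h9)
  obtain ⟨q, hqo, hqf, hq⟩ := h.one_image (H.induces_S 1) (Or.inr rfl) (key 3 h3)
  have hinj : ∀ {r w : Fin 27}, c * g * H.emb r * (c * g)⁻¹ = c * g * H.emb w * (c * g)⁻¹ → r = w :=
    fun e' => H.emb_inj (mul_left_cancel (mul_right_cancel e'))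
  have h18 : c * g * H.emb 18 * (c * g)⁻¹ = H.emb (nv p) := by
    rw [← n9, H.emb_nv, H.emb_nv, ← hp]; group
  rcases hset p hpo hpf with rfl | rfl <;> rcases hset q hqo hqf with rfl | rfl
  · exact absurd (hinj (hp.trans hq.symm)) (by decide)
  · rw [n9] at h18; exact absurd (hinj (h18.trans hq.symm)) (by decide)
  · rw [show nv (18 : Fin 27) = 9 by decide +kernel] at h18
    exact absurd (hinj (h18.trans hq.symm)) (by decide)
  · exact absurd (hinj (hp.trans hq.symm)) (by decide)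

theorem Full.t0_ne_u (h : H.Full t) (g : G) : g * H.ti t 0 * g⁻¹ ≠ H.dd t 7 := by
  intro e
  haveI : Fact (Nat.Prime 3) := ⟨Nat.prime_three⟩
  have hσ : H.S 4 * H.dd t 7 = H.dd t 7 * H.S 4 := by
    have := h.dd_conj 4 7
    rw [show pd 4 7 = 7 by decide +kernel, mul_inv_eq_iff_eq_mul] at this
    exact this
  have h3 : (g⁻¹ * H.S 4 * g) ^ 3 = 1 := by
    have hS : H.S 4 ^ 3 = 1 := by
      rw [pow_succ, pow_two, H.S_mul, H.S_mul, show pm (pm 4 4) 4 = 0 by decide +kernel, H.S_zero]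
    rw [show g⁻¹ * H.S 4 * g = g⁻¹ * H.S 4 * g⁻¹⁻¹ by rw [inv_inv], conj_pow, hS, mul_one,
      mul_inv_cancel]
  have hne : g⁻¹ * H.S 4 * g ≠ 1 := fun e' => by
    have : H.S 4 = 1 := by
      calc H.S 4 = g * (g⁻¹ * H.S 4 * g) * g⁻¹ := by group
        _ = 1 := by rw [e', mul_one, mul_inv_cancel]
    exact absurd (H.indep 0 4 (by rw [H.emb_zero, one_mul, this])).2 (by decide)
  obtain ⟨c, -, hc⟩ := h.sylow_t0 (R := zpowers (g⁻¹ * H.S 4 * g))
    (IsPGroup.of_card (n := 1) (by rw [Nat.card_zpowers, pow_one]; exact orderOf_eq_prime h3 hne))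
    (zpowers_le.2 (mem_centralizer_singleton_iff.2 (by
      have e' : H.ti t 0 = g⁻¹ * H.dd t 7 * g := by rw [← e]; group
      rw [e']
      calc g⁻¹ * H.S 4 * g * (g⁻¹ * H.dd t 7 * g) = g⁻¹ * (H.S 4 * H.dd t 7) * g := by group
        _ = g⁻¹ * (H.dd t 7 * H.S 4) * g := by rw [hσ]
        _ = _ := by group)))
  obtain ⟨v, hv, hve⟩ := (H.mem_Fix h.t0.1).1 (hc _ (mem_zpowers _))
  obtain ⟨M, hM, rfl⟩ := h.sigma_fused (g := c * g⁻¹) (v := v) (by
    rw [← hve]; group)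
  obtain ⟨d, -, a, rfl⟩ := (h.signs M).1 hM
  exact fusion_tables.2.2.2.2.1 d a hv

/-- A character distinguishing the reflections fixing the last basis vector. -/
def OddChar (H : Hyp G) (t : G) (χ : H.C [9] →* ℤˣ) : Prop :=
  ∀ (w : H.C [9]) (M : Mat), H.Induces (w : G) M → (w : G) * w = 1 →
    (M ∈ refls → χ w = -1) ∧ (M = mono 3 0 → χ w = 1)

theorem dd_three_mem (h : H.Full t) : H.dd t 3 ∈ H.C [9] :=
  (h.dd_ind 3).mem_C (X := [9]) fun w hw => by
    rw [List.mem_singleton.1 hw]; exact fusion_tables.2.2.2.2.2.2.2.2.1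

/-- No subgroup of order nine centralizes the product of two sign reflections. -/
theorem Full.small_d3 (h : H.Full t) {χ : H.C [9] →* ℤˣ} (hχ : H.OddChar t χ) {R : Subgroup G}
    (hR : IsPGroup 3 R) (hRy : R ≤ centralizer {H.dd t 3}) : Nat.card R ≤ 3 := by
  classical
  haveI : Fact (Nat.Prime 3) := ⟨Nat.prime_three⟩
  set y := H.dd t 3 with hy
  have hy2 : y * y = 1 := by rw [hy, h.dd_mul, (dx_table.2.2.2.2 3).1, dd_zero]
  set C := centralizer ({y} : Set G)
  have he9 : H.emb 9 ∈ C := mem_centralizer_singleton_iff.2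
    (H.mem_C.1 (dd_three_mem h) 9 List.mem_cons_self).symm
  have ho : orderOf (⟨H.emb 9, he9⟩ : C) = 3 := by
    rw [Subgroup.orderOf_mk]
    exact orderOf_eq_prime (H.emb_cube 9)
      fun e => absurd (H.emb_inj (e.trans H.emb_zero.symm)) (by decide)
  obtain ⟨Q, hQ⟩ := (IsPGroup.of_card (n := 1) (show Nat.card (zpowers (⟨H.emb 9, he9⟩ : C)) = 3 ^ 1
    by rw [Nat.card_zpowers, ho, pow_one])).exists_le_sylow
  have heq : (Q : Subgroup C) = zpowers ⟨H.emb 9, he9⟩ := by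
    refine le_antisymm ?_ hQ
    by_contra hne
    have hlt : (zpowers (⟨H.emb 9, he9⟩ : C)).subgroupOf (Q : Subgroup C) < ⊤ :=
      lt_top_iff_ne_top.2 fun e' => hne (subgroupOf_eq_top.1 e')
    haveI := Q.2.isNilpotent
    obtain ⟨⟨n, hnQ⟩, hnn, hnF⟩ := SetLike.exists_of_lt
      (Group.normalizerCondition_of_isNilpotent _ hlt)
    obtain ⟨i, hi⟩ := (mem_normalizer_iff.1 hnn ⟨⟨H.emb 9, he9⟩, hQ (mem_zpowers _)⟩).1
      (mem_zpowers _)
    have hi' : (n : G) * H.emb 9 * (n : G)⁻¹ = H.emb 9 ^ i :=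
      (congrArg Subtype.val hi).symm
    obtain ⟨e, he⟩ := Q.2 ⟨n, hnQ⟩
    have he' : (n : G) ^ 3 ^ e = 1 := congrArg (fun z : (Q : Subgroup C) => ((z : C) : G)) he
    have hn9 : Commute (n : G) (H.emb 9) := by
      have h3 : orderOf (H.emb 9) = 3 := by
        rw [← ho, Subgroup.orderOf_mk]
      have h2 : (n : G) ^ 2 * H.emb 9 * ((n : G) ^ 2)⁻¹ = H.emb 9 := by
        calc (n : G) ^ 2 * H.emb 9 * ((n : G) ^ 2)⁻¹ = (n : G) * ((n : G) * H.emb 9 * (n : G)⁻¹) * (n : G)⁻¹ := by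
              rw [pow_two]; group
          _ = ((n : G) * H.emb 9 * (n : G)⁻¹) ^ i := by rw [conj_zpow, ← hi']
          _ = H.emb 9 ^ (i * i) := by rw [hi', ← zpow_mul]
          _ = H.emb 9 := by
            have hi3 : ¬ (3 : ℤ) ∣ i := by
              rintro ⟨q, rfl⟩
              rw [zpow_mul, zpow_ofNat, H.emb_cube, one_zpow, conj_eq_one_iff] at hi'
              exact absurd (H.emb_inj (hi'.trans H.emb_zero.symm)) (by decide)
            have e1 : (i * i) % 3 = 1 := by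
              rw [Int.mul_emod]
              rcases (show i % 3 = 1 ∨ i % 3 = 2 by omega) with e1 | e1 <;> rw [e1] <;> norm_num
            rw [← zpow_mod_orderOf, h3, show ((3 : ℕ) : ℤ) = 3 from rfl, e1, zpow_one]
      have hcop : Nat.Coprime (orderOf (n : G)) 2 :=
        Nat.Coprime.coprime_dvd_left (orderOf_dvd_of_pow_eq_one he')
          (Nat.Coprime.pow_left e (by norm_num))
      obtain ⟨m, hm⟩ := exists_pow_eq_self_of_coprime hcop.symm
      rw [← hm]
      exact Commute.pow_left (mul_inv_eq_iff_eq_mul.1 h2) m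
    apply hnF
    show n ∈ zpowers (⟨H.emb 9, he9⟩ : C)
    set U := zpowers (n : G) ⊔ zpowers (H.emb 9)
    have hUQ : U ≤ (Q : Subgroup C).map C.subtype :=
      sup_le (zpowers_le.2 ⟨n, hnQ, rfl⟩) (zpowers_le.2 ⟨_, hQ (mem_zpowers _), rfl⟩)
    have hUC : U ≤ H.C [9] := sup_le (zpowers_le.2 (H.mem_C.2 fun w hw => by
      rw [List.mem_singleton.1 hw]; exact hn9.eq)) (zpowers_le.2 (H.mem_C.2 fun w hw => by
      rw [List.mem_singleton.1 hw]))
    obtain ⟨k, hk, hkJ⟩ := h.signs.conj_into_J ((Q.2.map C.subtype).to_le hUQ) hUC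
    obtain ⟨w, hw⟩ := hkJ n (mem_sup_left (mem_zpowers _))
    have hk9 : k * H.emb 9 * k⁻¹ = H.emb 9 := by
      rw [H.mem_C.1 hk 9 List.mem_cons_self, mul_inv_cancel_right]
    have hback : ∀ q : ℕ, H.emb w = H.emb 9 ^ q → n ∈ zpowers (⟨H.emb 9, he9⟩ : C) := fun q e1 => by
      refine ⟨(q : ℤ), Subtype.ext ?_⟩
      show (((⟨H.emb 9, he9⟩ : C) ^ (q : ℤ) : C) : G) = n
      rw [zpow_natCast, SubgroupClass.coe_pow]
      calc H.emb 9 ^ q = k⁻¹ * (k * H.emb 9 * k⁻¹) ^ q * k := by rw [conj_pow]; group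
        _ = k⁻¹ * (k * (n : G) * k⁻¹) * k := by rw [hk9, ← e1, hw]
        _ = n := by group
    by_cases w0 : w = 0
    · exact hback 0 (by rw [w0, H.emb_zero, pow_zero])
    by_cases w9 : w = 9
    · exact hback 1 (by rw [w9, pow_one])
    by_cases w18 : w = 18
    · exact hback 2 (by rw [w18, show (18 : Fin 27) = sm 2 9 by decide +kernel, H.emb_sm]; rfl)
    exfalso
    set y' := k * y * k⁻¹ with hy'
    have hyn : (n : G) * y = y * n := mem_centralizer_singleton_iff.1 n.2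
    have hyw : y' * H.emb w = H.emb w * y' := by
      rw [hw, hy']
      calc k * y * k⁻¹ * (k * (n : G) * k⁻¹) = k * (y * n) * k⁻¹ := by group
        _ = k * (n * y) * k⁻¹ := by rw [hyn]
        _ = _ := by group
    have hy9 : y' * H.emb 9 = H.emb 9 * y' := by
      rw [hy', ← hk9]
      have : y * H.emb 9 = H.emb 9 * y := H.mem_C.1 (dd_three_mem h) 9 List.mem_cons_self
      calc k * y * k⁻¹ * (k * H.emb 9 * k⁻¹) = k * (y * H.emb 9) * k⁻¹ := by group
        _ = k * (H.emb 9 * y) * k⁻¹ := by rw [this]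
        _ = _ := by group
    have hy'C : y' ∈ H.C [9, w] := H.mem_C.2 fun v hv => by
      rcases List.mem_cons.1 hv with rfl | hv
      · exact hy9
      · rw [List.mem_singleton.1 hv]; exact hyw
    obtain ⟨M, hM⟩ := H.exists_induces_of_mem (h.signs.C_pair_nine w0 w9 w18 hy'C)
    have hy'2 : y' * y' = 1 := by
      rw [hy', show k * y * k⁻¹ * (k * y * k⁻¹) = k * (y * y) * k⁻¹ by group, hy2, mul_one,
        mul_inv_cancel]
    obtain ⟨⟨-, hfix⟩, hM1⟩ : H.Stab [9, w] M ∧ M ≠ pmat 0 := by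
      refine ⟨hM.stab hy'C, fun e1 => ?_⟩
      have h3 := H.J_cube (H.mem_J_of_induces_one (e1 ▸ hM))
      rw [pow_succ, pow_two, hy'2, one_mul, hy', conj_eq_one_iff] at h3
      exact absurd ((h.dd_ind 3).unique (h3 ▸ H.induces_J (one_mem _))) (by decide +kernel)
    obtain ⟨d, hd, a, rfl⟩ := (h.signs M).1 ⟨y', hM⟩
    have hrefl := refl_table d hd a w w0 w9 w18 (hfix 9 List.mem_cons_self)
      (hfix w (List.mem_cons_of_mem _ List.mem_cons_self)) hM1
    have hyC : y ∈ H.C [9] := dd_three_mem h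
    have h1 := (hχ ⟨y', H.mem_C.2 fun v hv => by rw [List.mem_singleton.1 hv]; exact hy9⟩ _ hM hy'2).1
      hrefl
    have h2 := (hχ ⟨y, hyC⟩ _ (h.dd_ind 3) hy2).2 dmat_mono.2.1
    rw [show (⟨y', H.mem_C.2 fun v hv => by rw [List.mem_singleton.1 hv]; exact hy9⟩ : H.C [9]) =
      ⟨k, hk⟩ * ⟨y, hyC⟩ * ⟨k, hk⟩⁻¹ from rfl, map_mul, map_mul, h2, mul_one, map_inv,
      mul_inv_cancel] at h1
    exact absurd h1 (by decide)
  obtain ⟨R', hR'⟩ :=
    (hR.of_equiv (subgroupOfEquivOfLe hRy).symm : IsPGroup 3 (R.subgroupOf C)).exists_le_sylow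
  have h1 : Nat.card (R.subgroupOf C) ≤ Nat.card (R' : Subgroup C) := Subgroup.card_le_of_le hR'
  rw [Nat.card_congr (subgroupOfEquivOfLe hRy).toEquiv, Nat.card_congr (Sylow.equiv R' Q).toEquiv,
    heq, Nat.card_zpowers, ho] at h1
  exact h1

/-- No subgroup of order nine centralizes the product of a sign change and the block transposition. -/
theorem Full.small_ttau (h : H.Full t) {R : Subgroup G}
    (hR : IsPGroup 3 R) (hRy : R ≤ centralizer {t * H.S 1}) : Nat.card R ≤ 3 := by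
  classical
  haveI : Fact (Nat.Prime 3) := ⟨Nat.prime_three⟩
  set y := t * H.S 1
  have hI : H.Induces y (mono 4 1) := mono_tables.2.1 4 1 ▸ h.ind.mul (H.induces_S 1)
  set C := centralizer ({y} : Set G)
  have hy4 : y ∈ H.C [4] := hI.mem_C (X := [4]) fun w hw => by
    rw [List.mem_singleton.1 hw]; exact fusion_tables.2.2.2.2.2.2.2.2.2.1
  have he4 : H.emb 4 ∈ C :=
    mem_centralizer_singleton_iff.2 (H.mem_C.1 hy4 4 List.mem_cons_self).symm
  have ho : orderOf (⟨H.emb 4, he4⟩ : C) = 3 := by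
    rw [Subgroup.orderOf_mk]
    exact orderOf_eq_prime (H.emb_cube 4)
      fun e => absurd (H.emb_inj (e.trans H.emb_zero.symm)) (by decide)
  obtain ⟨Q, hQ⟩ := (IsPGroup.of_card (n := 1) (show Nat.card (zpowers (⟨H.emb 4, he4⟩ : C)) = 3 ^ 1
    by rw [Nat.card_zpowers, ho, pow_one])).exists_le_sylow
  have heq : (Q : Subgroup C) = zpowers ⟨H.emb 4, he4⟩ := by
    refine le_antisymm ?_ hQ
    by_contra hne
    have hlt : (zpowers (⟨H.emb 4, he4⟩ : C)).subgroupOf (Q : Subgroup C) < ⊤ :=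
      lt_top_iff_ne_top.2 fun e' => hne (subgroupOf_eq_top.1 e')
    haveI := Q.2.isNilpotent
    obtain ⟨⟨n, hnQ⟩, hnn, hnF⟩ := SetLike.exists_of_lt
      (Group.normalizerCondition_of_isNilpotent _ hlt)
    obtain ⟨i, hi⟩ := (mem_normalizer_iff.1 hnn ⟨⟨H.emb 4, he4⟩, hQ (mem_zpowers _)⟩).1
      (mem_zpowers _)
    have hi' : (n : G) * H.emb 4 * (n : G)⁻¹ = H.emb 4 ^ i := (congrArg Subtype.val hi).symm
    obtain ⟨q, hq⟩ : H.emb 4 ^ i ∈ H.J := zpow_mem (H.emb_mem 4) i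
    have hq0 : q ≠ 0 := fun e0 => by
      rw [e0, H.emb_zero] at hq
      rw [← hq, conj_eq_one_iff] at hi'
      exact absurd (H.emb_inj (hi'.trans H.emb_zero.symm)) (by decide)
    have hcen : centralizer ({H.emb q} : Set G) ≤ H.N := by
      intro c hc
      refine h.signs.C_four (H.mem_C.2 fun w hw => ?_)
      rw [List.mem_singleton.1 hw]
      have h3 : orderOf (H.emb 4) = 3 := by rw [← ho, Subgroup.orderOf_mk]
      have hi3 : ¬ (3 : ℤ) ∣ i := by
        rintro ⟨r, rfl⟩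
        rw [zpow_mul, zpow_ofNat, H.emb_cube, one_zpow] at hq
        exact hq0 (H.emb_inj (hq.trans H.emb_zero.symm))
      have hii : (H.emb 4 ^ i) ^ i = H.emb 4 := by
        have e1 : (i * i) % 3 = 1 := by
          rw [Int.mul_emod]
          rcases (show i % 3 = 1 ∨ i % 3 = 2 by omega) with e1 | e1 <;> rw [e1] <;> norm_num
        rw [← zpow_mul, ← zpow_mod_orderOf, h3, show ((3 : ℕ) : ℤ) = 3 from rfl, e1, zpow_one]
      have hc' : Commute c (H.emb q) := mem_centralizer_singleton_iff.1 hc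
      rw [hq] at hc'
      have h' := hc'.zpow_right i
      rwa [hii] at h'
    have hnN : (n : G) ∈ H.N := H.mem_N_of_fusion (hi'.trans hq.symm) hcen
    obtain ⟨e, he⟩ := Q.2 ⟨n, hnQ⟩
    have he' : (n : G) ^ 3 ^ e = 1 := congrArg (fun z : (Q : Subgroup C) => ((z : C) : G)) he
    have hcop : Nat.Coprime (orderOf (n : G)) 2 :=
      Nat.Coprime.coprime_dvd_left (orderOf_dvd_of_pow_eq_one he')
        (Nat.Coprime.pow_left e (by norm_num))
    have h3 : orderOf (H.emb 4) = 3 := by rw [← ho, Subgroup.orderOf_mk]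
    have hn4 : Commute (n : G) (H.emb 4) := by
      obtain ⟨m, hm⟩ := exists_pow_eq_self_of_coprime hcop.symm
      rw [← hm]
      refine Commute.pow_left (mul_inv_eq_iff_eq_mul.1 ?_) m
      have hi3 : ¬ (3 : ℤ) ∣ i := by
        rintro ⟨r, rfl⟩
        rw [zpow_mul, zpow_ofNat, H.emb_cube, one_zpow] at hq
        exact hq0 (H.emb_inj (hq.trans H.emb_zero.symm))
      calc (n : G) ^ 2 * H.emb 4 * ((n : G) ^ 2)⁻¹
          = (n : G) * ((n : G) * H.emb 4 * (n : G)⁻¹) * (n : G)⁻¹ := by rw [pow_two]; group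
        _ = ((n : G) * H.emb 4 * (n : G)⁻¹) ^ i := by rw [conj_zpow, ← hi']
        _ = H.emb 4 ^ (i * i) := by rw [hi', ← zpow_mul]
        _ = H.emb 4 := by
          have e1 : (i * i) % 3 = 1 := by
            rw [Int.mul_emod]
            rcases (show i % 3 = 1 ∨ i % 3 = 2 by omega) with e1 | e1 <;> rw [e1] <;> norm_num
          rw [← zpow_mod_orderOf, h3, show ((3 : ℕ) : ℤ) = 3 from rfl, e1, zpow_one]
    obtain ⟨M, hM⟩ := H.exists_induces_of_mem hnN
    have hMs : M ∈ fourStab := h.signs.stab [4] _ four_tables.1 (hM.stab (H.mem_C.2 fun w hw => by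
      rw [List.mem_singleton.1 hw]; exact hn4.eq))
    have hn2 : (n : G) * n ∈ H.J := H.mem_J_of_induces_one fun v => by
      rw [hM.comp hM, (four_tables.2.1 M hMs).2.1, app_pmat, pa_table.1]
    have hnJ : (n : G) ∈ H.J := by
      obtain ⟨m, hm⟩ := exists_pow_eq_self_of_coprime hcop.symm
      rw [← hm, pow_two]; exact pow_mem hn2 m
    obtain ⟨v, hv⟩ := hnJ
    apply hnF
    show n ∈ zpowers (⟨H.emb 4, he4⟩ : C)
    have hvy : app (mono 4 1) v = v := H.emb_inj (by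
      rw [← hI, hv, ← mem_centralizer_singleton_iff.1 n.2, mul_inv_cancel_right])
    have : ∃ k : Fin 3, v = sm k 4 :=
      (show ∀ v, app (mono 4 1) v = v → ∃ k : Fin 3, v = sm k 4 by decide +kernel) v hvy
    obtain ⟨k, rfl⟩ := this
    refine ⟨(k : ℕ), Subtype.ext ?_⟩
    show (((⟨H.emb 4, he4⟩ : C) ^ ((k : ℕ) : ℤ) : C) : G) = n
    rw [zpow_natCast, SubgroupClass.coe_pow, ← hv, H.emb_sm]
  obtain ⟨R', hR'⟩ :=
    (hR.of_equiv (subgroupOfEquivOfLe hRy).symm : IsPGroup 3 (R.subgroupOf C)).exists_le_sylow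
  have h1 : Nat.card (R.subgroupOf C) ≤ Nat.card (R' : Subgroup C) := Subgroup.card_le_of_le hR'
  rw [Nat.card_congr (subgroupOfEquivOfLe hRy).toEquiv, Nat.card_congr (Sylow.equiv R' Q).toEquiv,
    heq, Nat.card_zpowers, ho] at h1
  exact h1

/-- A sign reflection is not fused with an involution whose centralizer has a small three-part. -/
theorem Full.t0_ne_small (h : H.Full t) {y : G}
    (hy : ∀ R : Subgroup G, IsPGroup 3 R → R ≤ centralizer {y} → Nat.card R ≤ 3) (g : G) :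
    g * H.ti t 0 * g⁻¹ ≠ y := by
  intro e
  have hle : (H.Fix (H.ti t 0)).map (MulAut.conj g).toMonoidHom ≤ centralizer {y} := by
    rintro _ ⟨w, hw, rfl⟩
    refine mem_centralizer_singleton_iff.2 ?_
    rw [← e]
    show MulAut.conj g w * MulAut.conj g (H.ti t 0) = MulAut.conj g (H.ti t 0) * MulAut.conj g w
    rw [← map_mul, ← map_mul, mem_centralizer_singleton_iff.1 hw.2]
  have := hy ((H.Fix (H.ti t 0)).map (MulAut.conj g).toMonoidHom)
    ((H.isPGroup_J.to_le (inf_le_left : H.Fix (H.ti t 0) ≤ H.J)).map _) hle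
  rw [← Nat.card_congr ((H.Fix _).equivMapOfInjective _ (MulAut.conj g).injective).toEquiv,
    H.card_Fix h.t0.1, fusion_tables.2.2.2.2.2.2.2.2.2.2.1] at this
  exact absurd this (by norm_num)

theorem Full.t0_ne_d3 (h : H.Full t) {χ : H.C [9] →* ℤˣ} (hχ : H.OddChar t χ) (g : G) :
    g * H.ti t 0 * g⁻¹ ≠ H.dd t 3 :=
  h.t0_ne_small (fun _ hR hle => h.small_d3 hχ hR hle) g

theorem Full.t0_ne_ttau (h : H.Full t) (g : G) : g * H.ti t 0 * g⁻¹ ≠ t * H.S 1 :=
  h.t0_ne_small (fun _ hR hle => h.small_ttau hR hle) g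

end Hyp

end CfsgLib.ThreeSymNine
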