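import Cfsg.Agent.ThreeSymNine.FrameMain

/-!
# The full monomial automizer: a subgroup of index two
-/

set_option autoImplicit false
set_option maxRecDepth 100000
set_option synthInstance.maxSize 100000
set_option linter.style.haveILetI false
set_option linter.unusedSectionVars false

namespace CfsgLib.ThreeSymNine

open CfsgLib.AltNine Subgroup

attribute [local instance 10000] List.decidableBAll List.decidableBEx

universe u

/-- The sign vectors with an even number of sign changes. -/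
def EvenSign (d : Fin 8) : Prop := d = 0 ∨ d = 3 ∨ d = 5 ∨ d = 6

instance : DecidablePred EvenSign := fun d => by unfold EvenSign; infer_instance

/-- The blocks permutations fixing the last block. -/
def FixLast (a : Fin 6) : Prop := a = 0 ∨ a = 1

instance : DecidablePred FixLast := fun d => by unfold FixLast; infer_instance

theorem two_tables :
    (∀ d a, app (dmat d) (pa a 0) = 0) ∧
    (∀ a b, FixLast a → FixLast b → FixLast (pm a b)) ∧
    (∀ a d e b, FixLast a → EvenSign d → EvenSign e → FixLast b → EvenSign (dx d (pd a e))) ∧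
    (∀ a d, FixLast a → ∃ e b, FixLast b ∧ dx d (pd a e) = 0 ∧ pm a b = 0 ∧
      (EvenSign d → EvenSign e)) ∧
    (∀ d a, EvenSign d → FixLast a → (d = 0 ∧ a = 0) ∨
      (dx d (pd a d) ≠ 0 ∨ pm a a ≠ 0) ∨
      ∃ (f : Fin 8) (c : Fin 6), ∃ w ∈ ([(3, 0), (0, 1)] : List (Fin 8 × Fin 6)),
        dx f (pd c d) = dx w.1 (pd w.2 f) ∧ pm c a = pm w.2 c) ∧
    (Finset.univ.filter fun p : Fin 8 × Fin 6 => FixLast p.2).card = 16 ∧
    (Finset.univ.filter fun p : Fin 8 × Fin 6 => EvenSign p.1 ∧ FixLast p.2).card = 8 ∧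
    ¬ EvenSign 4 ∧ FixLast 0 ∧ FixLast 1 ∧ EvenSign 0 ∧ dx 4 (pd 0 0) = 4 := by decide +kernel

theorem sixteen_tables : (∀ d : Fin 8, ∀ a : Fin 6, mono d a ∈ alphaTab → FixLast a) := by
  decide +kernel

namespace Hyp

variable {G : Type u} [Group G] [Finite G] {H : Hyp G} {t : G}

theorem el_zero_one : H.el t 0 0 0 = 1 := by
  show H.emb 0 * H.dd t 0 * H.S 0 = 1
  rw [H.emb_zero, dd_zero, H.S_zero, one_mul, one_mul]

theorem el_dd (d : Fin 8) : H.el t 0 d 0 = H.dd t d := by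
  show H.emb 0 * H.dd t d * H.S 0 = _
  rw [H.emb_zero, H.S_zero, one_mul, mul_one]

theorem el_four : H.el t 0 4 0 = t := by
  rw [el_dd, show (4 : Fin 8) = du 2 from rfl, dd_unit, ti_two]

theorem Full.el0_mul' (h : H.Full t) (d e : Fin 8) (a b : Fin 6) :
    H.el t 0 d a * H.el t 0 e b = H.el t 0 (dx d (pd a e)) (pm a b) := by
  rw [h.el_mul, two_tables.1,
    (av_table 0 0 0).2.2.2.2.1]

/-- A subgroup of the two-group given by a closed set of labels. -/
def Full.elGroup (h : H.Full t) (P : Fin 8 → Fin 6 → Prop) (h1 : P 0 0)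
    (hmul : ∀ d a e b, P d a → P e b → P (dx d (pd a e)) (pm a b))
    (hinv : ∀ d a, P d a → ∃ e b, P e b ∧ dx d (pd a e) = 0 ∧ pm a b = 0) : Subgroup G where
  carrier := {g | ∃ d a, P d a ∧ g = H.el t 0 d a}
  one_mem' := ⟨0, 0, h1, el_zero_one.symm⟩
  mul_mem' := by
    rintro _ _ ⟨d, a, hP, rfl⟩ ⟨e, b, hQ, rfl⟩
    exact ⟨_, _, hmul d a e b hP hQ, h.el0_mul' d e a b⟩
  inv_mem' := by
    rintro _ ⟨d, a, hP, rfl⟩
    obtain ⟨e, b, hQ, e1, e2⟩ := hinv d a hP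
    refine ⟨e, b, hQ, inv_eq_of_mul_eq_one_right ?_⟩
    rw [h.el0_mul', e1, e2, el_zero_one]

theorem Full.card_elGroup (h : H.Full t) (P : Fin 8 → Fin 6 → Prop)
    [DecidablePred fun p : Fin 8 × Fin 6 => P p.1 p.2] (S : Subgroup G)
    (hS : ∀ g, g ∈ S ↔ ∃ d a, P d a ∧ g = H.el t 0 d a) :
    Nat.card S = (Finset.univ.filter fun p : Fin 8 × Fin 6 => P p.1 p.2).card := by
  rw [← Fintype.card_subtype, ← Nat.card_eq_fintype_card]
  refine (Nat.card_congr (Equiv.ofBijective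
    (fun p : {p : Fin 8 × Fin 6 // P p.1 p.2} =>
      (⟨H.el t 0 p.1.1 p.1.2, (hS _).2 ⟨_, _, p.2, rfl⟩⟩ : S))
    ⟨fun p q e => ?_, fun ⟨g, hg⟩ => ?_⟩)).symm
  · obtain ⟨-, e1, e2⟩ := h.el_inj (congrArg Subtype.val e)
    exact Subtype.ext (Prod.ext e1 e2)
  · obtain ⟨d, a, hP, rfl⟩ := (hS g).1 hg
    exact ⟨⟨(d, a), hP⟩, rfl⟩

/-- The transfer when the centralizer of the sign change normalizes. -/
theorem Full.index_two_N (h : H.Full t) {χ : H.C [9] →* ℤˣ} (hχ : H.OddChar t χ)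
    (hN : centralizer ({t} : Set G) ≤ H.N) : ∃ M : Subgroup G, M.Normal ∧ M.index = 2 ∧ t ∉ M := by
  classical
  haveI : Fact (Nat.Prime 2) := ⟨Nat.prime_two⟩
  obtain ⟨-, hpm, heven, hinv, hclass, hc16, hc8, h4, hf0, hf1, he0, -⟩ := two_tables
  set T := h.elGroup (fun _ a => FixLast a) hf0 (fun _ a _ b ha hb => hpm a b ha hb) fun d a ha => by
    obtain ⟨e, b, hb, e1, e2, -⟩ := hinv a d ha
    exact ⟨e, b, hb, e1, e2⟩
  set Q := h.elGroup (fun d a => EvenSign d ∧ FixLast a) ⟨he0, hf0⟩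
    (fun d a e b hP hQ => ⟨heven a d e b hP.2 hP.1 hQ.1 hQ.2, hpm a b hP.2 hQ.2⟩)
    fun d a ha => by
      obtain ⟨e, b, hb, e1, e2, he⟩ := hinv a d ha.2
      exact ⟨e, b, ⟨he ha.1, hb⟩, e1, e2⟩
  have hTcard : Nat.card T = 2 ^ 4 := by
    rw [h.card_elGroup (fun _ a => FixLast a) T fun g => Iff.rfl, hc16]; rfl
  have hQcard : Nat.card Q = 8 := by
    rw [h.card_elGroup (fun d a => EvenSign d ∧ FixLast a) Q fun g => Iff.rfl, hc8]
  obtain ⟨S, hS⟩ := (IsPGroup.of_card hTcard).exists_le_sylow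
  have hne : ∀ {y : G}, (∀ z, z * H.ti t 0 * z⁻¹ ≠ y) → ¬ IsConj t y := fun {y} hne' hy => by
    obtain ⟨z, hz⟩ := isConj_iff.1
      ((show IsConj t (H.ti t 0) from isConj_iff.2 ⟨H.S (bc 0), rfl⟩).symm.trans hy)
    exact hne' z hz
  have hS1 : H.el t 0 0 1 = H.S 1 := by
    show H.emb 0 * H.dd t 0 * H.S 1 = _
    rw [H.emb_zero, dd_zero, one_mul, one_mul]
  have hST : (S : Subgroup G) ≤ T := by
    by_contra hnot
    have hlt : T.subgroupOf (S : Subgroup G) < ⊤ :=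
      lt_top_iff_ne_top.2 fun e' => hnot (subgroupOf_eq_top.1 e')
    haveI := S.2.isNilpotent
    obtain ⟨⟨n, hnS⟩, hnn, hnF⟩ := SetLike.exists_of_lt
      (Group.normalizerCondition_of_isNilpotent _ hlt)
    have hconj : ∀ x ∈ T, n * x * n⁻¹ ∈ T := fun x hx =>
      (mem_normalizer_iff.1 hnn ⟨x, hS hx⟩).1 hx
    have hconj' : ∀ x ∈ T, n⁻¹ * x * n ∈ T := fun x hx => by
      have := (mem_normalizer_iff.1 (inv_mem hnn) ⟨x, hS hx⟩).1 hx
      simpa [mem_subgroupOf] using this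
    have htT : t ∈ T := ⟨4, 0, hf0, el_four.symm⟩
    have hT1 : H.S 1 ∈ T := ⟨0, 1, hf1, hS1.symm⟩
    have hcomm : ∀ x ∈ T, x * t = t * x := by
      rintro _ ⟨d, a, ha, rfl⟩
      have hS : Commute (H.S a) t := by
        rcases ha with rfl | rfl
        · rw [H.S_zero]; exact Commute.one_left t
        · exact h.comm
      show H.emb 0 * H.dd t d * H.S a * t = t * (H.emb 0 * H.dd t d * H.S a)
      rw [H.emb_zero, one_mul]
      exact ((h.t_comm_dd d).mul_left hS).eq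
    obtain ⟨d, a, ha, hy⟩ := hconj t htT
    have hcentral : ∀ x ∈ T, n * t * n⁻¹ * x = x * (n * t * n⁻¹) := fun x hx => by
      calc n * t * n⁻¹ * x = n * (t * (n⁻¹ * x * n)) * n⁻¹ := by group
        _ = n * ((n⁻¹ * x * n) * t) * n⁻¹ := by rw [hcomm _ (hconj' x hx)]
        _ = _ := by group
    have hy4 : n * t * n⁻¹ = H.dd t 3 ∨ n * t * n⁻¹ = t ∨ n * t * n⁻¹ = H.dd t 7 := by
      have h2 := hcentral (H.S 1) hT1
      have h3 := hcentral _ (⟨1, 0, hf0, rfl⟩ : H.el t 0 1 0 ∈ T)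
      rw [hy, h.el0_mul' , h.el0_mul'] at h3
      rw [hy, ← hS1, h.el0_mul', h.el0_mul'] at h2
      obtain ⟨-, e2, -⟩ := h.el_inj h2
      obtain ⟨-, e3, -⟩ := h.el_inj h3
      have := (show ∀ d a, FixLast a → dx d (pd a 0) = dx 0 (pd 1 d) →
          dx d (pd a 1) = dx 1 (pd 0 d) → a = 0 ∧ (d = 0 ∨ d = 3 ∨ d = 4 ∨ d = 7) by
        decide +kernel) d a ha e2 e3
      obtain ⟨rfl, rfl | rfl | rfl | rfl⟩ := this
      · rw [el_zero_one, conj_eq_one_iff] at hy; exact absurd hy h.t_ne_one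
      · left; rw [hy, el_dd]
      · right; left; rw [hy, el_four]
      · right; right; rw [hy, el_dd]
    rcases hy4 with e | e | e
    · exact hne (h.t0_ne_d3 hχ) (isConj_iff.2 ⟨n, e⟩)
    swap
    · exact hne h.t0_ne_u (isConj_iff.2 ⟨n, e⟩)
    have hnt : n * t = t * n := mul_inv_eq_iff_eq_mul.1 e
    obtain ⟨v, d', a', hn⟩ := h.mem_N_iff.1 (hN (mem_centralizer_singleton_iff.2 hnt))
    obtain ⟨A, hA, hI⟩ := h.cent_t_N (hN (mem_centralizer_singleton_iff.2 hnt)) hnt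
    have ha' : FixLast a' := sixteen_tables d' a' (by
      rw [← (hn ▸ hI : H.Induces (H.el t v d' a') A).unique (h.el_ind v d' a')]; exact hA)
    have hn' : n = H.emb v * H.el t 0 d' a' := by
      rw [hn]
      show H.emb v * H.dd t d' * H.S a' = H.emb v * (H.emb 0 * H.dd t d' * H.S a')
      rw [H.emb_zero]; group
    have hmem : H.el t 0 d' a' ∈ T := ⟨d', a', ha', rfl⟩
    have hvS : H.emb v ∈ (S : Subgroup G) := by
      rw [show H.emb v = n * (H.el t 0 d' a')⁻¹ by rw [hn', mul_inv_cancel_right]]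
      exact mul_mem hnS (inv_mem (hS hmem))
    obtain ⟨k, hk⟩ := IsPGroup.iff_orderOf.1 S.2 ⟨_, hvS⟩
    rw [Subgroup.orderOf_mk] at hk
    have hcop : Nat.Coprime (orderOf (H.emb v)) 3 := by
      rw [hk]; exact Nat.Coprime.pow_left k (by norm_num)
    have hv1 : H.emb v = 1 := orderOf_eq_one_iff.1 (Nat.eq_one_of_dvd_coprimes hcop dvd_rfl
      (orderOf_dvd_of_pow_eq_one (H.emb_cube v)))
    exact hnF (mem_subgroupOf.2 (show n ∈ T by rw [hn', hv1, one_mul]; exact hmem))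
  have hQT : Q ≤ T := by
    rintro _ ⟨d, a, hP, rfl⟩; exact ⟨d, a, hP.2, rfl⟩
  have hrel : Q.relIndex (S : Subgroup G) = 2 := by
    have := (Q.subgroupOf (S : Subgroup G)).index_mul_card
    rw [Nat.card_congr (subgroupOfEquivOfLe (hQT.trans hS)).toEquiv, hQcard,
      le_antisymm hST hS, hTcard] at this
    show (Q.subgroupOf (S : Subgroup G)).index = 2
    rw [le_antisymm hST hS]
    omega
  have htQ : t ∉ Q := by
    rintro ⟨d, a, ⟨hd, -⟩, e⟩
    obtain ⟨-, e1, -⟩ := h.el_inj (el_four.trans e)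
    exact h4 (e1 ▸ hd)
  rcases Cfsg.Agent.S0111.result S Q (hQT.trans hS) hrel t
      (orderOf_eq_prime (by rw [pow_two, h.sq]) h.t_ne_one)
      (hS ⟨4, 0, hf0, el_four.symm⟩) htQ with hM | ⟨g, hg⟩
  · exact hM
  exfalso
  obtain ⟨d, a, ⟨hd, ha⟩, e⟩ := hg
  have hc : IsConj t (H.el t 0 d a) := isConj_iff.2 ⟨g, e⟩
  rcases hclass d a hd ha with ⟨rfl, rfl⟩ | hnot | ⟨f, c, w, hw, e1, e2⟩
  · rw [el_zero_one, conj_eq_one_iff] at e; exact h.t_ne_one e
  · have h2 : H.el t 0 d a * H.el t 0 d a = H.el t 0 0 0 := by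
      rw [el_zero_one, ← e, show g * t * g⁻¹ * (g * t * g⁻¹) = g * (t * t) * g⁻¹ by group, h.sq,
        mul_one, mul_inv_cancel]
    rw [h.el0_mul'] at h2
    obtain ⟨-, e1, e2⟩ := h.el_inj h2
    rcases hnot with hn | hn
    · exact hn e1
    · exact hn e2
  · have hmul : H.el t 0 f c * H.el t 0 d a = H.el t 0 w.1 w.2 * H.el t 0 f c := by
      rw [h.el0_mul', h.el0_mul', e1, e2]
    have hc' : IsConj t (H.el t 0 w.1 w.2) :=
      hc.trans (isConj_iff.2 ⟨H.el t 0 f c, by rw [hmul, mul_inv_cancel_right]⟩)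
    simp only [List.mem_cons, List.not_mem_nil, or_false] at hw
    rcases hw with rfl | rfl
    · rw [el_dd] at hc'; exact hne (h.t0_ne_d3 hχ) hc'
    · rw [hS1] at hc'; exact hne h.t0_ne_tau hc'

/-- The full case: a subgroup of index two, and either all centralizers normalize or a block
rotation is fused into the elementary abelian subgroup. -/
theorem Full.exists_index_two (h : H.Full t) : ∃ M : Subgroup G, M.Normal ∧ M.index = 2 ∧ t ∉ M ∧
    ((∀ v : Fin 27, v ≠ 0 → centralizer ({H.emb v} : Set G) ≤ H.N) ∨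
      ∃ g, g * H.S 4 * g⁻¹ ∈ H.J) := by
  rcases h.signs.C_nine with h9 | ⟨L, hL, ⟨φ₀⟩⟩
  · obtain ⟨χ, hχ⟩ := h.oddChar_alpha h9
    rcases h.alpha_local h9 with hN | ⟨ι, hι⟩
    · obtain ⟨M, h1, h2, h3⟩ := h.index_two_N hχ hN
      exact ⟨M, h1, h2, h3, Or.inl fun v hv => h.signs.C_thirteen hv h9⟩
    · obtain ⟨M, h1, h2, h3⟩ := hι.exists_index_two h hχ
      exact ⟨M, h1, h2, h3, Or.inl fun v hv => h.signs.C_thirteen hv h9⟩
  · obtain ⟨ι, hι, -, χ, hχ⟩ := h.iota_beta hL φ₀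
    obtain ⟨M, h1, h2, h3⟩ := hι.exists_index_two h hχ
    exact ⟨M, h1, h2, h3, Or.inr (hι.sigma_into_J h hχ)⟩

end Hyp

end CfsgLib.ThreeSymNine
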