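import Cfsg.Agent.ThreeSymNine.FusionFull
import Cfsg.Agent.ThreeSymNine.SymSixNorm
import Cfsg.Agent.Signalizer.Basic

/-!
# A symmetric group of degree six centralizing the sign change of the last coordinate:
# the case of a large centralizer of a basis vector
-/

set_option autoImplicit false
set_option maxRecDepth 100000
set_option synthInstance.maxSize 100000
set_option linter.style.haveILetI false
set_option linter.unusedSectionVars false

namespace CfsgLib.ThreeSymNine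

open CfsgLib.AltNine Subgroup

attribute [local instance 10000] List.decidableBAll List.decidableBEx

universe u

namespace Six

open Equiv CfsgLib.ThreeLocalNine

/-- A product of the three transpositions between the triples. -/
def trip (x : Fin 8) : Perm (Fin 6) :=
  swap 0 3 ^ (x.1 % 2) * swap 1 4 ^ (x.1 / 2 % 2) * swap 2 5 ^ (x.1 / 4)

/-- The three transpositions. -/
def tri (i : Fin 3) : Perm (Fin 6) := if i = 0 then swap 0 3 else if i = 1 then swap 1 4 else swap 2 5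

theorem trip_table : (∀ σ : Perm (Fin 6), (∀ i, σ * tri i = tri i * σ) → ∃ x, σ = trip x) ∧
    (∀ x i, trip x * tri i = tri i * trip x) ∧
    (∀ x y, ∃ z, trip x * trip y = trip z) ∧
    (∀ x, trip x * trip x = 1) ∧ trip 0 = 1 ∧ (∀ i, ∃ x, tri i = trip x) ∧
    (∀ x, ∃ y, p2 * p3 * trip x * (p2 * p3)⁻¹ = trip y) ∧ trip 7 = tp ∧
    (∀ x y, trip x = trip y → x = y) := by decide +kernel

theorem sign_table : Perm.sign (swap (0 : Fin 6) 1) = -1 ∧ Perm.sign (swap (3 : Fin 6) 4) = -1 ∧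
    Perm.sign tp = -1 ∧ Perm.sign (swap (0 : Fin 6) 1 * swap 3 4) = 1 ∧
    Perm.sign (swap (0 : Fin 6) 1 * swap 3 4 * tp) = -1 := by decide +kernel

end Six

theorem tau_fix_table : (∀ v : Fin 27, app (pmat 1) v = v → v = 0 ∨ v = 9 ∨ v = 18 ∨
      ∃ d ∈ allSigns, ∃ a : Fin 6, ∃ r ∈ ([13, 4] : List (Fin 27)), app (mono d a) r = v) ∧
    app (dmat 4) 1 = 1 ∧ app (dmat 4) 3 = 3 ∧ app (dmat 4) 9 = nv 9 ∧
    app (pmat 1) 1 = 3 ∧ app (dmat 1) 1 = nv 1 ∧ app (dmat 1) 3 = 3 ∧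
    app (dmat 3) 1 = nv 1 ∧ app (dmat 3) 3 = nv 3 ∧ app (pmat 1) 4 = 4 ∧
    (∀ v : Fin 27, ∃ k : Fin 3, ∃ a b : Fin 3, v = av (sm k 9) (av (sm a 1) (sm b 3))) ∧
    (∀ v : Fin 27, app (pmat 1) v = v → ∃ k a : Fin 3, v = av (sm k 9) (sm a 4)) ∧
    av 1 3 = 4 := by decide +kernel

namespace Hyp

variable {G : Type u} [Group G] [Finite G] {H : Hyp G} {t : G}

/-- A symmetric group of degree six centralizing `t`, in standard position. -/
structure Iota (H : Hyp G) (t : G) (ι : Equiv.Perm (Fin 6) →* G) : Prop where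
  inj : Function.Injective ι
  comm : ∀ σ, ι σ * t = t * ι σ
  not_mem : ∀ σ, ι σ ≠ t
  e1 : ι CfsgLib.ThreeLocalNine.p2 = H.emb 1
  e2 : ι CfsgLib.ThreeLocalNine.p3 = H.emb 3
  a : ι (Equiv.swap 0 1) = H.ti t 0
  b : ι (Equiv.swap 3 4) = H.ti t 1
  s : ι Six.tp = H.S 1 ∨ ι Six.tp = t * H.S 1
  cent : ∀ y, y * t = t * y → (∀ i, y * ι (Six.tri i) = ι (Six.tri i) * y) →
    ∃ x, ∃ n : ℕ, y = ι (Six.trip x) * t ^ n

theorem Full.iota_beta (h : H.Full t) {L : Subgroup G} (hL : H.Ker [9] L)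
    (φ₀ : L ≃* Equiv.Perm (Fin 6)) :
    ∃ ι : Equiv.Perm (Fin 6) →* G, H.Iota t ι ∧ ι Six.tp = H.S 1 ∧
      ∃ χ, H.OddChar t χ := by
  classical
  haveI : Fact (Nat.Prime 3) := ⟨Nat.prime_three⟩
  obtain ⟨tfix, t41, t43, t49, t13, a1, a3, d31, d33, t14, tspan, tspan', h134⟩ := tau_fix_table
  have he9 : ∀ {g : G}, g ∈ H.C [9] → g * H.emb 9 = H.emb 9 * g := fun hg =>
    H.mem_C.1 hg 9 List.mem_cons_self
  have hC9 : ∀ {g : G}, g * H.emb 9 = H.emb 9 * g → g ∈ H.C [9] := fun hg =>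
    H.mem_C.2 fun v hv => by rw [List.mem_singleton.1 hv]; exact hg
  have hind : ∀ {g : G} {M : Mat}, H.Induces g M → app M 9 = 9 → g ∈ H.C [9] := fun hg h9 =>
    hg.mem_C fun v hv => by rw [List.mem_singleton.1 hv]; exact h9
  have hS3 : H.Stab [9] (dmat 3) := ⟨⟨_, h.dd_ind 3⟩, fun v hv => by
    rw [List.mem_singleton.1 hv]; exact fusion_tables.2.2.2.2.2.2.2.2.1⟩
  have he1L : H.emb 1 ∈ L := hL.inv_mem _ ⟨_, hS3, d31⟩
  have he3L : H.emb 3 ∈ L := hL.inv_mem _ ⟨_, hS3, d33⟩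
  have hnine : ∀ k : ℕ, H.emb 9 ^ k ∈ L → H.emb 9 ^ k = 1 := by
    intro k hk
    obtain ⟨q, hq⟩ : H.emb 9 ^ k ∈ H.J := pow_mem (H.emb_mem 9) k
    have hqfix : ∀ M, H.Stab [9] M → app M q = q := fun M hM => by
      obtain ⟨⟨n, hn⟩, hfix⟩ := hM
      refine H.emb_inj ?_
      rw [← hn q, hq, ← conj_pow, hn 9, hfix 9 List.mem_cons_self]
    rw [← hq, hL.fix_mem q hqfix (hq ▸ hk), H.emb_zero]
  have hsplit : ∀ g ∈ H.C [9], ∃ k : ℕ, ∃ l ∈ L, g = H.emb 9 ^ k * l := by
    intro g hg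
    obtain ⟨_, ⟨v, rfl⟩, l, hl, rfl⟩ := hL.split g hg
    obtain ⟨k, a, b, rfl⟩ := tspan v
    refine ⟨k.1, H.emb (av (sm a 1) (sm b 3)) * l, mul_mem ?_ hl, ?_⟩
    · rw [H.emb_add, H.emb_sm, H.emb_sm]; exact mul_mem (pow_mem he1L _) (pow_mem he3L _)
    · rw [H.emb_add, H.emb_sm, mul_assoc]
  have huniq : ∀ {k k' : ℕ} {l l' : G}, l ∈ L → l' ∈ L →
      H.emb 9 ^ k * l = H.emb 9 ^ k' * l' → l = l' := by
    intro k k' l l' hl hl' e
    have h3 := H.emb_cube 9
    have e1 : H.emb 9 ^ (k' + 2 * k) * l' = l := by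
      rw [add_comm k', pow_add, mul_assoc, ← e, ← mul_assoc, ← pow_add,
        show 2 * k + k = 3 * k by ring, pow_mul, h3, one_pow, one_mul]
    have e2 : H.emb 9 ^ (k' + 2 * k) ∈ L := by
      rw [show H.emb 9 ^ (k' + 2 * k) = l * l'⁻¹ from eq_mul_inv_of_mul_eq e1]
      exact mul_mem hl (inv_mem hl')
    rw [hnine _ e2, one_mul] at e1
    exact e1.symm
  -- involutions of the centralizer lie in the complement
  have hinvol : ∀ {g : G}, g ∈ H.C [9] → g * g = 1 → g ∈ L := by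
    intro g hg hg2
    obtain ⟨k, l, hl, rfl⟩ := hsplit g hg
    have hc : Commute (H.emb 9 ^ k) l := ((show Commute l (H.emb 9) from he9 (hL.le hl)).symm).pow_left k
    rw [mul_assoc, ← mul_assoc l, ← hc.eq, mul_assoc, ← mul_assoc, ← pow_add] at hg2
    have h2 : H.emb 9 ^ (k + k) ∈ L := by
      rw [eq_inv_of_mul_eq_one_left hg2]; exact inv_mem (mul_mem hl hl)
    have h1 : H.emb 9 ^ k = 1 := by
      have h3 : (H.emb 9 ^ k) ^ 3 = 1 := by
        rw [← pow_mul, mul_comm, pow_mul, H.emb_cube, one_pow]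
      rwa [pow_succ, pow_two, ← pow_add, hnine _ h2, one_mul] at h3
    rw [h1, one_mul]; exact hl
  have haL : H.ti t 0 ∈ L := hinvol (hind h.t0.1 fusion_tables.2.2.2.2.2.1) (h.ti_sq 0)
  have hsL : H.S 1 ∈ L := hinvol
    (hind (H.induces_S 1) fusion_tables.2.2.2.2.2.2.2.1) S_one.1
  have hb : H.S 1 * H.ti t 0 * H.S 1 = H.ti t 1 := by
    have := h.ti_conj 1 0
    rw [inv_eq_of_mul_eq_one_right S_one.1, show img 1 0 = 1 by decide +kernel] at this
    exact this
  have hSi : (H.S 1)⁻¹ = H.S 1 := inv_eq_of_mul_eq_one_right S_one.1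
  have hai : (H.ti t 0)⁻¹ = H.ti t 0 := inv_eq_of_mul_eq_one_right (h.ti_sq 0)
  obtain ⟨φ, f1, f2, f3, f4, f5⟩ := Six.exists_normal φ₀ (e1 := ⟨H.emb 1, he1L⟩)
    (e2 := ⟨H.emb 3, he3L⟩) (a := ⟨H.ti t 0, haL⟩) (s := ⟨H.S 1, hsL⟩)
    (fun e => absurd (H.emb_inj ((congrArg Subtype.val e).trans H.emb_zero.symm)) (by decide))
    (Subtype.ext (H.emb_cube 1)) (Subtype.ext (H.emb_cube 3)) (Subtype.ext (H.emb_comm 1 3))
    (Subtype.ext (h.ti_sq 0))
    (Subtype.ext (by
      show H.ti t 0 * H.emb 1 * H.ti t 0 = (H.emb 1)⁻¹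
      have := h.t0.1 1
      rwa [hai, a1, H.emb_nv] at this))
    (Subtype.ext (by
      show H.ti t 0 * H.emb 3 = H.emb 3 * H.ti t 0
      have := h.t0.1 3
      rwa [a3, mul_inv_eq_iff_eq_mul] at this))
    (Subtype.ext S_one.1)
    (Subtype.ext (by
      show H.S 1 * H.emb 1 * H.S 1 = H.emb 3
      have := H.induces_S 1 1
      rwa [hSi, t13] at this))
  let ι : Equiv.Perm (Fin 6) →* G := L.subtype.comp φ.symm.toMonoidHom
  have hιval : ∀ σ, ι σ = (φ.symm σ : G) := fun σ => rfl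
  have hιφ : ∀ l : L, ι (φ l) = l := fun l => by rw [hιval, φ.symm_apply_apply]
  have hιL : ∀ σ, ι σ ∈ L := fun σ => (φ.symm σ).2
  have i1 : ι CfsgLib.ThreeLocalNine.p2 = H.emb 1 := f1 ▸ hιφ _
  have i2 : ι CfsgLib.ThreeLocalNine.p3 = H.emb 3 := f2 ▸ hιφ _
  have ia : ι (Equiv.swap 0 1) = H.ti t 0 := f3 ▸ hιφ _
  have is' : ι Six.tp = H.S 1 := f4 ▸ hιφ _
  have ib : ι (Equiv.swap 3 4) = H.ti t 1 := by rw [← f5, hιφ, ← hb]; rfl
  have hti : t⁻¹ = t := inv_eq_of_mul_eq_one_right h.sq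
  have ht9 : t * H.emb 9 * t⁻¹ = (H.emb 9)⁻¹ := by rw [h.ind, t49, H.emb_nv]
  have htC : ∀ g ∈ H.C [9], t * g * t ∈ H.C [9] := by
    intro g hg
    refine hC9 ?_
    have hc : Commute g (H.emb 9)⁻¹ := (show Commute g (H.emb 9) from he9 hg).inv_right
    have e : H.emb 9 = t * (H.emb 9)⁻¹ * t := by
      rw [← ht9, hti]
      calc H.emb 9 = (t * t) * H.emb 9 * (t * t) := by rw [h.sq, one_mul, mul_one]
        _ = _ := by group
    rw [e]
    calc t * g * t * (t * (H.emb 9)⁻¹ * t) = t * g * (t * t) * (H.emb 9)⁻¹ * t := by group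
      _ = t * ((H.emb 9)⁻¹ * g) * t := by rw [h.sq, mul_one, mul_assoc t g, hc.eq]
      _ = t * (H.emb 9)⁻¹ * (t * t) * g * t := by rw [h.sq, mul_one]; group
      _ = _ := by group
  have htL : ∀ σ, t * ι σ * t ∈ L := by
    intro σ
    let S : Subgroup (Equiv.Perm (Fin 6)) :=
      { carrier := {σ | t * ι σ * t ∈ L}
        one_mem' := by simp [h.sq]
        mul_mem' := fun {p q} hp hq => by
          show t * ι (p * q) * t ∈ L
          rw [map_mul, show t * (ι p * ι q) * t = (t * ι p * t) * (t * ι q * t) by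
            rw [show t * ι p * t * (t * ι q * t) = t * ι p * (t * t) * ι q * t by group, h.sq]
            group]
          exact mul_mem hp hq
        inv_mem' := fun {p} hp => by
          show t * ι p⁻¹ * t ∈ L
          rw [map_inv, show t * (ι p)⁻¹ * t = (t * ι p * t)⁻¹ by
            rw [mul_inv_rev, mul_inv_rev, hti]; group]
          exact inv_mem hp }
    suffices (⊤ : Subgroup _) ≤ S from this (mem_top σ)
    rw [← Equiv.Perm.closure_isSwap, closure_le]
    intro p hp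
    obtain ⟨x, y, -, rfl⟩ := hp
    refine hinvol (htC _ (hL.le (hιL _))) ?_
    have hsw : ι (Equiv.swap x y) * ι (Equiv.swap x y) = 1 := by
      rw [← map_mul, Equiv.swap_mul_self, map_one]
    calc t * ι (Equiv.swap x y) * t * (t * ι (Equiv.swap x y) * t)
        = t * ι (Equiv.swap x y) * (t * t) * ι (Equiv.swap x y) * t := by group
      _ = t * (ι (Equiv.swap x y) * ι (Equiv.swap x y)) * t := by rw [h.sq]; group
      _ = 1 := by rw [hsw, mul_one, h.sq]
  have hιinj : Function.Injective ι := fun p q e => φ.symm.injective (Subtype.ext e)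
  let δ : Equiv.Perm (Fin 6) →* Equiv.Perm (Fin 6) :=
    φ.toMonoidHom.comp (MonoidHom.mk' (fun σ => (⟨t * ι σ * t, htL σ⟩ : L)) fun p q => Subtype.ext (by
      show t * ι (p * q) * t = t * ι p * t * (t * ι q * t)
      rw [map_mul, show t * ι p * t * (t * ι q * t) = t * ι p * (t * t) * ι q * t by group, h.sq]
      group))
  have hδ : ∀ {σ : Equiv.Perm (Fin 6)}, t * ι σ = ι σ * t → δ σ = σ := fun {σ} e => by
    show φ ⟨t * ι σ * t, htL σ⟩ = σ
    have : (⟨t * ι σ * t, htL σ⟩ : L) = φ.symm σ := Subtype.ext (by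
      show t * ι σ * t = ι σ
      rw [e, mul_assoc, h.sq, mul_one])
    rw [this, φ.apply_symm_apply]
  have hδinj : Function.Injective δ := fun p q e => by
    have e' : t * ι p * t = t * ι q * t := congrArg Subtype.val (φ.injective e)
    exact hιinj (mul_left_cancel (mul_right_cancel e'))
  have hcomm : ∀ σ, ι σ * t = t * ι σ := by
    intro σ
    have hemb : ∀ v, app (dmat 4) v = v → t * H.emb v = H.emb v * t := fun v hv => by
      have := h.ind v
      rw [hv, mul_inv_eq_iff_eq_mul] at this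
      exact this
    have hr := Six.rigid δ hδinj (hδ (by rw [i1]; exact hemb 1 t41))
      (hδ (by rw [i2]; exact hemb 3 t43))
      (hδ (by rw [ia]; exact ((ti_two (H := H) (t := t)) ▸ h.ti_comm 2 0).eq))
      (hδ (by rw [ib]; exact ((ti_two (H := H) (t := t)) ▸ h.ti_comm 2 1).eq))
      (hδ (by rw [is']; exact h.comm.symm)) σ
    have e' : t * ι σ * t = ι σ := by
      have := congrArg ι hr
      rwa [show ι (δ σ) = t * ι σ * t from hιφ _] at this
    calc ι σ * t = t * ι σ * t * t := by rw [e']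
      _ = t * ι σ := by rw [mul_assoc, h.sq, mul_one]
  have hnot : ∀ σ, ι σ ≠ t := fun σ e => by
    have := he9 (hL.le (hιL σ))
    rw [e] at this
    have h2 := ht9
    rw [this, mul_inv_cancel_right, ← H.emb_nv] at h2
    exact absurd (H.emb_inj h2) (by decide +kernel)
  -- the centralizer of the three transpositions
  obtain ⟨tcent, tcomm, tmul, tsq, tzero, ttri, tconj, ttp, tinj⟩ := Six.trip_table
  let A3 : Subgroup G :=
    { carrier := {g | ∃ x, g = ι (Six.trip x)}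
      one_mem' := ⟨0, by rw [tzero, map_one]⟩
      mul_mem' := by
        rintro _ _ ⟨x, rfl⟩ ⟨y, rfl⟩
        obtain ⟨z, hz⟩ := tmul x y
        exact ⟨z, by rw [← map_mul, hz]⟩
      inv_mem' := by
        rintro _ ⟨x, rfl⟩
        exact ⟨x, by rw [← map_inv, inv_eq_of_mul_eq_one_right (tsq x)]⟩ }
  set R := centralizer (A3 : Set G)
  have hR : ∀ {g : G}, g ∈ R ↔ ∀ i, g * ι (Six.tri i) = ι (Six.tri i) * g := fun {g} => by
    constructor
    · intro hg i
      obtain ⟨x, hx⟩ := ttri i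
      exact (mem_centralizer_iff.1 hg _ ⟨x, by rw [hx]⟩).symm
    · intro hg
      refine mem_centralizer_iff.2 ?_
      rintro _ ⟨x, rfl⟩
      have h0 : Commute g (ι (Six.tri 0)) := hg 0
      have h1 : Commute g (ι (Six.tri 1)) := hg 1
      have h2 : Commute g (ι (Six.tri 2)) := hg 2
      simp only [Six.trip, map_mul, map_pow]
      exact (((h0.pow_right _).mul_right (h1.pow_right _)).mul_right (h2.pow_right _)).eq.symm
  have hA3R : A3 ≤ R := by
    rintro _ ⟨x, rfl⟩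
    exact hR.2 fun i => by rw [← map_mul, ← map_mul, tcomm]
  have hR9 : ∀ g ∈ R, g ∈ H.C [9] → ∃ k : ℕ, ∃ x, g = H.emb 9 ^ k * ι (Six.trip x) := by
    intro g hg hg9
    obtain ⟨k, l, hl, rfl⟩ := hsplit g hg9
    refine ⟨k, ?_⟩
    have hc : ∀ i, l * ι (Six.tri i) = ι (Six.tri i) * l := fun i => by
      have h1 : Commute (H.emb 9 ^ k * l) (ι (Six.tri i)) := hR.1 hg i
      have h2 : Commute (H.emb 9 ^ k) (ι (Six.tri i)) :=
        ((show Commute (ι (Six.tri i)) (H.emb 9) from he9 (hL.le (hιL _))).symm).pow_left k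
      have h3 := h2.inv_left.mul_left h1
      rwa [inv_mul_cancel_left] at h3
    obtain ⟨x, hx⟩ := tcent (φ ⟨l, hl⟩) fun i => by
      have e : ∀ σ, φ ⟨ι σ, hιL σ⟩ = σ := fun σ => φ.apply_symm_apply σ
      rw [← e (Six.tri i), ← map_mul, ← map_mul]
      exact congrArg φ (Subtype.ext (hc i))
    exact ⟨x, by rw [← hx]; exact congrArg (H.emb 9 ^ k * ·) (hιφ ⟨l, hl⟩).symm⟩
  set Nn := normalizer (A3 : Set G)
  haveI hA3n : (A3.subgroupOf Nn).Normal := normal_in_normalizer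
  have hRN : R ≤ Nn := fun g hg => mem_normalizer_iff.2 fun z => by
    have hc := mem_centralizer_iff.1 hg
    constructor
    · intro hz
      rw [← hc z hz, mul_inv_cancel_right]; exact hz
    · intro hz
      have h1 := hc _ hz
      have : z = g * z * g⁻¹ := by
        calc z = g⁻¹ * (g * z * g⁻¹ * g) := by group
          _ = g⁻¹ * (g * (g * z * g⁻¹)) := by rw [h1]
          _ = _ := by group
      rw [this]; exact hz
  have hτI := H.induces_S 1
  have hF : ∀ e ∈ H.Fix (H.S 1), e ∈ Nn := by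
    intro e he
    obtain ⟨v, hv, rfl⟩ := (H.mem_Fix hτI).1 he
    obtain ⟨k, a, rfl⟩ := tspan' v hv
    rw [H.emb_add, H.emb_sm, H.emb_sm]
    refine mul_mem (pow_mem (hRN (hR.2 fun i => (he9 (hL.le (hιL _))).symm)) _) (pow_mem ?_ _)
    have e4 : H.emb 4 = ι (CfsgLib.ThreeLocalNine.p2 * CfsgLib.ThreeLocalNine.p3) := by
      rw [map_mul, i1, i2, ← H.emb_add, h134]
    have hfwd : ∀ z ∈ A3, H.emb 4 * z * (H.emb 4)⁻¹ ∈ A3 := by
      rintro _ ⟨x, rfl⟩
      obtain ⟨y, hy⟩ := tconj x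
      exact ⟨y, by rw [e4, ← map_inv, ← map_mul, ← map_mul, hy]⟩
    refine mem_normalizer_iff.2 fun z => ⟨hfwd z, fun hz => ?_⟩
    have h2 := hfwd _ (hfwd _ hz)
    have e3 : H.emb 4 * (H.emb 4 * (H.emb 4 * z * (H.emb 4)⁻¹) * (H.emb 4)⁻¹) * (H.emb 4)⁻¹ =
        H.emb 4 ^ 3 * z * (H.emb 4 ^ 3)⁻¹ := by rw [pow_succ, pow_two]; group
    rw [e3, H.emb_cube, one_mul, inv_one, mul_one] at h2
    exact h2
  set π := QuotientGroup.mk' (A3.subgroupOf Nn)
  set E := ((H.Fix (H.S 1)).subgroupOf Nn).map π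
  set RN := R.subgroupOf Nn
  haveI hRn : RN.Normal := by
    refine ⟨fun r hr n => ?_⟩
    refine mem_subgroupOf.2 (mem_centralizer_iff.2 fun z hz => ?_)
    have hz' : ((n : G))⁻¹ * z * (n : G) ∈ A3 := by
      have := (mem_normalizer_iff.1 (inv_mem n.2) z).1 hz
      rwa [inv_inv] at this
    have hr' := mem_centralizer_iff.1 (mem_subgroupOf.1 hr) _ hz'
    show z * ((n : G) * r * (n : G)⁻¹) = (n : G) * r * (n : G)⁻¹ * z
    calc z * ((n : G) * r * (n : G)⁻¹) = n * ((n : G)⁻¹ * z * n * r) * (n : G)⁻¹ := by group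
      _ = n * ((r : G) * ((n : G)⁻¹ * z * n)) * (n : G)⁻¹ := by rw [hr']
      _ = _ := by group
  set Lb := RN.map π
  haveI hLn : Lb.Normal := hRn.map π (QuotientGroup.mk'_surjective _)
  let eN : Nn := ⟨H.emb 9, hRN (hR.2 fun i => (he9 (hL.le (hιL _))).symm)⟩
  have hA3one : ∀ {a : G}, a ∈ A3 → a ^ 3 = 1 → a = 1 := by
    rintro _ ⟨x, rfl⟩ h3
    rw [pow_succ, pow_two, ← map_mul, tsq, map_one, one_mul] at h3
    exact h3
  have hq3 : orderOf (π eN) = 3 := by
    refine orderOf_eq_prime (by rw [← map_pow, show eN ^ 3 = 1 from Subtype.ext (H.emb_cube 9),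
      map_one]) fun e => ?_
    have := hA3one (mem_subgroupOf.1 ((QuotientGroup.eq_one_iff eN).1 e)) (H.emb_cube 9)
    exact absurd (H.emb_inj (this.trans H.emb_zero.symm)) (by decide)
  have hcardA3 : (Nat.card A3).Coprime 3 := by
    have hp : IsPGroup 2 A3 := fun g => by
      obtain ⟨x, hx⟩ := g.2
      exact ⟨1, Subtype.ext (by
        show (g : G) ^ (2 ^ 1) = 1
        rw [pow_one, pow_two, hx, ← map_mul, tsq, map_one])⟩
    haveI : Fact (Nat.Prime 2) := ⟨Nat.prime_two⟩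
    obtain ⟨n, hn⟩ := IsPGroup.iff_card.1 hp
    rw [hn]; exact Nat.Coprime.pow_left n (by norm_num)
  obtain ⟨-, hnormq⟩ := small_of_self_centralizing (E := E) (L := Lb)
    (((H.isPGroup_J.to_le (inf_le_left : H.Fix (H.S 1) ≤ H.J)).of_equiv
      (subgroupOfEquivOfLe hF).symm).map π)
    (by rw [normalizer_eq_top_iff.2 hLn]; exact le_top)
    (fun Rb hRb hRbc hRbn => by
      set X := Rb.comap π
      set X0 := X.map Nn.subtype
      have hXR : X0 ≤ R := by
        rintro _ ⟨x, hx, rfl⟩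
        obtain ⟨r, hr, hrx⟩ := hRb hx
        have h1 : r⁻¹ * x ∈ A3.subgroupOf Nn := QuotientGroup.eq.1 hrx
        have := mul_mem (mem_subgroupOf.1 hr) (hA3R (mem_subgroupOf.1 h1))
        rwa [show (r : G) * ((r⁻¹ * x : Nn) : G) = x from mul_inv_cancel_left (r : G) x] at this
      have hX3 : ¬ 3 ∣ Nat.card X0 := by
        intro h3
        rw [← Nat.card_congr (X.equivMapOfInjective _ Nn.subtype_injective).toEquiv] at h3
        obtain ⟨⟨y, hy⟩, hy3⟩ := exists_prime_orderOf_dvd_card' (G := X) 3 h3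
        rw [Subgroup.orderOf_mk] at hy3
        have hyA : π y = 1 := by
          have hπ : (⟨π y, hy⟩ : Rb) ^ 3 = 1 := Subtype.ext (by
            show π y ^ 3 = 1
            rw [← map_pow, ← hy3, pow_orderOf_eq_one, map_one])
          exact congrArg Subtype.val (orderOf_eq_one_iff.1 (Nat.eq_one_of_dvd_coprimes hRbc
            (orderOf_dvd_natCard _) (orderOf_dvd_of_pow_eq_one hπ)))
        have := hA3one (mem_subgroupOf.1 ((QuotientGroup.eq_one_iff y).1 hyA))
          (by rw [← SubgroupClass.coe_pow, ← hy3, pow_orderOf_eq_one]; rfl)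
        rw [show y = 1 from Subtype.ext this, orderOf_one] at hy3
        norm_num at hy3
      have hXn : H.Fix (H.S 1) ≤ normalizer (X0 : Set G) := by
        intro e he
        let eN' : Nn := ⟨e, hF e he⟩
        have heE : π eN' ∈ E := ⟨eN', he, rfl⟩
        have key : ∀ w : Nn, w ∈ X ↔ eN' * w * eN'⁻¹ ∈ X := fun w => by
          show π w ∈ Rb ↔ π (eN' * w * eN'⁻¹) ∈ Rb
          rw [map_mul, map_mul, map_inv]
          exact mem_normalizer_iff.1 (hRbn heE) (π w)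
        refine mem_normalizer_iff.2 fun y => ⟨?_, fun hy => ?_⟩
        · rintro ⟨w, hw, rfl⟩
          exact ⟨eN' * w * eN'⁻¹, (key w).1 hw, rfl⟩
        · obtain ⟨w, hw, hwy⟩ := hy
          refine ⟨eN'⁻¹ * w * eN', (key _).2 ?_, ?_⟩
          · rw [show eN' * (eN'⁻¹ * w * eN') * eN'⁻¹ = w by group]; exact hw
          · show e⁻¹ * (w : G) * e = y
            rw [show (w : G) = e * y * e⁻¹ from hwy]; group
      have hXA : A3 ≤ X0 := fun a ha => ⟨⟨a, hRN (hA3R ha)⟩, show π _ ∈ Rb by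
        rw [show π ⟨a, hRN (hA3R ha)⟩ = 1 from (QuotientGroup.eq_one_iff _).2 (mem_subgroupOf.2 ha)]
        exact one_mem _, rfl⟩
      have hsmall : X0 ≤ A3 := by
        refine CfsgLib.Signalizer.le_of_forall_centralizer (p := 3) (H.isElementaryAbelian_Fix _)
          le_rfl (by rw [H.card_Fix hτI, caseA_fix]; norm_num) hXn hX3 fun e he he1 r hr => ?_
        obtain ⟨hrX, hre⟩ := hr
        have hr9 : r * H.emb 9 = H.emb 9 * r := by
          obtain ⟨v, hv, rfl⟩ := (H.mem_Fix hτI).1 he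
          have hre' : r * H.emb v = H.emb v * r := mem_centralizer_singleton_iff.1 hre
          rcases tfix v hv with e' | e' | e' | ⟨d, hd, a, q, hq, hqv⟩
          · exact absurd (by rw [e', H.emb_zero]) he1
          · rwa [e'] at hre'
          · rw [e', show (18 : Fin 27) = nv 9 by decide +kernel, H.emb_nv] at hre'
            exact (Commute.inv_right_iff.1 hre').eq
          · have hrN : r ∈ H.N := by
              refine H.cent_le_transport (h.signs.mem hd a) ?_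
                (hqv ▸ mem_centralizer_singleton_iff.2 hre')
              simp only [List.mem_cons, List.not_mem_nil, or_false] at hq
              rcases hq with rfl | rfl
              · exact H.cent_x_le
              · exact (H.C_singleton 4).symm.le.trans h.signs.C_four
            have h9F : H.emb 9 ∈ H.Fix (H.S 1) :=
              (H.mem_Fix hτI).2 ⟨9, fusion_tables.2.2.2.2.2.2.2.1, rfl⟩
            have hJ : r * H.emb 9 * r⁻¹ * (H.emb 9)⁻¹ ∈ H.J :=
              mul_mem ((mem_normalizer_iff.1 hrN _).1 (H.emb_mem 9)) (inv_mem (H.emb_mem 9))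
            have hX' : r * H.emb 9 * r⁻¹ * (H.emb 9)⁻¹ ∈ X0 := by
              rw [show r * H.emb 9 * r⁻¹ * (H.emb 9)⁻¹ = r * (H.emb 9 * r⁻¹ * (H.emb 9)⁻¹) by group]
              exact mul_mem hrX ((mem_normalizer_iff.1 (hXn h9F) _).1 (inv_mem hrX))
            have := orderOf_eq_one_iff.1 (Nat.eq_one_of_dvd_coprimes
              ((Nat.prime_three.coprime_iff_not_dvd.2 hX3).symm) (orderOf_dvd_natCard _ hX')
              (orderOf_dvd_of_pow_eq_one (H.J_cube hJ)))
            exact mul_inv_eq_iff_eq_mul.1 (mul_inv_eq_one.1 this)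
        obtain ⟨k, x, rfl⟩ := hR9 r (hXR hrX) (hC9 hr9)
        have hk : H.emb 9 ^ k ∈ X0 := by
          have := mul_mem (show _ ∈ X0 from hrX) (inv_mem (hXA (show ι (Six.trip x) ∈ A3 from ⟨x, rfl⟩)))
          rwa [mul_inv_cancel_right] at this
        have hk1 : H.emb 9 ^ k = 1 := orderOf_eq_one_iff.1 (Nat.eq_one_of_dvd_coprimes
          ((Nat.prime_three.coprime_iff_not_dvd.2 hX3).symm) (orderOf_dvd_natCard _ hk)
          (orderOf_dvd_of_pow_eq_one (by rw [← pow_mul, mul_comm, pow_mul, H.emb_cube, one_pow])))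
        exact ⟨x, by rw [hk1, one_mul]⟩
      refine eq_bot_iff.2 fun r hr => ?_
      obtain ⟨c, rfl⟩ := QuotientGroup.mk'_surjective _ r
      exact mem_bot.2 ((QuotientGroup.eq_one_iff c).2 (mem_subgroupOf.2 (hsmall ⟨c, hr, rfl⟩))))
    (q := π eN) ⟨eN, mem_subgroupOf.2 (hR.2 fun i => (he9 (hL.le (hιL _))).symm), rfl⟩ hq3
    (fun y hy hyq => by
      obtain ⟨r, hr, rfl⟩ := hy
      have hz : r * eN * r⁻¹ * eN⁻¹ ∈ A3.subgroupOf Nn := (QuotientGroup.eq_one_iff _).1 (by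
        show π (r * eN * r⁻¹ * eN⁻¹) = 1
        rw [map_mul, map_mul, map_mul, hyq, map_inv, map_inv]; group)
      set a := ((r * eN * r⁻¹ * eN⁻¹ : Nn) : G) with ha
      have haA : a ∈ A3 := hz
      have ha9 : Commute a (H.emb 9) := by
        obtain ⟨x, hx⟩ := haA
        rw [hx]; exact he9 (hL.le (hιL _))
      have e : (r : G) * H.emb 9 * (r : G)⁻¹ = a * H.emb 9 := by
        rw [ha]
        show (r : G) * H.emb 9 * (r : G)⁻¹ = (r : G) * H.emb 9 * (r : G)⁻¹ * (H.emb 9)⁻¹ * H.emb 9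
        rw [inv_mul_cancel_right]
      have h3 : ((r : G) * H.emb 9 * (r : G)⁻¹) ^ 3 = 1 := by
        rw [conj_pow, H.emb_cube, mul_one, mul_inv_cancel]
      rw [e, ha9.mul_pow, H.emb_cube, mul_one] at h3
      rw [hA3one haA h3, one_mul] at e
      obtain ⟨k, x, hkx⟩ := hR9 r (mem_subgroupOf.1 hr) (hC9 (mul_inv_eq_iff_eq_mul.1 e))
      have hr' : r = eN ^ k * ⟨ι (Six.trip x), hRN (hA3R ⟨x, rfl⟩)⟩ := Subtype.ext hkx
      rw [hr', map_mul, map_pow, show π ⟨ι (Six.trip x), hRN (hA3R ⟨x, rfl⟩)⟩ = 1 from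
        (QuotientGroup.eq_one_iff _).2 (mem_subgroupOf.2 (show ι (Six.trip x) ∈ A3 from ⟨x, rfl⟩)),
        mul_one]
      exact pow_mem (mem_zpowers _) _)
  have hcent : ∀ y, y * t = t * y → (∀ i, y * ι (Six.tri i) = ι (Six.tri i) * y) →
      ∃ x, ∃ n : ℕ, y = ι (Six.trip x) * t ^ n := by
    intro y hyt hy
    have hyR : y ∈ R := hR.2 hy
    let yN : Nn := ⟨y, hRN hyR⟩
    obtain ⟨m, hm⟩ := hnormq (π yN) ⟨yN, mem_subgroupOf.2 hyR, rfl⟩
    have hz : (eN ^ m)⁻¹ * (yN * eN * yN⁻¹) ∈ A3.subgroupOf Nn := QuotientGroup.eq.1 (by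
      show π (eN ^ m) = π (yN * eN * yN⁻¹)
      rw [map_zpow, map_mul, map_mul, map_inv]; exact hm)
    have hzA : (H.emb 9 ^ m)⁻¹ * (y * H.emb 9 * y⁻¹) ∈ A3 := hz
    set a := (H.emb 9 ^ m)⁻¹ * (y * H.emb 9 * y⁻¹) with ha
    have e : y * H.emb 9 * y⁻¹ = H.emb 9 ^ m * a := by rw [ha, mul_inv_cancel_left]
    have ha9 : Commute (H.emb 9) a := by
      obtain ⟨x, hx⟩ := hzA
      rw [hx]; exact (he9 (hL.le (hιL _))).symm
    have h3 : (y * H.emb 9 * y⁻¹) ^ 3 = 1 := by rw [conj_pow, H.emb_cube, mul_one, mul_inv_cancel]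
    rw [e, (ha9.zpow_left m).mul_pow, ← zpow_natCast (H.emb 9 ^ m), ← zpow_mul, mul_comm m, zpow_mul,
      zpow_natCast, H.emb_cube, one_zpow, one_mul] at h3
    rw [hA3one hzA h3, mul_one] at e
    have hord : orderOf (H.emb 9) = 3 := orderOf_eq_prime (H.emb_cube 9)
      fun e' => absurd (H.emb_inj (e'.trans H.emb_zero.symm)) (by decide)
    have hfin : ∀ z ∈ R, z * H.emb 9 = H.emb 9 * z → z * t = t * z →
        ∃ x, z = ι (Six.trip x) := by
      intro z hz hz9 hzt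
      obtain ⟨k, x, rfl⟩ := hR9 z hz (hC9 hz9)
      refine ⟨x, ?_⟩
      have h1 : Commute (H.emb 9 ^ k) t := by
        have := (show Commute (H.emb 9 ^ k * ι (Six.trip x)) t from hzt).mul_left
          (show Commute (ι (Six.trip x)) t from hcomm _).inv_left
        rwa [mul_inv_cancel_right] at this
      have h2 : H.emb 9 ^ k = (H.emb 9 ^ k)⁻¹ := by
        conv_lhs => rw [← mul_inv_cancel_right (H.emb 9 ^ k) t, h1.eq, ← conj_pow, ht9, inv_pow]
      have h3' : (H.emb 9 ^ k) ^ 3 = 1 := by rw [← pow_mul, mul_comm, pow_mul, H.emb_cube, one_pow]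
      rw [pow_succ, pow_two, mul_eq_one_iff_eq_inv.2 h2, one_mul] at h3'
      rw [h3', one_mul]
    have hi : H.emb 9 ^ m = H.emb 9 ∨ H.emb 9 ^ m = (H.emb 9)⁻¹ := by
      rw [← zpow_mod_orderOf, hord]
      rcases (show m % (3 : ℕ) = 0 ∨ m % (3 : ℕ) = 1 ∨ m % (3 : ℕ) = 2 by omega) with e' | e' | e' <;>
        rw [e']
      · exfalso
        rw [← zpow_mod_orderOf, hord, e', zpow_zero, conj_eq_one_iff] at e
        exact absurd (H.emb_inj (e.trans H.emb_zero.symm)) (by decide)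
      · left; rw [zpow_one]
      · right; rw [zpow_two]
        exact eq_inv_of_mul_eq_one_right (by rw [← mul_assoc, ← pow_two, ← pow_succ]; exact H.emb_cube 9)
    rcases hi with e' | e' <;> rw [e'] at e
    · obtain ⟨x, hx⟩ := hfin y hyR (mul_inv_eq_iff_eq_mul.1 e) hyt
      exact ⟨x, 0, by rw [pow_zero, mul_one, hx]⟩
    · have htR : t ∈ R := hR.2 fun i => (hcomm _).symm
      obtain ⟨x, hx⟩ := hfin (y * t) (mul_mem hyR htR) (by
        apply mul_inv_eq_iff_eq_mul.1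
        calc y * t * H.emb 9 * (y * t)⁻¹ = y * (t * H.emb 9 * t⁻¹) * y⁻¹ := by group
          _ = (y * H.emb 9 * y⁻¹)⁻¹ := by rw [ht9]; group
          _ = _ := by rw [e, inv_inv]) (by rw [← mul_assoc t, ← hyt])
      exact ⟨x, 1, by rw [pow_one, ← hx, mul_assoc, h.sq, mul_one]⟩
  -- the character
  have hχ : ∃ χ, H.OddChar t χ := by
    choose k l hl hkl using fun g : H.C [9] => hsplit g g.2
    let χ : H.C [9] →* ℤˣ := MonoidHom.mk' (fun g => Equiv.Perm.sign (φ ⟨l g, hl g⟩)) fun p q => by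
      rw [← map_mul Equiv.Perm.sign, ← map_mul φ]
      congr 2
      refine Subtype.ext (huniq (k := k (p * q)) (k' := k p + k q) (hl _)
        (mul_mem (hl p) (hl q)) ?_)
      rw [← hkl, pow_add, show ((p * q : H.C [9]) : G) = p * q from rfl, hkl p, hkl q]
      have hc : Commute (l p) (H.emb 9 ^ k q) :=
        (show Commute (l p) (H.emb 9) from he9 (hL.le (hl p))).pow_right _
      show _ = H.emb 9 ^ k p * H.emb 9 ^ k q * (l p * l q)
      rw [mul_assoc, ← mul_assoc (l p), hc.eq]; group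
    have hχι : ∀ (w : H.C [9]) σ, (w : G) = ι σ → χ w = Equiv.Perm.sign σ := by
      intro w σ hw
      show Equiv.Perm.sign (φ ⟨l w, hl w⟩) = _
      have : (⟨l w, hl w⟩ : L) = φ.symm σ := Subtype.ext ((huniq (k := k w) (k' := 0) (hl w) (hιL σ)
        (by rw [← hkl, pow_zero, one_mul, hw])).trans (hιval σ))
      rw [this, φ.apply_symm_apply]
    obtain ⟨s1, s2, s3, s4, s5⟩ := Six.sign_table
    have i3 : ι (Equiv.swap 0 1 * Equiv.swap 3 4) = H.dd t 3 := by
      rw [map_mul, ia, ib]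
      simp only [dd, show db 3 0 = 1 by decide +kernel, show db 3 1 = 1 by decide +kernel,
        show db 3 2 = 0 by decide +kernel, pow_one, pow_zero, mul_one]
    have key : ∀ (w : H.C [9]) (M : Mat), H.Induces (w : G) M → (w : G) * w = 1 →
        ∀ σ, H.Induces (ι σ) M → ι σ * ι σ = 1 → χ w = Equiv.Perm.sign σ := by
      intro w M hM hw2 σ hσ hσ2
      obtain ⟨z, hz, hzw⟩ := Hyp.invol_conj hσ hM hσ2 hw2
      have e : w = ⟨z, H.J_le_C _ hz⟩ * ⟨ι σ, hL.le (hιL σ)⟩ * ⟨z, H.J_le_C _ hz⟩⁻¹ :=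
        Subtype.ext hzw.symm
      rw [e, map_mul, map_mul, hχι ⟨ι σ, _⟩ σ rfl, map_inv, mul_inv_cancel_comm]
    obtain ⟨dm1, dm3, pm1⟩ := dmat_mono
    refine ⟨χ, fun w M hM hw2 => ⟨fun hMr => ?_, fun hM3 => ?_⟩⟩
    · simp only [refls, List.mem_cons, List.not_mem_nil, or_false] at hMr
      rcases hMr with rfl | rfl | rfl | rfl
      · rw [key w _ hM hw2 (Equiv.swap 0 1) (by rw [ia, ← dm1]; exact h.t0.1)
          (by rw [ia, h.ti_sq]), s1]
      · rw [key w _ hM hw2 (Equiv.swap 3 4) (by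
          rw [ib, show mono 2 0 = dmat (du 1) by decide +kernel]; exact h.ti_ind 1)
          (by rw [ib, h.ti_sq]), s2]
      · rw [key w _ hM hw2 Six.tp (by rw [is', ← pm1]; exact H.induces_S 1)
          (by rw [is', S_one.1]), s3]
      · rw [key w _ hM hw2 (Equiv.swap 0 1 * Equiv.swap 3 4 * Six.tp) (by
          rw [map_mul, i3, is', ← mono_tables.2.1]; exact (h.dd_ind 3).mul (H.induces_S 1)) (by
          rw [← map_mul, (show (Equiv.swap (0 : Fin 6) 1 * Equiv.swap 3 4 * Six.tp) *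
            (Equiv.swap (0 : Fin 6) 1 * Equiv.swap 3 4 * Six.tp) = 1 by decide +kernel), map_one]), s5]
    · subst hM3
      rw [key w _ hM hw2 (Equiv.swap 0 1 * Equiv.swap 3 4) (by
        rw [i3, ← dm3]; exact h.dd_ind 3) (by
        rw [i3, h.dd_mul, (dx_table.2.2.2.2 3).1, dd_zero]), s4]
  exact ⟨ι, ⟨hιinj, hcomm, hnot, i1, i2, ia, ib, Or.inl is', hcent⟩, is', hχ⟩

end Hyp

end CfsgLib.ThreeSymNine
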