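import Cfsg.Agent.ThreeSymNine.TablesB
import Cfsg.Agent.ThreeSymNine.Lifts
import Cfsg.Agent.ThreeSymNine.CaseA
import Cfsg.Agent.S3805

/-!
# The even monomial automizer: centralizers of elements of the elementary abelian subgroup
-/

set_option autoImplicit false
set_option maxRecDepth 100000
set_option linter.style.haveILetI false
set_option synthInstance.maxSize 100000
set_option linter.unusedSectionVars false

namespace CfsgLib.ThreeSymNine

open CfsgLib.AltNine Subgroup

attribute [local instance 10000] List.decidableBAll List.decidableBEx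

universe u

/-- The character of the stabilizer of the third basis vector. -/
def nineChar (M : Mat) : Multiplicative (ZMod 2 × ZMod 2) :=
  Multiplicative.ofAdd ((if app M 7 = 7 then 0 else 1), (if app M 4 = 4 then 0 else 1))

theorem nine_psi :
    (∀ A ∈ nineStab, ∀ B ∈ nineStab, nineChar (mm A B) = nineChar A * nineChar B) ∧
    (∀ A ∈ nineStab, nineChar A = 1 → A = pmat 0) ∧ nineChar (pmat 0) = 1 ∧
    ∀ k, ∃ A ∈ nineStab, nineChar A = k := by decide +kernel

theorem klein_model : IsKleinFour (Multiplicative (ZMod 2 × ZMod 2)) := inferInstance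

namespace Hyp

variable {G : Type u} [Group G] [Finite G] {H : Hyp G}

/-- The data of this case. -/
structure BData (H : Hyp G) (a b : G) : Prop where
  signs : H.Signs evenSigns
  ia : H.Induces a (dmat 3)
  ib : H.Induces b (dmat 5)
  a2 : a * a = 1
  b2 : b * b = 1
  ta : H.S 1 * a = a * H.S 1
  ab : a * b = b * a
  tbt : H.S 1 * b * H.S 1 = a * b

theorem exists_BData (hs : H.Signs evenSigns) : ∃ a b, BData H a b := by
  obtain ⟨-, -, -, -, -, -, hd2, htd, htd', hfix, -, -⟩ := b_cent_tau
  obtain ⟨k1, k2, k3, k4, -⟩ := b_klein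
  have hW : ∀ d ∈ evenSigns, H.W (dmat d) := fun d hd => mono_tables.2.2.1 d ▸ hs.mem hd 0
  have ht2 : H.S 1 * H.S 1 = 1 := by rw [H.S_mul, show pm 1 1 = 0 by decide +kernel, H.S_zero]
  obtain ⟨a, ia, a2, hta⟩ := Hyp.W.exists_commuting (H.induces_S 1) ht2
    (hW 3 (by decide)) hd2 htd htd'
  obtain ⟨b, ib, b2, hab⟩ := Hyp.W.exists_commuting ia a2 (hW 5 (by decide)) k1 k2 k3
  refine ⟨a, b, hs, ia, ib, a2, b2, hta, hab, ?_⟩
  set t := H.S 1
  have hai : a⁻¹ = a := inv_eq_of_mul_eq_one_right a2
  have habi : (a * b)⁻¹ = a * b := by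
    rw [mul_inv_rev, hai, inv_eq_of_mul_eq_one_right b2, hab]
  have hI : H.Induces (t * b * t) (mm (dmat 3) (dmat 5)) :=
    k4 ▸ ((H.induces_S 1).mul ib).mul (H.induces_S 1)
  obtain ⟨w, hw⟩ : (a * b)⁻¹ * (t * b * t) ∈ H.J := hI.mul_inv_mem (ia.mul ib)
  have hca : Commute a (a * b) := (Commute.refl a).mul_right hab
  have hct : Commute a (t * b * t) :=
    ((show Commute a t from hta.symm).mul_right hab).mul_right hta.symm
  have haw : Commute a (H.emb w) := by rw [hw]; exact hca.inv_right.mul_right hct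
  have hfw : app (dmat 3) w = w := H.emb_inj (by rw [← ia w, haw.eq, mul_inv_cancel_right])
  have htw : Commute t (H.emb w) := by
    have := H.induces_S 1 w
    rw [hfix w hfw] at this
    exact mul_inv_eq_iff_eq_mul.1 this
  have e : t * b * t = a * b * H.emb w := by rw [hw, mul_inv_cancel_left]
  have e2 : b = a * (a * b * H.emb w) * H.emb w := by
    calc b = t * (t * b * t) * t := by
          rw [show t * (t * b * t) * t = (t * t) * b * (t * t) by group, ht2, one_mul, mul_one]
      _ = t * (a * b * H.emb w) * t := by rw [e]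
      _ = t * a * (b * (H.emb w * t)) := by group
      _ = a * t * (b * (t * H.emb w)) := by rw [hta, htw.eq]
      _ = a * (t * b * t) * H.emb w := by group
      _ = _ := by rw [e]
  have hw2 : H.emb w * H.emb w = 1 := by
    rw [← mul_assoc, ← mul_assoc a a b, a2, one_mul, mul_assoc] at e2
    exact mul_eq_left.1 e2.symm
  have hw1 : H.emb w = 1 := by
    have h3 := H.emb_cube w
    rwa [pow_succ, pow_two, hw2, one_mul] at h3
  rw [e, hw1, mul_one]

/-- Every centralizer of a nontrivial member normalizes. -/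
theorem signs_B_C_le (hs : H.Signs evenSigns) {v : Fin 27} (hv : v ≠ 0) :
    centralizer ({H.emb v} : Set G) ≤ H.N := by
  have h4 : H.C [4] ≤ H.N := by
    obtain ⟨h1, h2, h3, h5, h6⟩ := b_four
    exact hs.refl_le [4] 0 1 7 (by decide) h1
      (fun w hw => by rw [List.mem_singleton.1 hw]; exact h2) h3 (by decide) h5 h6
  have h9 : H.C [9] ≤ H.N := by
    obtain ⟨h1, h2, h3, h5, h6, h7⟩ := b_nine
    have hStW : ∀ M ∈ nineStab, H.Stab [9] M := fun M hM => by
      obtain ⟨e1, -, -, d, hd, a, rfl⟩ := h2 M hM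
      exact ⟨hs.mem hd a, fun w hw => by rw [List.mem_singleton.1 hw]; exact e1⟩
    have hSt : ∀ M, H.Stab [9] M ↔ M ∈ nineStab :=
      fun M => ⟨fun hM => hs.stab [9] _ h1 hM, hStW M⟩
    have hp : H.Pair 9 1 3 :=
      { inv1 := ⟨_, hStW (mono 3 0) (by decide +kernel), h3⟩
        inv2 := ⟨_, hStW (mono 3 0) (by decide +kernel), h5⟩
        free := fun M hM => List.mem_singleton.1 (hs.stab _ _ h6 hM)
        span := h7
        ne := by decide
        loc := fun a b hne => by
          rcases b_nine_loc a b hne with h | ⟨T, -, t1, t2, t3, t4, t5, t6, t7⟩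
          · exact hs.free_le _ h
          · exact hs.refl_le _ T.1 1 T.2 t2 t1 t3 t4 t5 t6 t7 }
    obtain ⟨L, hL⟩ := H.exists_ker [9] fun M hM => (h2 M ((hSt M).1 hM)).2.2.1
    obtain ⟨p1, p2, p3, p4⟩ := nine_psi
    obtain ⟨T, hT, hcard, hcent, hexp, ⟨π, hπ, hker⟩, hloc, hfin⟩ :=
      H.pair_complement hp nineStab _ hSt p1 p2 p3 p4 L hL
    refine hfin (normalizer_eq_top_iff.1 ?_)
    haveI hn : ((T : Subgroup L).subgroupOf (normalizer ((T : Subgroup L) : Set L))).Normal :=
      hker ▸ π.normal_ker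
    refine Cfsg.Agent.S3805.result T ⟨⟨⟨fun p q => ?_⟩⟩, fun t ht => hexp t ht⟩ hcard hcent ?_ hloc
    · exact Subtype.ext (Subtype.ext (H.J_comm (mem_subgroupOf.1 (hT ▸ p.2))
        (mem_subgroupOf.1 (hT ▸ q.2))))
    · have e : (↥(normalizer ((T : Subgroup L) : Set L)) ⧸
          (T : Subgroup L).subgroupOf (normalizer ((T : Subgroup L) : Set L))) ≃*
          Multiplicative (ZMod 2 × ZMod 2) :=
        (QuotientGroup.quotientMulEquivOfEq hker.symm).trans
          (QuotientGroup.quotientKerEquivOfSurjective π hπ)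
      haveI := klein_model
      exact ⟨(Nat.card_congr e.toEquiv).trans IsKleinFour.card_four,
        (Monoid.exponent_eq_of_mulEquiv e).trans IsKleinFour.exponent_two⟩
  obtain ⟨d, hd, a, r, hr, rfl⟩ := b_reps v hv
  refine H.cent_le_transport (hs.mem hd a) ?_
  simp only [List.mem_cons, List.not_mem_nil, or_false] at hr
  rcases hr with rfl | rfl | rfl | rfl
  · exact H.cent_x_le
  · exact (H.C_singleton 26).symm.le.trans H.cent_neg_x_le
  · exact (H.C_singleton 4).symm.le.trans h4
  · exact (H.C_singleton 9).symm.le.trans h9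

end Hyp

end CfsgLib.ThreeSymNine
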