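import Cfsg.Agent.AltNine.Model
import Mathlib.GroupTheory.Perm.Basic

/-!
# The centralizer of `(1 2 3)(4 5 6)(7 8 9)` in the symmetric group of degree nine

An element is a translation `v : Fin 27` times a permutation `a : Fin 6` of the three blocks.
-/

set_option autoImplicit false
set_option maxRecDepth 100000

namespace CfsgLib.ThreeSymNine

open CfsgLib.AltNine Equiv

attribute [local instance 10000] List.decidableBAll List.decidableBEx

/-- A coordinate of a translation. -/
def dig (v : Fin 27) (i : Fin 3) : Fin 3 := ⟨v.1 / 3 ^ i.1 % 3, Nat.mod_lt _ (by decide)⟩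

/-- The translation with given coordinates. -/
def vec (a b c : Fin 3) : Fin 27 :=
  ⟨a.1 + 3 * b.1 + 9 * c.1, by have := a.2; have := b.2; have := c.2; omega⟩

/-- The images under the six block permutations. -/
def img (a : Fin 6) (i : Fin 3) : Fin 3 :=
  ⟨[0, 1, 2, 1, 0, 2, 0, 2, 1, 2, 1, 0, 1, 2, 0, 2, 0, 1].getD (3 * a.1 + i.1) 0 % 3,
    Nat.mod_lt _ (by decide)⟩

/-- The inverse of a block permutation. -/
def pinv (a : Fin 6) : Fin 6 := ⟨[0, 1, 2, 3, 5, 4].getD a.1 0 % 6, Nat.mod_lt _ (by decide)⟩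

/-- The block permutation with given images of the first two blocks. -/
def pcode (i j : Fin 3) : Fin 6 :=
  ⟨[0, 0, 2, 1, 0, 4, 5, 3, 0].getD (3 * i.1 + j.1) 0 % 6, Nat.mod_lt _ (by decide)⟩

/-- The product of two block permutations. -/
def pm (a b : Fin 6) : Fin 6 := pcode (img a (img b 0)) (img a (img b 1))

/-- The action of block permutations on translations. -/
def pa (a : Fin 6) (v : Fin 27) : Fin 27 :=
  vec (dig v (img (pinv a) 0)) (dig v (img (pinv a) 1)) (dig v (img (pinv a) 2))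

/-- A block permutation on nine points. -/
def bl (a : Fin 6) (i : Fin 9) : Fin 9 :=
  ⟨3 * (img a ⟨i.1 / 3, by have := i.2; omega⟩).1 + i.1 % 3, by
    have := (img a ⟨i.1 / 3, by have := i.2; omega⟩).2; omega⟩

theorem bl_inv : ∀ a i, bl (pinv a) (bl a i) = i ∧ bl a (bl (pinv a) i) = i := by decide +kernel

/-- A block permutation as a permutation. -/
def blk (a : Fin 6) : Perm (Fin 9) where
  toFun := bl a
  invFun := bl (pinv a)
  left_inv i := (bl_inv a i).1
  right_inv i := (bl_inv a i).2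

/-- A translation as a permutation. -/
def trn (v : Fin 27) : Perm (Fin 9) := toPerm (⟨0, v⟩ : K)

/-- The element of the centralizer with given coordinates. -/
def mdl (v : Fin 27) (a : Fin 6) : Perm (Fin 9) := trn v * blk a

theorem trn_table : ∀ v i, trn v i = shift v i := by decide +kernel

theorem trn_add (u v : Fin 27) : trn (av u v) = trn u * trn v := by
  refine Equiv.ext fun i => ?_
  simp only [Perm.mul_apply, trn_table, shift_av]

theorem blk_mul : ∀ a b i, bl a (bl b i) = bl (pm a b) i := by decide +kernel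

theorem blk_trn : ∀ a v i, bl a (shift v (bl (pinv a) i)) = shift (pa a v) i := by decide +kernel

theorem blk_conj (a : Fin 6) (v : Fin 27) : blk a * trn v * (blk a)⁻¹ = trn (pa a v) := by
  refine Equiv.ext fun i => ?_
  show blk a (trn v ((blk a).symm i)) = _
  rw [trn_table, trn_table]
  exact blk_trn a v i

theorem mdl_one : ∀ v a, (∀ i : Fin 9, shift v (bl a i) = i) → v = 0 ∧ a = 0 := by decide +kernel

theorem cent_table : ∀ p q r : Fin 9, p.1 / 3 ≠ q.1 / 3 → p.1 / 3 ≠ r.1 / 3 → q.1 / 3 ≠ r.1 / 3 →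
    ∃ v : Fin 27, ∃ a : Fin 6, shift v (bl a 0) = p ∧ shift v (bl a 3) = q ∧
      shift v (bl a 6) = r := by decide +kernel

theorem orbit_table : (∀ i : Fin 9, ∃ k : Fin 3,
      (shift 13)^[(k : ℕ)] 0 = i ∨ (shift 13)^[(k : ℕ)] 3 = i ∨ (shift 13)^[(k : ℕ)] 6 = i) ∧
    (∀ a i, bl a (shift 13 i) = shift 13 (bl a i)) ∧
    (∀ v i, shift v (shift 13 i) = shift 13 (shift v i)) ∧
    ∀ i j : Fin 9, i.1 / 3 = j.1 / 3 → ∃ k : Fin 3, (shift 13)^[(k : ℕ)] i = j := by
  decide +kernel

/-- The centralizer of the product of the three cycles. -/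
theorem exists_mdl {g : Perm (Fin 9)} (hg : g * trn 13 = trn 13 * g) :
    ∃ v a, g = mdl v a := by
  obtain ⟨horb, hbl, htr, hcls⟩ := orbit_table
  have hg' : ∀ i, g (shift 13 i) = shift 13 (g i) := fun i => by
    have := Equiv.ext_iff.1 hg i
    rwa [Perm.mul_apply, Perm.mul_apply, trn_table, trn_table] at this
  have hk : ∀ (k : ℕ) i, g ((shift 13)^[k] i) = (shift 13)^[k] (g i) := fun k => by
    induction k with
    | zero => intro i; rfl
    | succ n ih => intro i; rw [Function.iterate_succ_apply, ih, hg', ← Function.iterate_succ_apply]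
  have hne : ∀ i j : Fin 9, i.1 / 3 ≠ j.1 / 3 → (∀ k : Fin 3, (shift 13)^[(k : ℕ)] i ≠ j) →
      (g i).1 / 3 ≠ (g j).1 / 3 := by
    intro i j _ hn e
    obtain ⟨k, hk'⟩ := hcls _ _ e
    exact hn k (g.injective ((hk k i).trans hk'))
  obtain ⟨v, a, h0, h3, h6⟩ := cent_table (g 0) (g 3) (g 6)
    (hne 0 3 (by decide) (by decide +kernel)) (hne 0 6 (by decide) (by decide +kernel))
    (hne 3 6 (by decide) (by decide +kernel))
  refine ⟨v, a, Equiv.ext fun i => ?_⟩
  show g i = trn v (bl a i)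
  rw [trn_table]
  have hm : ∀ (k : ℕ) j, shift v (bl a ((shift 13)^[k] j)) = (shift 13)^[k] (shift v (bl a j)) :=
    fun k => by
      induction k with
      | zero => intro j; rfl
      | succ n ih =>
        intro j
        rw [Function.iterate_succ_apply, ih, hbl, htr, ← Function.iterate_succ_apply]
  obtain ⟨k, e | e | e⟩ := horb i <;> rw [← e, hk, hm]
  · rw [h0]
  · rw [h3]
  · rw [h6]

theorem x_eq : ∀ i : Fin 9, (swap (0 : Fin 9) 1 * swap 1 2 * swap 3 4 * swap 4 5 * swap 6 7 *
    swap 7 8 : Perm (Fin 9)) i = shift 13 i := by decide +kernel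

theorem central_table : ∀ v a, (∀ i, shift v (bl a (bl 4 i)) = bl 4 (shift v (bl a i))) →
    (∀ i, shift v (bl a (shift 1 i)) = shift 1 (shift v (bl a i))) →
    a = 0 ∧ (v = 0 ∨ v = 13 ∨ v = 26) := by decide +kernel

theorem nv_add : ∀ u v, nv (av u v) = av (nv u) (nv v) := by decide +kernel

theorem pa_nv : ∀ a v, pa a (nv v) = nv (pa a v) := by decide +kernel

theorem nv_nv : ∀ v, nv (nv v) = v ∧ nv (26 : Fin 27) = 13 := by decide +kernel

theorem pm_pa : ∀ a b v, pa (pm a b) v = pa a (pa b v) := by decide +kernel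

theorem pa_av : ∀ a u v, pa a (av u v) = av (pa a u) (pa a v) := by decide +kernel

theorem pa_table : (∀ v, pa 0 v = v) ∧ (∀ a, pa a 13 = 13 ∧ pm 0 a = a ∧ pm a 0 = a ∧
    pm (pinv a) a = 0 ∧ pm a (pinv a) = 0 ∧ pa a 0 = 0) := by decide +kernel

theorem abelian_count : ∀ v a, pm a (pm a a) = 0 → a ≠ 0 →
    (Finset.univ.filter fun p : Fin 27 × Fin 6 =>
      av v (pa a p.1) = av p.1 (pa p.2 v) ∧ pm a p.2 = pm p.2 a).card < 27 := by decide +kernel

end CfsgLib.ThreeSymNine
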