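import Cfsg.Agent.ThreeSymNine.Complement

/-!
# An involution inverting the subgroup and commuting with the block permutations
-/

set_option autoImplicit false
set_option maxRecDepth 100000
set_option linter.style.haveILetI false

namespace CfsgLib.ThreeSymNine

open CfsgLib.AltNine Subgroup

attribute [local instance 10000] List.decidableBAll List.decidableBEx

universe u

theorem cocycle_table : ∀ f g : Fin 27, av f (pa 1 f) = 0 → av g (pa 2 g) = 0 →
    ∃ w : Fin 27, av w (av f (nv (pa 1 w))) = 0 ∧ av w (av g (nv (pa 2 w))) = 0 := by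
  decide +kernel

theorem inversion_table : (∀ v, app (dmat 7) v = nv v) ∧
    (∀ a v, nv (pa a v) = pa a (nv v)) ∧ (∀ v : Fin 27, nv v = v → v = 0) ∧
    (∀ a : Fin 6, a = 0 ∨ a = 1 ∨ a = 2 ∨ a = pm 1 2 ∨ a = pm 2 1 ∨ a = pm 1 (pm 2 1)) := by
  decide +kernel

namespace Hyp

variable {G : Type u} [Group G] (H : Hyp G)

theorem exists_neg (hW : H.W (dmat 7)) :
    ∃ u : G, H.Induces u (dmat 7) ∧ u * u = 1 ∧ ∀ a, u * H.S a = H.S a * u := by
  obtain ⟨tneg, tcomm, tzero, tgen⟩ := inversion_table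
  obtain ⟨n, hn⟩ := hW
  have hinv : ∀ w, n * H.emb w * n⁻¹ = (H.emb w)⁻¹ := fun w => by rw [hn, tneg, H.emb_nv]
  have hf : ∀ a, ∃ f, n * H.S a * n⁻¹ = H.emb f * H.S a := fun a => by
    have hi : H.Induces (n * H.S a * n⁻¹) (pmat a) := fun v => by
      calc n * H.S a * n⁻¹ * H.emb v * (n * H.S a * n⁻¹)⁻¹
          = n * (H.S a * (n⁻¹ * H.emb v * n) * (H.S a)⁻¹) * n⁻¹ := by group
        _ = H.emb (app (pmat a) v) := by
          rw [show n⁻¹ * H.emb v * n = H.emb (nv v) by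
            rw [H.emb_nv, ← inv_inj, inv_inv, mul_inv_rev, mul_inv_rev, inv_inv]
            calc n⁻¹ * ((H.emb v)⁻¹ * n) = n⁻¹ * (n * H.emb v * n⁻¹ * n) := by rw [hinv]
              _ = H.emb v := by group, H.S_act, hn, tneg, app_pmat, tcomm, (nv_nv _).1]
    have hJ : n * H.S a * n⁻¹ * (H.S a)⁻¹ ∈ H.J := by
      have h := hi.mul_inv_mem (H.induces_S a)
      obtain ⟨g, hg⟩ := h
      refine ⟨pa a g, ?_⟩
      rw [← H.S_act, hg]
      group
    obtain ⟨g, hg⟩ := hJ
    exact ⟨g, by rw [hg, inv_mul_cancel_right]⟩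
  have hcoc : ∀ a f, pm a a = 0 → n * H.S a * n⁻¹ = H.emb f * H.S a → av f (pa a f) = 0 := by
    intro a f ha hfa
    refine H.emb_inj ?_
    have h : n * H.S a * n⁻¹ * (n * H.S a * n⁻¹) = 1 := by
      rw [show n * H.S a * n⁻¹ * (n * H.S a * n⁻¹) = n * (H.S a * H.S a) * n⁻¹ by group,
        H.S_mul, ha, H.S_zero, mul_one, mul_inv_cancel]
    rw [hfa, H.mul_mk, ha, H.S_zero, mul_one] at h
    rw [h, H.emb_zero]
  obtain ⟨f1, hf1⟩ := hf 1
  obtain ⟨f2, hf2⟩ := hf 2
  obtain ⟨w, hw1, hw2⟩ := cocycle_table f1 f2 (hcoc 1 f1 (by decide +kernel) hf1)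
    (hcoc 2 f2 (by decide +kernel) hf2)
  set u := H.emb w * n
  have hu : H.Induces u (dmat 7) := fun v => by
    rw [show u * H.emb v * u⁻¹ = H.emb w * (n * H.emb v * n⁻¹) * (H.emb w)⁻¹ by
      simp only [u]; group, hn, H.emb_comm w, mul_inv_cancel_right]
  have hcom : ∀ a f, n * H.S a * n⁻¹ = H.emb f * H.S a → av w (av f (nv (pa a w))) = 0 →
      u * H.S a = H.S a * u := by
    intro a f hfa h
    apply mul_inv_eq_iff_eq_mul.1
    calc u * H.S a * u⁻¹ = H.emb w * (n * H.S a * n⁻¹) * (H.emb w)⁻¹ := by simp only [u]; group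
      _ = H.emb w * H.emb f * (H.S a * H.emb (nv w)) := by rw [hfa, H.emb_nv]; group
      _ = H.S a := by
        rw [H.S_emb, ← tcomm, ← mul_assoc, mul_assoc (H.emb w), ← H.emb_add, ← H.emb_add, h,
          H.emb_zero, one_mul]
  have hu2 : u * u = 1 := by
    obtain ⟨v, hv⟩ : u * u ∈ H.J := by
      refine H.mem_J_of_induces_one fun v => ?_
      rw [hu.comp hu, tneg, tneg, (nv_nv v).1, app_pmat, pa_table.1]
    have h := hu v
    rw [tneg, hv, show u * (u * u) * u⁻¹ = u * u by group, ← hv] at h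
    rw [← hv, tzero v (H.emb_inj h).symm, H.emb_zero]
  have c1 := hcom 1 f1 hf1 hw1
  have c2 := hcom 2 f2 hf2 hw2
  refine ⟨u, hu, hu2, fun a => ?_⟩
  have cm : ∀ a b, u * H.S a = H.S a * u → u * H.S b = H.S b * u →
      u * H.S (pm a b) = H.S (pm a b) * u := fun a b ha hb => by
    rw [← H.S_mul]; exact ((show Commute u (H.S a) from ha).mul_right hb).eq
  rcases tgen a with h | h | h | h | h | h <;> subst h
  · rw [H.S_zero]; simp
  · exact c1
  · exact c2
  · exact cm 1 2 c1 c2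
  · exact cm 2 1 c2 c1
  · exact cm 1 _ c1 (cm 2 1 c2 c1)

end Hyp

end CfsgLib.ThreeSymNine
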