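import Cfsg.Agent.ThreeSymNine.CaseA
import Cfsg.Agent.ThreeSymNine.Negation
import Cfsg.Agent.ThreeSymNine.InvSylow

/-!
# The automizer is the symmetric group of degree three with the inversion: local structure
-/

set_option autoImplicit false
set_option maxRecDepth 100000
set_option linter.style.haveILetI false

namespace CfsgLib.ThreeSymNine

open CfsgLib.AltNine Subgroup

attribute [local instance 10000] List.decidableBAll List.decidableBEx

universe u

theorem pm_lines : ∀ v : Fin 27, app (pmat 1) v = v → v = 0 ∨ v = 13 ∨ v = 26 ∨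
    ∀ d : Fin 8, d ∈ ([0, 7] : List (Fin 8)) → ∀ a : Fin 6,
      (∀ w ∈ ([v] : List (Fin 27)), app (mono d a) w = w) → mono d a ∈ [pmat 0, mono 0 1] := by
  decide +kernel

theorem pm_comm : ∀ d : Fin 8, d ∈ ([0, 7] : List (Fin 8)) → ∀ a : Fin 6,
    ((∀ v, app (mono d a) (app (pmat 1) v) = app (pmat 1) (app (mono d a) v)) →
      (a = 0 ∨ a = 1) ∧ (∀ v, app (mono d a) (app (mono d a) (app (mono d a) (app (mono d a) v))) = v)
      ∧ ((∀ v, app (pmat 1) v = v → app (mono d a) v = v) ∨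
        ∀ v, app (pmat 1) v = v → app (mono d a) v = nv v)) ∧
    ((∀ v, app (pmat 1) v = v → app (mono d a) v = v) →
      mono d a = pmat 0 ∨ mono d a = pmat 1) := by decide +kernel

theorem pm_seven_stab : ∀ d : Fin 8, d ∈ ([0, 7] : List (Fin 8)) → ∀ a : Fin 6,
    (∀ w ∈ ([7] : List (Fin 27)), app (mono d a) w = w) → mono d a ∈ [pmat 0, mono 7 1] := by
  decide +kernel

theorem pm_seven_free : ∀ d : Fin 8, d ∈ ([0, 7] : List (Fin 8)) → ∀ a : Fin 6,
    (∀ w ∈ ([7, 9, 4] : List (Fin 27)), app (mono d a) w = w) → mono d a ∈ [pmat 0] := by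
  decide +kernel

theorem pm_seven_loc : ∀ d : Fin 8, d ∈ ([0, 7] : List (Fin 8)) → ∀ a : Fin 6, ∀ v : Fin 27,
    v ∈ (List.finRange 9).map (fun i => av (sm ⟨i.1 % 3, Nat.mod_lt _ (by decide)⟩ 9)
      (sm ⟨i.1 / 3, by omega⟩ 4)) → v ≠ 0 →
    app (mono d a) 7 = 7 → app (mono d a) v = v → mono d a = pmat 0 := by decide +kernel

theorem pm_y : app (mono 7 1) 9 = nv 9 ∧ app (mono 7 1) 4 = nv 4 ∧ app (mono 7 1) 7 = 7 ∧
    (∀ v, app (mono 7 1) v = v → v = 0 ∨ v = 7 ∨ v = nv 7) ∧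
    (∀ v : Fin 27, ∃ k : Fin 3, ∃ a : Fin 3, ∃ b : Fin 3,
      v = av (sm k 7) (av (sm a 9) (sm b 4))) ∧
    mm (mono 7 1) (mono 7 1) = pmat 0 ∧ mm (pmat 0) (mono 7 1) = mono 7 1 ∧
    mm (mono 7 1) (pmat 0) = mono 7 1 ∧ mm (pmat 0) (pmat 0) = pmat 0 ∧
    mono 7 1 ≠ pmat 0 := by decide +kernel

namespace Hyp

variable {G : Type u} [Group G] [Finite G] (H : Hyp G)

/-- The data of this case. -/
structure PM (u : G) : Prop where
  signs : H.Signs [0, 7]
  ind : H.Induces u (dmat 7)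
  sq : u * u = 1
  comm : ∀ a, u * H.S a = H.S a * u

theorem exists_PM (hs : H.Signs [0, 7]) : ∃ u, H.PM u := by
  obtain ⟨u, h1, h2, h3⟩ := H.exists_neg (mono_tables.2.2.1 7 ▸ hs.mem (by simp) 0)
  exact ⟨u, hs, h1, h2, h3⟩

variable {H} {u : G}

theorem PM.C_fixed (h : H.PM u) : ∀ v, app (pmat 1) v = v → v ≠ 0 → H.C [v] ≤ H.N := by
  intro v hv hv0
  obtain ⟨tq, tTT, tdec⟩ := caseA_refl
  rcases pm_lines v hv with e | e | e | e
  · exact absurd e hv0
  · rw [e, C_singleton]; exact H.cent_x_le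
  · exact e ▸ H.cent_neg_x_le
  · refine h.signs.refl_le [v] 0 1 7 (by simp) e ?_ tq (by decide) tTT tdec
    intro w hw
    rw [List.mem_singleton.1 hw, mono_tables.2.2.2]
    exact hv

theorem PM.induces_tu (h : H.PM u) (d : Fin 8) (a : Fin 6) (hd : d ∈ ([0, 7] : List (Fin 8))) :
    ∃ k : ℕ, H.Induces (u ^ k * H.S a) (mono d a) ∧ k ≤ 1 := by
  rcases List.mem_cons.1 hd with rfl | hd
  · exact ⟨0, by rw [pow_zero, one_mul, mono_tables.2.2.2]; exact H.induces_S a, zero_le_one⟩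
  · rw [List.mem_singleton.1 hd]
    exact ⟨1, by rw [pow_one, ← mono_tables.2.1]; exact h.ind.mul (H.induces_S a), le_rfl⟩

/-- The centralizer of the block transposition. -/
theorem PM.centralizer_t (h : H.PM u) {g : G} (hg : g * H.S 1 = H.S 1 * g) :
    ∃ v, app (pmat 1) v = v ∧ ∃ i k : ℕ, g = H.emb v * (H.S 1 ^ i * u ^ k) := by
  classical
  haveI : Fact (Nat.Prime 3) := ⟨Nat.prime_three⟩
  set t := H.S 1
  have hT : H.Induces t (pmat 1) := H.induces_S 1
  have ht2 : t * t = 1 := by rw [H.S_mul, show pm 1 1 = 0 by decide +kernel, H.S_zero]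
  have hut : u * t = t * u := h.comm 1
  set C := centralizer ({t} : Set G) with hC
  have hcase : ∀ n : G, n ∈ H.N → n * t = t * n → ∃ d ∈ ([0, 7] : List (Fin 8)), ∃ a,
      H.Induces n (mono d a) ∧
      ∀ v, app (mono d a) (app (pmat 1) v) = app (pmat 1) (app (mono d a) v) := by
    intro n hn hc
    obtain ⟨M, hM⟩ := H.exists_induces_of_mem hn
    obtain ⟨d, hd, a, rfl⟩ := (h.signs M).1 ⟨n, hM⟩
    exact ⟨d, hd, a, hM, fun v => H.emb_inj (by rw [← hM.comp hT, ← hT.comp hM, hc])⟩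
  obtain ⟨Q, hQ, hnQ⟩ := H.sylow_centralizer hT h.C_fixed ⟨13, by decide +kernel, by decide⟩
    fun M hM hc v => by
      obtain ⟨d, hd, a, rfl⟩ := (h.signs M).1 hM
      exact ((pm_comm d hd a).1 hc).2.1 v
  have hmemQ : ∀ {y : C}, y ∈ (Q : Subgroup C) ↔ (y : G) ∈ H.Fix t := fun {y} => by
    rw [hQ, mem_subgroupOf]
  have hle : H.Fix t ≤ C := inf_le_right
  have hact : ∀ n ∈ normalizer ((Q : Subgroup C) : Set C),
      n ∈ centralizer ((Q : Subgroup C) : Set C) ∨
        ∀ a ∈ (Q : Subgroup C), n * a * n⁻¹ = a⁻¹ := by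
    intro n hn
    obtain ⟨d, hd, a, hM, hc⟩ := hcase n (hnQ n hn) (mem_centralizer_singleton_iff.1 n.2)
    rcases ((pm_comm d hd a).1 hc).2.2 with hf | hf
    · refine Or.inl (mem_centralizer_iff.2 fun q hq => Subtype.ext ?_)
      obtain ⟨v, hv, hqv⟩ := (H.mem_Fix hT).1 (hmemQ.1 hq)
      show (q : G) * n = n * q
      have := hM v
      rw [hf v hv, mul_inv_eq_iff_eq_mul] at this
      rw [hqv]; exact this.symm
    · refine Or.inr fun q hq => Subtype.ext ?_
      obtain ⟨v, hv, hqv⟩ := (H.mem_Fix hT).1 (hmemQ.1 hq)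
      show (n : G) * q * (n : G)⁻¹ = (q : G)⁻¹
      rw [hqv, hM, hf v hv, H.emb_nv]
  have hu : (⟨u, mem_centralizer_singleton_iff.2 hut⟩ : C) ∈
      normalizer ((Q : Subgroup C) : Set C) ∧
      ∀ q ∈ (Q : Subgroup C), (⟨u, mem_centralizer_singleton_iff.2 hut⟩ : C) * q *
        (⟨u, mem_centralizer_singleton_iff.2 hut⟩ : C)⁻¹ = q⁻¹ := by
    have hinv : ∀ v, u * H.emb v * u⁻¹ = (H.emb v)⁻¹ := fun v => by
      rw [h.ind, inversion_table.1, H.emb_nv]
    have hkey : ∀ q : C, (q : G) ∈ H.J → (⟨u, mem_centralizer_singleton_iff.2 hut⟩ : C) * q *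
        (⟨u, mem_centralizer_singleton_iff.2 hut⟩ : C)⁻¹ = q⁻¹ := fun q ⟨v, hv⟩ =>
      Subtype.ext (show u * (q : G) * u⁻¹ = (q : G)⁻¹ by rw [← hv]; exact hinv v)
    refine ⟨mem_normalizer_iff.2 fun q => ⟨fun hq => ?_, fun hq => ?_⟩,
      fun q hq => hkey q (hmemQ.1 hq).1⟩
    · rw [hkey q (hmemQ.1 hq).1]; exact inv_mem hq
    · have h2 := hkey _ (hmemQ.1 hq).1
      have h3 : q = ((⟨u, mem_centralizer_singleton_iff.2 hut⟩ : C) * q *
          (⟨u, mem_centralizer_singleton_iff.2 hut⟩ : C)⁻¹)⁻¹ := by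
        rw [← h2]
        refine Subtype.ext ?_
        show (q : G) = u * (u * q * u⁻¹) * u⁻¹
        rw [show u * (u * (q : G) * u⁻¹) * u⁻¹ = (u * u) * q * (u * u)⁻¹ by group, h.sq]
        simp
      rw [h3]; exact inv_mem hq
  have hcard : Nat.card (Q : Subgroup C) = 9 := by
    rw [hQ, Nat.card_congr (subgroupOfEquivOfLe hle).toEquiv, H.card_Fix hT, caseA_fix]
  have hnormal : (Q : Subgroup C).Normal := by
    refine inverted_normal Q hcard (fun a ha b hb => Subtype.ext (H.J_comm (hmemQ.1 ha).1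
      (hmemQ.1 hb).1)) (fun a ha => Subtype.ext (H.J_cube (hmemQ.1 ha).1)) hact ⟨_, hu⟩ ?_
    intro R hR hRc a ha r hr
    have hle' : R.map C.subtype ≤ zpowers t := by
      refine H.signalizer_le hT ht2 caseA_fix.ge
        (fun v hv hv0 => inf_le_right.trans (h.C_fixed v hv hv0)) (fun M hM hf => ?_)
        (map_subtype_le _) ?_ ?_
      · obtain ⟨d, hd, a, rfl⟩ := (h.signs M).1 hM
        exact (pm_comm d hd a).2 hf
      · rw [← Nat.card_congr (R.equivMapOfInjective _ C.subtype_injective).toEquiv]; exact hRc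
      · intro e he
        refine mem_normalizer_iff.2 fun y => ⟨?_, fun hy => ?_⟩
        · rintro ⟨w, hw, rfl⟩
          exact ⟨⟨e, he.2⟩ * w * ⟨e, he.2⟩⁻¹, hR.conj_mem w hw _, rfl⟩
        · obtain ⟨w, hw, hwy⟩ := hy
          refine ⟨⟨e, he.2⟩⁻¹ * w * (⟨e, he.2⟩⁻¹)⁻¹, hR.conj_mem w hw _, ?_⟩
          show e⁻¹ * (w : G) * e⁻¹⁻¹ = y
          rw [show (w : G) = e * y * e⁻¹ from hwy]
          group
    obtain ⟨i, hi⟩ := hle' ⟨r, hr, rfl⟩
    refine Subtype.ext ?_
    show (a : G) * r = r * a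
    rw [show (r : G) = t ^ i from hi.symm]
    exact ((show Commute (a : G) t from
      mem_centralizer_singleton_iff.1 a.2).zpow_right i).eq
  let gC : C := ⟨g, mem_centralizer_singleton_iff.2 hg⟩
  have hgn : gC ∈ normalizer ((Q : Subgroup C) : Set C) := by
    rw [normalizer_eq_top_iff.2 hnormal]; exact mem_top _
  obtain ⟨d, hd, a, hM, hc⟩ := hcase g (hnQ _ hgn) hg
  obtain ⟨k, hk, -⟩ := h.induces_tu d a hd
  have ha : a = 0 ∨ a = 1 := ((pm_comm d hd a).1 hc).1
  obtain ⟨i, hi⟩ : ∃ i : ℕ, H.S a = t ^ i := by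
    rcases ha with rfl | rfl
    · exact ⟨0, by rw [pow_zero, H.S_zero]⟩
    · exact ⟨1, by rw [pow_one]⟩
  rw [hi] at hk
  have hcu : Commute (u ^ k) (t ^ i) := (show Commute u t from hut).pow_pow k i
  obtain ⟨v, hv⟩ : (u ^ k * t ^ i)⁻¹ * g ∈ H.J := hM.mul_inv_mem hk
  have hge : g = H.emb (app (mono d a) v) * (t ^ i * u ^ k) := by
    rw [← hk v, hv, hcu.symm.eq]
    group
  refine ⟨app (mono d a) v, ?_, i, k, hge⟩
  refine H.emb_inj ?_
  rw [← hT (app (mono d a) v)]
  have ht' : Commute t (t ^ i * u ^ k) :=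
    (Commute.self_pow t i).mul_right ((show Commute t u from hut.symm).pow_right k)
  have e : H.emb (app (mono d a) v) = g * (t ^ i * u ^ k)⁻¹ := eq_mul_inv_of_mul_eq hge.symm
  rw [e, mul_inv_eq_iff_eq_mul, ← mul_assoc, ← hg, mul_assoc, mul_assoc, ht'.inv_right.eq]

/-- The centralizer of the inverted-line vector. -/
theorem PM.C_seven (h : H.PM u) : H.C [7] ≤ H.N := by
  classical
  obtain ⟨y9, y4, y7, -, yspan, e1, e2, e3, e4, ene⟩ := pm_y
  have hst : ∀ M, H.Stab [7] M → M = pmat 0 ∨ M = mono 7 1 := fun M hM => by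
    rcases List.mem_cons.1 (h.signs.stab [7] _ pm_seven_stab hM) with e | e
    · exact Or.inl e
    · exact Or.inr (List.mem_singleton.1 e)
  have hY : H.Stab [7] (mono 7 1) :=
    ⟨h.signs.mem (by simp) 1, fun w hw => by rw [List.mem_singleton.1 hw]; exact y7⟩
  have hfree : ∀ M, H.Stab [7, 9, 4] M → M = pmat 0 := fun M hM =>
    List.mem_singleton.1 (h.signs.stab [7, 9, 4] _ pm_seven_free hM)
  have hp : H.Pair 7 9 4 :=
    { inv1 := ⟨_, hY, y9⟩
      inv2 := ⟨_, hY, y4⟩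
      free := hfree
      span := yspan
      ne := by decide
      loc := fun a b hne => h.signs.free_le [7, av (sm a 9) (sm b 4)]
        fun d hd x hx => List.mem_singleton.2 (pm_seven_loc d hd x _ (List.mem_map.2
          ⟨⟨a.1 + 3 * b.1, by omega⟩, List.mem_finRange _, by
            congr 2 <;> exact Fin.ext (by simp only; omega)⟩) hne
          (hx _ List.mem_cons_self) (hx _ (List.mem_cons_of_mem _ List.mem_cons_self))) }
  obtain ⟨L, hL⟩ := H.exists_ker [7] fun M hM v => by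
    rcases hst M hM with rfl | rfl
    · rw [app_pmat, app_pmat, pa_table.1, pa_table.1]
    · rw [← H.W_app hY.1 hY.1, e1, app_pmat, pa_table.1]
  obtain ⟨T, hT, hcard, hcent, hexp, -, -, hfin⟩ := H.pair_complement hp [pmat 0, mono 7 1]
    (fun M => Multiplicative.ofAdd (if M = pmat 0 then (0 : ZMod 2) else 1))
    (fun M => ⟨fun hM => by rcases hst M hM with e | e <;> simp [e],
      fun hM => by
        rcases List.mem_cons.1 hM with e | e
        · exact e ▸ ⟨H.W_pmat 0, fun w _ => by rw [app_pmat, pa_table.1]⟩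
        · exact List.mem_singleton.1 e ▸ hY⟩)
    (by
      intro A hA B hB
      simp only [List.mem_cons, List.mem_singleton, List.not_mem_nil, or_false] at hA hB
      rcases hA with rfl | rfl <;> rcases hB with rfl | rfl <;>
        simp [e1, e2, e3, e4, ene] <;> decide)
    (by
      intro A hA h1
      simp only [List.mem_cons, List.mem_singleton, List.not_mem_nil, or_false] at hA
      rcases hA with rfl | rfl
      · rfl
      · simp [ene] at h1)
    (by simp)
    (by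
      intro k
      obtain ⟨z, rfl⟩ := Multiplicative.ofAdd.surjective k
      fin_cases z
      · exact ⟨pmat 0, by simp, by simp; rfl⟩
      · exact ⟨mono 7 1, by simp, by simp [ene]; rfl⟩) L hL
  refine hfin (inverted_normal T hcard (fun a ha b hb => ?_) hexp (fun n hn => ?_) ?_ ?_)
  · exact Subtype.ext (H.J_comm (mem_subgroupOf.1 (hT ▸ ha)) (mem_subgroupOf.1 (hT ▸ hb)))
  · have hnN : (n : G) ∈ H.N := by
      refine H.mem_N fun v => ?_
      obtain ⟨k, a, b, rfl⟩ := yspan v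
      have hgw : (n : G) * H.emb 7 * (n : G)⁻¹ = H.emb 7 := by
        rw [H.mem_C.1 (hL.le n.2) 7 List.mem_cons_self, mul_inv_cancel_right]
      have hab : H.emb (av (sm a 9) (sm b 4)) ∈ L := by
        rw [H.emb_add, H.emb_sm, H.emb_sm]
        exact mul_mem (pow_mem (hL.inv_mem _ hp.inv1) _) (pow_mem (hL.inv_mem _ hp.inv2) _)
      have := mem_subgroupOf.1 (hT ▸ (mem_normalizer_iff.1 hn ⟨_, hab⟩).1
        (hT.symm ▸ mem_subgroupOf.2 (H.emb_mem _)))
      rw [H.emb_add, ← MulAut.conj_apply, map_mul, H.emb_sm, map_pow, MulAut.conj_apply, hgw,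
        MulAut.conj_apply]
      exact mul_mem (pow_mem (H.emb_mem 7) _) this
    obtain ⟨M, hM⟩ := H.exists_induces_of_mem hnN
    rcases hst M (hM.stab (hL.le n.2)) with rfl | rfl
    · refine Or.inl (mem_centralizer_iff.2 fun q hq => Subtype.ext ?_)
      obtain ⟨v, hv⟩ : (q : G) ∈ H.J := mem_subgroupOf.1 (hT ▸ hq)
      show (q : G) * n = n * q
      have := hM v
      rw [app_pmat, pa_table.1, mul_inv_eq_iff_eq_mul] at this
      rw [← hv]; exact this.symm
    · refine Or.inr fun q hq => Subtype.ext ?_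
      obtain ⟨v, hv⟩ : (q : G) ∈ H.J := mem_subgroupOf.1 (hT ▸ hq)
      obtain ⟨a, b, rfl⟩ := hL.pair_mem hp (show H.emb v ∈ L by rw [hv]; exact q.2)
      have hneg : ∀ a b : Fin 3, app (mono 7 1) (av (sm a 9) (sm b 4)) =
          nv (av (sm a 9) (sm b 4)) := by decide +kernel
      show (n : G) * q * (n : G)⁻¹ = (q : G)⁻¹
      rw [← hv, hM, hneg, H.emb_nv]
  · obtain ⟨⟨n, hn⟩, hnX⟩ := hY
    obtain ⟨j, hj, l, hl, hnl⟩ := hL.split n (hn.mem_C hnX)
    have hlI : H.Induces l (mono 7 1) := fun v => by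
      obtain ⟨w, rfl⟩ := hj
      have h' := hn v
      rw [hnl] at h'
      calc l * H.emb v * l⁻¹
          = (H.emb w)⁻¹ * (H.emb w * l * H.emb v * (H.emb w * l)⁻¹) * H.emb w := by group
        _ = (H.emb w)⁻¹ * H.emb (app (mono 7 1) v) * H.emb w := by rw [h']
        _ = _ := by rw [mul_assoc, H.emb_comm (app (mono 7 1) v), inv_mul_cancel_left]
    refine ⟨⟨l, hl⟩, mem_normalizer_iff.2 fun q => ?_, fun q hq => Subtype.ext ?_⟩
    · rw [hT]
      show (q : G) ∈ H.J ↔ l * (q : G) * l⁻¹ ∈ H.J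
      exact mem_normalizer_iff.1 hlI.mem_N q
    · obtain ⟨v, hv⟩ : (q : G) ∈ H.J := mem_subgroupOf.1 (hT ▸ hq)
      obtain ⟨a, b, rfl⟩ := hL.pair_mem hp (show H.emb v ∈ L by rw [hv]; exact q.2)
      have hneg : ∀ a b : Fin 3, app (mono 7 1) (av (sm a 9) (sm b 4)) =
          nv (av (sm a 9) (sm b 4)) := by decide +kernel
      show l * (q : G) * l⁻¹ = (q : G)⁻¹
      rw [← hv, hlI, hneg, H.emb_nv]
  · intro R hR hRc a ha r hr
    haveI : Fact (Nat.Prime 3) := ⟨Nat.prime_three⟩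
    have hbot : ((Cfsg.pPrimeCore 3 L).map L.subtype : Subgroup G) = ⊥ := by
      refine H.eq_bot_of_normalized ?_ fun j hj => ?_
      · rw [← Nat.card_congr ((Cfsg.pPrimeCore 3 L).equivMapOfInjective _
          L.subtype_injective).toEquiv]
        exact CfsgLib.Solvable.coprime_card_pPrimeCore 3
      · have hconj : ∀ e ∈ H.J, ∀ w ∈ Cfsg.pPrimeCore 3 L,
            e * (w : G) * e⁻¹ ∈ (Cfsg.pPrimeCore 3 L).map L.subtype := by
          intro e he w hw
          let f : L →* L := MonoidHom.mk' (fun z => ⟨e * z * e⁻¹,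
            (mem_normalizer_iff.1 (hL.le_normalizer_J he) z).1 z.2⟩) fun a b => Subtype.ext (by
              show e * (a * b : G) * e⁻¹ = e * a * e⁻¹ * (e * b * e⁻¹); group)
          have hfi : Function.Injective f := fun a b e' => Subtype.ext
            (mul_left_cancel (mul_right_cancel (show e * (a : G) * e⁻¹ = e * b * e⁻¹ from
              congrArg Subtype.val e')))
          have hM := CfsgLib.Solvable.le_pPrimeCore 3
            ((CfsgLib.Solvable.pPrimeCore_normal (G := L) 3).map f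
              (Finite.surjective_of_injective hfi))
            (by rw [← Nat.card_congr ((Cfsg.pPrimeCore 3 L).equivMapOfInjective f hfi).toEquiv]
                exact CfsgLib.Solvable.coprime_card_pPrimeCore 3)
          exact ⟨f w, hM ⟨w, hw, rfl⟩, rfl⟩
        refine mem_normalizer_iff.2 fun z => ⟨?_, fun hz => ?_⟩
        · rintro ⟨w, hw, rfl⟩; exact hconj j hj w hw
        · obtain ⟨w, hw, hwz⟩ := hz
          have := hconj j⁻¹ (inv_mem hj) w hw
          rw [show (w : G) = j * z * j⁻¹ from hwz] at this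
          simpa [mul_assoc] using this
    have hr1 : (r : G) = 1 := mem_bot.1 (hbot ▸ ⟨r, CfsgLib.Solvable.le_pPrimeCore 3 hR hRc hr, rfl⟩)
    rw [show r = 1 from Subtype.ext hr1, one_mul, mul_one]

end Hyp

end CfsgLib.ThreeSymNine
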