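import Cfsg.Agent.ThreeSymNine.LocalB
import Cfsg.Agent.S0111

/-!
# The even monomial automizer: the involutions and the subgroup of index two
-/

set_option autoImplicit false
set_option maxRecDepth 100000
set_option linter.style.haveILetI false
set_option linter.unusedSectionVars false

namespace CfsgLib.ThreeSymNine

open CfsgLib.AltNine Subgroup

attribute [local instance 10000] List.decidableBAll List.decidableBEx

universe u

namespace Hyp

variable {G : Type u} [Group G] [Finite G] {H : Hyp G} {a b : G}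

theorem BData.t2 (_h : BData H a b) : H.S 1 * H.S 1 = 1 ∧ H.S 1 ≠ 1 := by
  refine ⟨by rw [H.S_mul, show pm 1 1 = 0 by decide +kernel, H.S_zero], fun e => ?_⟩
  exact absurd (H.indep 0 1 (by rw [H.emb_zero, one_mul]; exact e)).2 (by decide)

/-- The centralizer of the block transposition. -/
theorem BData.centralizer_t (h : BData H a b) {g : G} (hg : g * H.S 1 = H.S 1 * g) :
    ∃ v, app (pmat 1) v = v ∧ ∃ i k : ℕ, g = H.emb v * (H.S 1 ^ i * a ^ k) := by
  classical
  haveI : Fact (Nat.Prime 3) := ⟨Nat.prime_three⟩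
  obtain ⟨tcase, tst, ha4, ha9, ht4, ht9, -, -, -, -, tspan, tmono⟩ := b_cent_tau
  obtain ⟨ht2, ht1⟩ := h.t2
  set t := H.S 1
  have hT : H.Induces t (pmat 1) := H.induces_S 1
  set C := centralizer ({t} : Set G)
  have hCall : ∀ v, app (pmat 1) v = v → v ≠ 0 → H.C [v] ≤ H.N := fun v _ hv0 =>
    (H.C_singleton v).le.trans (signs_B_C_le h.signs hv0)
  have hstruct : ∀ n : G, n ∈ H.N → n * t = t * n →
      ∃ v, app (pmat 1) v = v ∧ ∃ i k : ℕ, n = H.emb v * (t ^ i * a ^ k) := by
    intro n hn hc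
    obtain ⟨M, hM⟩ := H.exists_induces_of_mem hn
    obtain ⟨d, hd, e, rfl⟩ := (h.signs M).1 ⟨n, hM⟩
    have hcv : ∀ v, app (mono d e) (app (pmat 1) v) = app (pmat 1) (app (mono d e) v) :=
      fun v => H.emb_inj (by rw [← hM.comp hT, ← hT.comp hM, hc])
    obtain ⟨hd', he', -, -⟩ := tcase d hd e hcv
    obtain ⟨i, k, hr⟩ : ∃ i k : ℕ, H.Induces (t ^ i * a ^ k) (mono d e) := by
      rw [tmono d (by rcases hd' with rfl | rfl <;> decide) e
        (by rcases he' with rfl | rfl <;> decide)]
      obtain ⟨i, hi⟩ : ∃ i : ℕ, H.Induces (t ^ i) (pmat e) := by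
        rcases he' with rfl | rfl
        · exact ⟨0, by rw [pow_zero, ← H.S_zero]; exact H.induces_S 0⟩
        · exact ⟨1, by rw [pow_one]; exact hT⟩
      obtain ⟨k, hk⟩ : ∃ k : ℕ, H.Induces (a ^ k) (dmat d) := by
        rcases hd' with rfl | rfl
        · refine ⟨0, ?_⟩
          rw [pow_zero, ← H.S_zero, show dmat 0 = pmat 0 by decide +kernel]
          exact H.induces_S 0
        · exact ⟨1, by rw [pow_one]; exact h.ia⟩
      exact ⟨i, k, hi.mul hk⟩
    have hct : Commute t (t ^ i * a ^ k) :=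
      (Commute.self_pow t i).mul_right ((show Commute t a from h.ta).pow_right k)
    obtain ⟨w, hw⟩ : (t ^ i * a ^ k)⁻¹ * n ∈ H.J := hM.mul_inv_mem hr
    refine ⟨app (mono d e) w, ?_, i, k, ?_⟩
    · rw [← hcv]
      congr 1
      refine H.emb_inj ?_
      rw [← hT w, hw, (hct.inv_right.mul_right (show Commute t n from hc.symm)).eq,
        mul_inv_cancel_right]
    · rw [← hr w, hw]; group
  have h4 : H.emb 4 * t = t * H.emb 4 := by
    have := hT 4; rw [ht4, mul_inv_eq_iff_eq_mul] at this; exact this.symm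
  have h9 : H.emb 9 * t = t * H.emb 9 := by
    have := hT 9; rw [ht9, mul_inv_eq_iff_eq_mul] at this; exact this.symm
  obtain ⟨Q, hQ, hnQ⟩ := H.sylow_centralizer hT hCall ⟨13, by decide +kernel, by decide⟩
    fun M hM hc v => by
      obtain ⟨d, hd, e, rfl⟩ := (h.signs M).1 hM
      exact (tcase d hd e hc).2.2.1 v
  have hmemQ : ∀ {y : C}, y ∈ (Q : Subgroup C) ↔ (y : G) ∈ H.Fix t := fun {y} => by
    rw [hQ, mem_subgroupOf]
  obtain ⟨φ, hfix, hinv⟩ := exists_transfer Q fun p hp q hq =>
    Subtype.ext (H.J_comm (hmemQ.1 hp).1 (hmemQ.1 hq).1)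
  let tC : C := ⟨t, mem_centralizer_singleton_iff.2 rfl⟩
  let qC : C := ⟨H.emb 4, mem_centralizer_singleton_iff.2 h4⟩
  let eC : C := ⟨H.emb 9, mem_centralizer_singleton_iff.2 h9⟩
  let aC : C := ⟨a, mem_centralizer_singleton_iff.2 h.ta.symm⟩
  have hcube : ∀ q : (Q : Subgroup C), q ^ 3 = 1 := fun q =>
    Subtype.ext (Subtype.ext (H.J_cube (hmemQ.1 q.2).1))
  have hsq : ∀ q : (Q : Subgroup C), q * q = 1 → q = 1 := fun q hq => by
    have h3 := hcube q
    rwa [pow_succ, pow_two, hq, one_mul] at h3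
  have hq1 : φ qC = 1 := hsq _ (hinv qC aC (Subtype.ext (show a * H.emb 4 * a⁻¹ = (H.emb 4)⁻¹ by
    rw [h.ia, ha4, H.emb_nv])))
  have ht0 : φ tC = 1 := hsq _ (by
    rw [← map_mul, show tC * tC = 1 from Subtype.ext ht2, map_one])
  have he1 : φ eC ≠ 1 := by
    intro e1
    have := hfix eC (hmemQ.2 ((H.mem_Fix hT).2 ⟨9, ht9, rfl⟩)) fun n hn => Subtype.ext (by
      obtain ⟨v, -, i, k, hnv⟩ := hstruct n (hnQ n hn) (mem_centralizer_singleton_iff.1 n.2)
      show (n : G) * H.emb 9 * (n : G)⁻¹ = H.emb 9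
      have c1 : Commute (H.emb 9) (H.emb v) := H.emb_comm 9 v
      have c2 : Commute (H.emb 9) a := by
        have := h.ia 9; rw [ha9, mul_inv_eq_iff_eq_mul] at this; exact this.symm
      rw [hnv, ← (c1.mul_right (((show Commute (H.emb 9) t from h9).pow_right i).mul_right
        (c2.pow_right k))).eq, mul_inv_cancel_right])
    rw [e1, OneMemClass.coe_one] at this
    have hcop : Nat.Coprime (Q : Subgroup C).index 3 :=
      (Nat.prime_three.coprime_iff_not_dvd.2 Q.not_dvd_index).symm
    have h1 : eC = 1 := orderOf_eq_one_iff.1 (Nat.eq_one_of_dvd_coprimes hcop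
      (orderOf_dvd_of_pow_eq_one this.symm)
      (orderOf_dvd_of_pow_eq_one (Subtype.ext (H.emb_cube 9))))
    exact absurd (H.emb_inj ((congrArg Subtype.val h1).trans H.emb_zero.symm)) (by decide)
  -- the quotient by the involution
  set Z : Subgroup C := zpowers tC
  haveI hZn : Z.Normal := by
    refine ⟨fun z hz c => ?_⟩
    obtain ⟨i, rfl⟩ := hz
    have : Commute c tC := Subtype.ext (mem_centralizer_singleton_iff.1 c.2)
    show c * tC ^ i * c⁻¹ ∈ Z
    rw [(this.zpow_right i).eq, mul_inv_cancel_right]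
    exact zpow_mem (mem_zpowers _) i
  have hZmem : ∀ z ∈ Z, z = 1 ∨ z = tC := by
    rintro _ ⟨i, rfl⟩
    have htt : tC * tC = 1 := Subtype.ext ht2
    rcases Int.even_or_odd i with ⟨m, rfl⟩ | ⟨m, rfl⟩
    · left; show tC ^ (m + m) = 1; rw [← two_mul, zpow_mul, zpow_two, htt, one_zpow]
    · right; show tC ^ (2 * m + 1) = tC
      rw [zpow_add, zpow_mul, zpow_two, htt, one_zpow, one_mul, zpow_one]
  set π := QuotientGroup.mk' Z
  set E := (Q : Subgroup C).map π
  set L := φ.ker.map π
  haveI hLn : L.Normal := φ.normal_ker.map π (QuotientGroup.mk'_surjective Z)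
  have hq3 : orderOf (π qC) = 3 := by
    refine orderOf_eq_prime (by rw [← map_pow, show qC ^ 3 = 1 from Subtype.ext (H.emb_cube 4),
      map_one]) fun e => ?_
    rcases hZmem qC ((QuotientGroup.eq_one_iff qC).1 e) with e1 | e1
    · exact absurd (H.emb_inj ((congrArg Subtype.val e1).trans H.emb_zero.symm)) (by decide)
    · have h3 := H.emb_cube 4
      rw [show H.emb 4 = t from congrArg Subtype.val e1, pow_succ, pow_two, ht2, one_mul] at h3
      exact ht1 h3
  obtain ⟨hcard, hnormq⟩ := small_of_self_centralizing (E := E) (L := L) (Q.2.map π)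
    (by rw [normalizer_eq_top_iff.2 hLn]; exact le_top)
    (fun R hRL hRc hRn => by
      set X := R.comap π
      have hcardX : Nat.card X = Nat.card R * Nat.card Z := by
        have h1 := (Z.subgroupOf X).card_mul_index
        have hZX : Z ≤ X := fun z hz => by
          show π z ∈ R
          rw [show π z = 1 from (QuotientGroup.eq_one_iff z).2 hz]; exact one_mem _
        rw [Nat.card_congr (subgroupOfEquivOfLe hZX).toEquiv] at h1
        have h2 : (Z.subgroupOf X).index = Nat.card R := by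
          let f : X →* R := (π.comp X.subtype).codRestrict R fun x => x.2
          have hf : Function.Surjective f := fun r => by
            obtain ⟨c, hc⟩ := QuotientGroup.mk'_surjective Z r
            exact ⟨⟨c, show π c ∈ R by rw [hc]; exact r.2⟩, Subtype.ext hc⟩
          rw [show Z.subgroupOf X = f.ker by
            ext x
            rw [MonoidHom.mem_ker, mem_subgroupOf]
            exact ⟨fun hx => Subtype.ext ((QuotientGroup.eq_one_iff (x : C)).2 hx),
              fun hx => (QuotientGroup.eq_one_iff (x : C)).1 (congrArg Subtype.val hx)⟩,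
            Subgroup.index_ker, MonoidHom.range_eq_top.2 hf, Subgroup.card_top]
        rw [← h1, h2, mul_comm]
      have hXc : (Nat.card (X.map C.subtype)).Coprime 3 := by
        rw [← Nat.card_congr (X.equivMapOfInjective _ C.subtype_injective).toEquiv, hcardX]
        refine Nat.Coprime.mul_left hRc ?_
        rw [Nat.card_zpowers, show orderOf tC = 2 from orderOf_eq_prime
          (by rw [pow_two]; exact Subtype.ext ht2) fun e => ht1 (congrArg Subtype.val e)]
        norm_num
      have hle : X.map C.subtype ≤ zpowers t := by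
        refine H.signalizer_le hT ht2 caseA_fix.ge
          (fun v hv hv0 => inf_le_right.trans (hCall v hv hv0)) (fun M hM hf => ?_)
          (map_subtype_le _) hXc ?_
        · obtain ⟨d, hd, e, rfl⟩ := (h.signs M).1 hM
          exact tst d hd e hf
        · intro e he
          let eC' : C := ⟨e, he.2⟩
          have heE : π eC' ∈ E := ⟨eC', hmemQ.2 he, rfl⟩
          have key : ∀ w : C, w ∈ X ↔ eC' * w * eC'⁻¹ ∈ X := fun w => by
            show π w ∈ R ↔ π (eC' * w * eC'⁻¹) ∈ R
            rw [map_mul, map_mul, map_inv]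
            exact mem_normalizer_iff.1 (hRn heE) (π w)
          refine mem_normalizer_iff.2 fun y => ⟨?_, fun hy => ?_⟩
          · rintro ⟨w, hw, rfl⟩
            exact ⟨eC' * w * eC'⁻¹, (key w).1 hw, rfl⟩
          · obtain ⟨w, hw, hwy⟩ := hy
            refine ⟨eC'⁻¹ * w * eC', (key _).2 ?_, ?_⟩
            · rw [show eC' * (eC'⁻¹ * w * eC') * eC'⁻¹ = w by group]; exact hw
            · show e⁻¹ * (w : G) * e = y
              rw [show (w : G) = e * y * e⁻¹ from hwy]; group
      refine eq_bot_iff.2 fun r hr => ?_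
      obtain ⟨c, rfl⟩ := QuotientGroup.mk'_surjective Z r
      obtain ⟨i, hi⟩ := hle ⟨c, hr, rfl⟩
      exact mem_bot.2 ((QuotientGroup.eq_one_iff c).2 ⟨i, Subtype.ext hi⟩))
    (q := π qC) ⟨qC, hq1, rfl⟩ hq3
    (fun y hy hyq => by
      obtain ⟨r, hr, rfl⟩ := hy
      have hz : r * qC * r⁻¹ * qC⁻¹ ∈ Z := (QuotientGroup.eq_one_iff _).1 (by
        show π (r * qC * r⁻¹ * qC⁻¹) = 1
        rw [map_mul, map_mul, map_mul, hyq, map_inv, map_inv]; group)
      rcases hZmem _ hz with e | e
      · have hrq : (r : G) * H.emb 4 = H.emb 4 * r := by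
          have := congrArg Subtype.val (mul_inv_eq_one.1 e)
          exact mul_inv_eq_iff_eq_mul.1 this
        obtain ⟨v, hv, i, k, hrv⟩ := hstruct r
          (hCall 4 ht4 (by decide) (H.mem_C.2 fun w hw => by
            rw [List.mem_singleton.1 hw]; exact hrq))
          (mem_centralizer_singleton_iff.1 r.2)
        have hak : a ^ k = 1 := by
          rcases Nat.even_or_odd k with ⟨m, rfl⟩ | ⟨m, rfl⟩
          · rw [← two_mul, pow_mul, pow_two, h.a2, one_pow]
          · exfalso
            rw [pow_succ, pow_mul, pow_two, h.a2, one_pow, one_mul] at hrv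
            have c1 : Commute (H.emb 4) (H.emb v) := H.emb_comm 4 v
            have c2 : Commute (H.emb 4) (t ^ i) := (show Commute (H.emb 4) t from h4).pow_right i
            have hca : Commute (H.emb 4) a := by
              have hr' : Commute (H.emb 4) (H.emb v * (t ^ i * a)) := hrv ▸ hrq.symm
              have := c2.inv_right.mul_right (c1.inv_right.mul_right hr')
              rwa [inv_mul_cancel_left, inv_mul_cancel_left] at this
            have h44 := h.ia 4
            rw [ha4, ← hca.eq, mul_inv_cancel_right] at h44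
            exact absurd (H.emb_inj h44) (by decide +kernel)
        rw [hak, mul_one] at hrv
        obtain ⟨k1, m1, rfl⟩ := tspan v hv
        have hr' : r = qC ^ (k1 : ℕ) * eC ^ (m1 : ℕ) * tC ^ i := Subtype.ext (by
          rw [hrv, H.emb_add, H.emb_sm, H.emb_sm]; rfl)
        have hm : φ eC ^ (m1 : ℕ) = 1 := by
          have : φ r = 1 := hr
          rwa [hr', map_mul, map_mul, map_pow, map_pow, map_pow, hq1, ht0, one_pow, one_pow,
            one_mul, mul_one] at this
        have hm0 : (m1 : ℕ) = 0 := by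
          by_contra hne
          have ho : orderOf (φ eC) = 3 := orderOf_eq_prime (hcube _) he1
          have := Nat.le_of_dvd (Nat.pos_of_ne_zero hne) (ho ▸ orderOf_dvd_of_pow_eq_one hm)
          omega
        rw [hr', hm0, pow_zero, mul_one, map_mul, map_pow, map_pow,
          show π tC = 1 from (QuotientGroup.eq_one_iff tC).2 (mem_zpowers _), one_pow, mul_one]
        exact pow_mem (mem_zpowers _) _
      · exfalso
        have e' : (r : G) * H.emb 4 * (r : G)⁻¹ = t * H.emb 4 := by
          have := congrArg Subtype.val (mul_inv_eq_iff_eq_mul.1 e)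
          exact this
        have h3 : ((r : G) * H.emb 4 * (r : G)⁻¹) ^ 3 = 1 := by
          rw [conj_pow, H.emb_cube, mul_one, mul_inv_cancel]
        rw [e', (show Commute t (H.emb 4) from h4.symm).mul_pow, H.emb_cube, mul_one, pow_succ,
          pow_two, ht2, one_mul] at h3
        exact ht1 h3)
  -- the image of `4` generates the only subgroup of order three of the image of the kernel
  have hqL : π qC ∈ L := ⟨qC, hq1, rfl⟩
  have honly : ∀ y ∈ L, y ^ 3 = 1 → y ∈ zpowers (π qC) := by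
    intro y hy hy3
    set Z3 := (zpowers (π qC)).subgroupOf L
    have hc3 : Nat.card Z3 = 3 := by
      rw [Nat.card_congr (subgroupOfEquivOfLe (zpowers_le.2 hqL)).toEquiv, Nat.card_zpowers, hq3]
    have hm := Z3.card_mul_index
    rw [hc3] at hm
    rcases hcard with h3 | h6
    · rw [h3] at hm
      have : Z3 = ⊤ := index_eq_one.1 (by omega)
      exact (this ▸ mem_top (⟨y, hy⟩ : L) : (⟨y, hy⟩ : L) ∈ Z3)
    · rw [h6] at hm
      have hy2 : (⟨y, hy⟩ : L) * ⟨y, hy⟩ ∈ Z3 := mul_self_mem_of_index_two (by omega) _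
      have hy4 : y * y * (y * y) ∈ zpowers (π qC) := mul_mem hy2 hy2
      rwa [show y * y * (y * y) = y ^ 3 * y by rw [pow_succ, pow_two]; group, hy3, one_mul] at hy4
  let gC : C := ⟨g, mem_centralizer_singleton_iff.2 hg⟩
  obtain ⟨m, hm⟩ := honly (π (gC * qC * gC⁻¹)) ⟨_, φ.normal_ker.conj_mem qC hq1 gC, rfl⟩ (by
    rw [← map_pow, conj_pow, show qC ^ 3 = 1 from Subtype.ext (H.emb_cube 4), mul_one,
      mul_inv_cancel, map_one])
  have hz : (qC ^ m)⁻¹ * (gC * qC * gC⁻¹) ∈ Z := QuotientGroup.eq.1 (by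
    show π (qC ^ m) = π (gC * qC * gC⁻¹)
    rw [map_zpow]; exact hm)
  rcases hZmem _ hz with e | e
  · have e' : g * H.emb 4 * g⁻¹ = H.emb 4 ^ m := (congrArg Subtype.val (inv_mul_eq_one.1 e)).symm
    obtain ⟨w, hw⟩ : H.emb 4 ^ m ∈ H.J := zpow_mem (H.emb_mem 4) m
    have hw0 : w ≠ 0 := fun e0 => by
      rw [e0, H.emb_zero] at hw
      rw [← hw, conj_eq_one_iff] at e'
      exact absurd (H.emb_inj (e'.trans H.emb_zero.symm)) (by decide)
    exact hstruct g (H.mem_N_of_fusion (e'.trans hw.symm) (signs_B_C_le h.signs hw0)) hg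
  · exfalso
    have e' : g * H.emb 4 * g⁻¹ = H.emb 4 ^ m * t := by
      have := congrArg Subtype.val (inv_mul_eq_iff_eq_mul.1 e)
      exact this
    have h3 : (g * H.emb 4 * g⁻¹) ^ 3 = 1 := by
      rw [conj_pow, H.emb_cube, mul_one, mul_inv_cancel]
    rw [e', ((show Commute (H.emb 4) t from h4).zpow_left m).mul_pow, ← zpow_natCast, ← zpow_mul,
      mul_comm m, zpow_mul, zpow_natCast, H.emb_cube, one_zpow, one_mul, pow_succ, pow_two, ht2,
      one_mul] at h3
    exact ht1 h3

/-- The sign involution is not conjugate to the block transposition. -/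
theorem BData.not_conj (h : BData H a b) (g : G) : g * a * g⁻¹ ≠ H.S 1 := by
  classical
  intro e
  obtain ⟨ht2, ht1⟩ := h.t2
  obtain ⟨-, -, ha4, ha9, ht4, ht9, -, -, -, -, tspan, -⟩ := b_cent_tau
  -- the transported elementary abelian group of order nine lies in the centralizer of `9`
  have hc : ∀ w : Fin 27, app (pmat 1) w = w → Commute (g⁻¹ * H.emb w * g) a := by
    intro w hw
    have hwt : Commute (H.emb w) (H.S 1) := by
      have := H.induces_S 1 w
      rw [hw, mul_inv_eq_iff_eq_mul] at this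
      exact this.symm
    have ha : a = g⁻¹ * H.S 1 * g := by rw [← e]; group
    show g⁻¹ * H.emb w * g * a = a * (g⁻¹ * H.emb w * g)
    rw [ha]
    calc g⁻¹ * H.emb w * g * (g⁻¹ * H.S 1 * g) = g⁻¹ * (H.emb w * H.S 1) * g := by group
      _ = g⁻¹ * (H.S 1 * H.emb w) * g := by rw [hwt.eq]
      _ = _ := by group
  have ha9' : Commute (g * H.emb 9 * g⁻¹) (H.S 1) := by
    have hca : H.emb 9 * a = a * H.emb 9 := by
      have := h.ia 9; rw [ha9, mul_inv_eq_iff_eq_mul] at this; exact this.symm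
    rw [← e]
    show g * H.emb 9 * g⁻¹ * (g * a * g⁻¹) = g * a * g⁻¹ * (g * H.emb 9 * g⁻¹)
    calc g * H.emb 9 * g⁻¹ * (g * a * g⁻¹) = g * (H.emb 9 * a) * g⁻¹ := by group
      _ = g * (a * H.emb 9) * g⁻¹ := by rw [hca]
      _ = _ := by group
  obtain ⟨v, hv, i, k, hvk⟩ := h.centralizer_t ha9'.eq
  have hin : g * H.emb 9 * g⁻¹ ∈ H.J := by
    have c1 : Commute (H.emb v) (H.S 1) := by
      have := H.induces_S 1 v
      rw [hv, mul_inv_eq_iff_eq_mul] at this
      exact this.symm
    have h3 : (g * H.emb 9 * g⁻¹) ^ 4 = g * H.emb 9 * g⁻¹ := by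
      rw [pow_succ, conj_pow, H.emb_cube, mul_one, mul_inv_cancel, one_mul]
    have hj : ∀ n : G, n = H.emb v * (H.S 1 ^ i * a ^ k) → n ^ 4 ∈ H.J := by
      intro n hn
      obtain ⟨M, hM⟩ := H.exists_induces_of_mem (g := n) (by
        rw [hn]
        exact mul_mem (H.J_le_N (H.emb_mem v)) (mul_mem (pow_mem (H.induces_S 1).mem_N i)
          (pow_mem h.ia.mem_N k)))
      obtain ⟨d, hd, x, rfl⟩ := (h.signs M).1 ⟨_, hM⟩
      have hnt : Commute n (H.S 1) := by
        rw [hn]
        exact c1.mul_left (((Commute.self_pow (H.S 1) i).symm).mul_left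
          ((show Commute a (H.S 1) from h.ta.symm).pow_left k))
      refine H.mem_J_of_induces_one fun w => ?_
      rw [app_pmat, pa_table.1, show n ^ 4 = n * n * (n * n) by
        rw [pow_succ, pow_succ, pow_two]; group, (hM.mul hM).comp (hM.mul hM), hM.app_mm hM,
        hM.app_mm hM, (b_cent_tau.1 d hd x fun u => H.emb_inj (by
          rw [← hM.comp (H.induces_S 1), ← (H.induces_S 1).comp hM, hnt.eq])).2.2.1 w]
    rw [← h3]
    exact hj _ hvk
  obtain ⟨w, hw⟩ := hin
  have hw0 : w ≠ 0 := fun e0 => by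
    rw [e0, H.emb_zero, eq_comm, conj_eq_one_iff] at hw
    exact absurd (H.emb_inj (hw.trans H.emb_zero.symm)) (by decide)
  have hgN := H.mem_N_of_fusion hw.symm (signs_B_C_le h.signs hw0)
  obtain ⟨M, hM⟩ := H.exists_induces_of_mem hgN
  have key : app M (app (dmat 3) 4) = app (pmat 1) (app M 4) := H.emb_inj (by
    rw [← hM.comp h.ia, ← (H.induces_S 1).comp hM, ← e]; group)
  obtain ⟨d, hd, x, rfl⟩ := (h.signs M).1 ⟨g, hM⟩
  have key2 : app (mono d x) (app (dmat 3) 1) = app (pmat 1) (app (mono d x) 1) := H.emb_inj (by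
    rw [← hM.comp h.ia, ← (H.induces_S 1).comp hM, ← e]; group)
  have : ∀ d ∈ evenSigns, ∀ x : Fin 6, app (mono d x) (app (dmat 3) 4) = app (pmat 1) (app (mono d x) 4) →
      app (mono d x) (app (dmat 3) 1) ≠ app (pmat 1) (app (mono d x) 1) := by decide +kernel
  exact this d hd x key key2

/-- A Sylow two-subgroup is the four-group of signs extended by the block transposition. -/
theorem BData.exists_sylow (h : BData H a b) :
    ∃ S : Sylow 2 G, H.S 1 ∈ (S : Subgroup G) ∧ a ∈ (S : Subgroup G) ∧ b ∈ (S : Subgroup G) ∧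
      ∀ s ∈ (S : Subgroup G), ∃ i k m : ℕ, s = a ^ i * b ^ k * H.S 1 ^ m := by
  classical
  haveI : Fact (Nat.Prime 2) := ⟨Nat.prime_two⟩
  obtain ⟨ht2, ht1⟩ := h.t2
  set t := H.S 1
  have hsq : ∀ {w : G}, w * w = 1 → ∀ i : ℕ, w ^ i = 1 ∨ w ^ i = w := fun {w} hw i => by
    rcases Nat.even_or_odd i with ⟨n, rfl⟩ | ⟨n, rfl⟩
    · left; rw [← two_mul, pow_mul, pow_two, hw, one_pow]
    · right; rw [pow_succ, pow_mul, pow_two, hw, one_pow, one_mul]
  have hai : a⁻¹ = a := inv_eq_of_mul_eq_one_right h.a2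
  have hbi : b⁻¹ = b := inv_eq_of_mul_eq_one_right h.b2
  have hti : t⁻¹ = t := inv_eq_of_mul_eq_one_right ht2
  have htb : t * b = a * b * t := by
    rw [← h.tbt, mul_assoc, ht2, mul_one]
  -- the group of order eight
  have hbt : ∀ k : ℕ, ∃ i, t * b ^ k = a ^ i * b ^ k * t := fun k => by
    rcases hsq h.b2 k with e | e <;> rw [e]
    · exact ⟨0, by simp⟩
    · exact ⟨1, by rw [pow_one]; exact htb⟩
  have hmove : ∀ (m i k : ℕ), ∃ i', t ^ m * (a ^ i * b ^ k) = a ^ i' * b ^ k * t ^ m := by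
    intro m i k
    rcases hsq ht2 m with e | e <;> rw [e]
    · exact ⟨i, by simp⟩
    · obtain ⟨i', hi'⟩ := hbt k
      refine ⟨i + i', ?_⟩
      rw [← mul_assoc, ((show Commute t a from h.ta).pow_right i).eq, mul_assoc, hi', pow_add]
      group
  let T : Subgroup G :=
    { carrier := {s | ∃ i k m : ℕ, s = a ^ i * b ^ k * t ^ m}
      one_mem' := ⟨0, 0, 0, by simp⟩
      mul_mem' := by
        rintro _ _ ⟨i, k, m, rfl⟩ ⟨i2, k2, m2, rfl⟩
        obtain ⟨i', hi'⟩ := hmove m i2 k2
        refine ⟨i + i', k + k2, m + m2, ?_⟩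
        calc a ^ i * b ^ k * t ^ m * (a ^ i2 * b ^ k2 * t ^ m2)
            = a ^ i * b ^ k * (t ^ m * (a ^ i2 * b ^ k2)) * t ^ m2 := by group
          _ = a ^ i * (b ^ k * a ^ i') * b ^ k2 * (t ^ m * t ^ m2) := by rw [hi']; group
          _ = _ := by
            rw [((show Commute b a from h.ab.symm).pow_pow k i').eq, pow_add, pow_add, pow_add]
            group
      inv_mem' := by
        rintro _ ⟨i, k, m, rfl⟩
        obtain ⟨i', hi'⟩ := hmove m i k
        refine ⟨i', k, m, ?_⟩
        rw [mul_inv_rev, mul_inv_rev, ← inv_pow, ← inv_pow, ← inv_pow, hai, hbi, hti,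
          ((show Commute b a from h.ab.symm).pow_pow k i).eq, hi'] }
  have haT : a ∈ T := ⟨1, 0, 0, by simp⟩
  have hbT : b ∈ T := ⟨0, 1, 0, by simp⟩
  have htT : t ∈ T := ⟨0, 0, 1, by simp⟩
  have hTp : IsPGroup 2 T := fun s => by
    obtain ⟨i, k, m, hs⟩ := s.2
    refine ⟨2, Subtype.ext ?_⟩
    show (s : G) ^ 4 = 1
    have habk : (a ^ i * b ^ k) * (a ^ i * b ^ k) = 1 := by
      rw [((show Commute b a from h.ab.symm).pow_pow k i).mul_mul_mul_comm, ← pow_add, ← pow_add,
        ← two_mul, ← two_mul, pow_mul, pow_mul, pow_two, pow_two, h.a2, h.b2, one_pow, one_pow,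
        mul_one]
    obtain ⟨i', hi'⟩ := hmove m i k
    have h2 : (s : G) * s = a ^ (i + i') := by
      rw [hs]
      calc a ^ i * b ^ k * t ^ m * (a ^ i * b ^ k * t ^ m)
          = a ^ i * b ^ k * (t ^ m * (a ^ i * b ^ k)) * t ^ m := by group
        _ = a ^ i * (b ^ k * a ^ i') * b ^ k * (t ^ m * t ^ m) := by rw [hi']; group
        _ = a ^ (i + i') * (b * b) ^ k * (t * t) ^ m := by
          rw [((show Commute b a from h.ab.symm).pow_pow k i').eq, (Commute.refl b).mul_pow,
            (Commute.refl t).mul_pow, pow_add]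
          group
        _ = _ := by rw [h.b2, ht2, one_pow, one_pow, mul_one, mul_one]
    rw [show (4 : ℕ) = 2 * 2 from rfl, pow_mul, pow_two, pow_two, h2]
    rcases hsq h.a2 (i + i') with e | e <;> rw [e]
    · simp
    · exact h.a2
  obtain ⟨S, hS⟩ := hTp.exists_le_sylow
  have hle : (S : Subgroup G) ≤ T := by
    -- the centralizer of `t` meets the Sylow subgroup in the four-group
    have hct : ∀ s ∈ (S : Subgroup G), s * t = t * s → s ∈ T := by
      intro s hs hst
      obtain ⟨v, -, i, k, hsv⟩ := h.centralizer_t hst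
      have hr : t ^ i * a ^ k ∈ T := mul_mem (pow_mem htT i) (pow_mem haT k)
      have hvS : H.emb v ∈ (S : Subgroup G) := by
        have := mul_mem hs (inv_mem (hS hr))
        rwa [hsv, mul_inv_cancel_right] at this
      obtain ⟨n, hn⟩ := S.2 ⟨_, hvS⟩
      have h1 : H.emb v = 1 := orderOf_eq_one_iff.1 (Nat.eq_one_of_dvd_coprimes
        ((Nat.coprime_primes Nat.prime_two Nat.prime_three).2 (by norm_num) |>.pow_left n)
        (orderOf_dvd_of_pow_eq_one (congrArg Subtype.val hn : H.emb v ^ 2 ^ n = 1))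
        (orderOf_dvd_of_pow_eq_one (H.emb_cube v)))
      rw [hsv, h1, one_mul]; exact hr
    by_contra hST
    have hlt : T.subgroupOf (S : Subgroup G) < ⊤ :=
      lt_top_iff_ne_top.2 fun e' => hST (subgroupOf_eq_top.1 e')
    haveI := S.2.isNilpotent
    obtain ⟨⟨n, hnS⟩, hnn, hnT⟩ := SetLike.exists_of_lt
      (Group.normalizerCondition_of_isNilpotent _ hlt)
    apply hnT
    show n ∈ T
    obtain ⟨i, k, m, hs⟩ : n * t * n⁻¹ ∈ T :=
      (mem_normalizer_iff.1 hnn ⟨t, hS htT⟩).1 htT
    have hsq2 : (n * t * n⁻¹) * (n * t * n⁻¹) = 1 := by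
      rw [show n * t * n⁻¹ * (n * t * n⁻¹) = n * (t * t) * n⁻¹ by group, ht2, mul_one,
        mul_inv_cancel]
    -- it is not a sign involution
    have hnoD : ∀ c : G, (c = a ∨ c = b ∨ c = a * b) → n * t * n⁻¹ ≠ c := by
      have hab6 : ∀ {M M' : Mat} {c c' x : G}, H.Induces c M → H.Induces c' M' → c * c = 1 →
          c' * c' = 1 → H.Induces (x * c * x⁻¹) M' → ∃ y : G, y * c * y⁻¹ = c' := by
        intro M M' c c' x hc hc' hc2 hc2' hx
        obtain ⟨z, -, hz⟩ := invol_conj hx hc'
          (by rw [show x * c * x⁻¹ * (x * c * x⁻¹) = x * (c * c) * x⁻¹ by group, hc2, mul_one,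
            mul_inv_cancel]) hc2'
        exact ⟨z * x, by rw [← hz]; group⟩
      have hab2 : a * b * (a * b) = 1 := by
        rw [mul_assoc, ← mul_assoc b, ← h.ab, mul_assoc, h.b2, mul_one, h.a2]
      have hab : ∃ y, y * a * y⁻¹ = a * b := by
        refine hab6 (x := H.S 4) h.ia (h.ia.mul h.ib) h.a2 hab2 ?_
        rw [show (H.S 4)⁻¹ = H.S 5 from by rw [H.S_inv]; rfl,
          show mm (dmat 3) (dmat 5) = mm (mm (pmat 4) (dmat 3)) (pmat 5) by
            rw [b_klein.2.2.2.2.1]; decide +kernel]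
        exact ((H.induces_S 4).mul h.ia).mul (H.induces_S 5)
      obtain ⟨y, hy⟩ := hab
      have hb' : ∃ y, y * a * y⁻¹ = b := ⟨t * y, by
        rw [mul_inv_rev, hti]
        calc t * y * a * (y⁻¹ * t) = t * (y * a * y⁻¹) * t := by group
          _ = t * (t * b * t) * t := by rw [hy, h.tbt]
          _ = (t * t) * b * (t * t) := by group
          _ = b := by rw [ht2, one_mul, mul_one]⟩
      intro c hc hn'
      obtain ⟨z, hz⟩ : ∃ z, z * a * z⁻¹ = c := by
        rcases hc with rfl | rfl | rfl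
        · exact ⟨1, by simp⟩
        · exact hb'
        · exact ⟨y, hy⟩
      refine h.not_conj (n⁻¹ * z) ?_
      calc n⁻¹ * z * a * (n⁻¹ * z)⁻¹ = n⁻¹ * (z * a * z⁻¹) * n := by group
        _ = n⁻¹ * (n * t * n⁻¹) * n := by rw [hz, hn']
        _ = t := by group
    have hconjb : b * t * b⁻¹ = a * t := by
      rw [hbi, mul_assoc, htb, ← mul_assoc, ← mul_assoc, ← h.ab, mul_assoc a, h.b2, mul_one]
    rcases hsq ht2 m with em | em
    · exfalso
      rw [em, mul_one] at hs
      rcases hsq h.a2 i with e | e <;> rcases hsq h.b2 k with e' | e' <;> rw [e, e'] at hs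
      · rw [one_mul, conj_eq_one_iff] at hs; exact ht1 hs
      · exact hnoD b (Or.inr (Or.inl rfl)) (by rw [hs, one_mul])
      · exact hnoD a (Or.inl rfl) (by rw [hs, mul_one])
      · exact hnoD _ (Or.inr (Or.inr rfl)) hs
    rw [em] at hs
    rcases hsq h.b2 k with e' | e'
    · rw [e', mul_one] at hs
      rcases hsq h.a2 i with e | e <;> rw [e] at hs
      · exact hct n hnS (mul_inv_eq_iff_eq_mul.1 (hs.trans (one_mul t)))
      · have hb1 : b⁻¹ * n * t = t * (b⁻¹ * n) := by
          calc b⁻¹ * n * t = b⁻¹ * (n * t * n⁻¹) * n := by group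
            _ = b⁻¹ * (b * t * b⁻¹) * n := by rw [hs, hconjb]
            _ = _ := by group
        have := mul_mem hbT (hct _ (mul_mem (inv_mem (hS hbT)) hnS) hb1)
        rwa [mul_inv_cancel_left] at this
    · exfalso
      rw [e'] at hs
      rw [hs] at hsq2
      have hx : a ^ i * b * t * (a ^ i * b * t) = a := by
        calc a ^ i * b * t * (a ^ i * b * t) = a ^ i * b * (t * a ^ i) * b * t := by group
          _ = a ^ i * (b * a ^ i) * (t * b) * t := by
            rw [((show Commute t a from h.ta).pow_right i).eq]; group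
          _ = a ^ i * (a ^ i * b) * (a * b * t) * t := by
            rw [((show Commute b a from h.ab.symm).pow_right i).eq, htb]
          _ = (a * a) ^ i * (b * a * b) * (t * t) := by rw [(Commute.refl a).mul_pow]; group
          _ = a := by rw [h.a2, one_pow, one_mul, ← h.ab, mul_assoc a b b, h.b2, mul_one, ht2, mul_one]
      rw [hx] at hsq2
      have hane : a ≠ 1 := fun e => by
        have := (show H.Induces a (pmat 0) from e ▸ H.induces_J (one_mem _)).unique h.ia
        exact absurd this (by decide +kernel)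
      exact hane hsq2
  exact ⟨S, hS htT, hS haT, hS hbT, fun s hs => hle hs⟩

/-- An index-two subgroup avoiding the block transposition. -/
theorem BData.exists_index_two (h : BData H a b) :
    ∃ G1 : Subgroup G, G1.Normal ∧ G1.index = 2 ∧ H.S 1 ∉ G1 ∧ a ∈ G1 ∧ b ∈ G1 := by
  classical
  haveI : Fact (Nat.Prime 2) := ⟨Nat.prime_two⟩
  obtain ⟨ht2, ht1⟩ := h.t2
  set t := H.S 1
  obtain ⟨S, htS, haS, hbS, hS⟩ := h.exists_sylow
  have hai : a⁻¹ = a := inv_eq_of_mul_eq_one_right h.a2
  have hbi : b⁻¹ = b := inv_eq_of_mul_eq_one_right h.b2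
  have hsq : ∀ {w : G}, w * w = 1 → ∀ i : ℕ, w ^ i = 1 ∨ w ^ i = w := fun {w} hw i => by
    rcases Nat.even_or_odd i with ⟨n, rfl⟩ | ⟨n, rfl⟩
    · left; rw [← two_mul, pow_mul, pow_two, hw, one_pow]
    · right; rw [pow_succ, pow_mul, pow_two, hw, one_pow, one_mul]
  let D : Subgroup G :=
    { carrier := {s | ∃ i k : ℕ, s = a ^ i * b ^ k}
      one_mem' := ⟨0, 0, by simp⟩
      mul_mem' := by
        rintro _ _ ⟨i, k, rfl⟩ ⟨i2, k2, rfl⟩
        refine ⟨i + i2, k + k2, ?_⟩
        rw [((show Commute b a from h.ab.symm).pow_pow k i2).mul_mul_mul_comm, pow_add, pow_add]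
      inv_mem' := by
        rintro _ ⟨i, k, rfl⟩
        refine ⟨i, k, ?_⟩
        rw [mul_inv_rev, ← inv_pow, ← inv_pow, hai, hbi,
          ((show Commute b a from h.ab.symm).pow_pow k i).eq] }
  have hDS : D ≤ (S : Subgroup G) := by
    rintro _ ⟨i, k, rfl⟩; exact mul_mem (pow_mem haS i) (pow_mem hbS k)
  have hne : ∀ {c : G} {M : Mat}, H.Induces c M → M ≠ pmat 0 → c ≠ 1 := fun hc hM e =>
    hM (hc.unique (e ▸ H.induces_J (one_mem _)))
  have htD : t ∉ D := by
    rintro ⟨i, k, he⟩
    have hab : H.Induces (a * b) (mm (dmat 3) (dmat 5)) := h.ia.mul h.ib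
    have key : ∀ {M}, H.Induces t M → M = pmat 1 := fun hM => hM.unique (H.induces_S 1)
    rcases hsq h.a2 i with e | e <;> rcases hsq h.b2 k with e' | e' <;> rw [e, e'] at he
    · exact ht1 (by rw [he, one_mul])
    · exact absurd (key (he ▸ (one_mul b).symm ▸ h.ib)) (by decide +kernel)
    · exact absurd (key (he ▸ (mul_one a).symm ▸ h.ia)) (by decide +kernel)
    · exact absurd (key (he ▸ hab)) (by decide +kernel)
  have hidx : D.relIndex (S : Subgroup G) = 2 := by
    refine (index_eq_two_iff (H := D.subgroupOf (S : Subgroup G))).2 ⟨⟨t, htS⟩, fun s => ?_⟩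
    obtain ⟨i, k, m, hs⟩ := hS s s.2
    have hab : a ^ i * b ^ k ∈ D := ⟨i, k, rfl⟩
    have htt : t⁻¹ = t := inv_eq_of_mul_eq_one_right ht2
    rcases hsq ht2 m with em | em <;> rw [em] at hs
    · rw [mul_one] at hs
      refine Or.inr ⟨show (s : G) ∈ D by rw [hs]; exact hab, fun hc => htD ?_⟩
      have hc' : (s : G) * t ∈ D := hc
      have := mul_mem (inv_mem hab) hc'
      rwa [hs, inv_mul_cancel_left] at this
    · refine Or.inl ⟨show (s : G) * t ∈ D by rw [hs, mul_assoc, ht2, mul_one]; exact hab,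
        fun hc => htD ?_⟩
      have hc' : (s : G) ∈ D := hc
      have := mul_mem (inv_mem hab) hc'
      rwa [hs, inv_mul_cancel_left] at this
  have haC : ∀ c ∈ D, c ≠ 1 → ∃ y, y * a * y⁻¹ = c := by
    rintro _ ⟨i, k, rfl⟩ hc
    have hab2 : a * b * (a * b) = 1 := by
      rw [mul_assoc, ← mul_assoc b, ← h.ab, mul_assoc, h.b2, mul_one, h.a2]
    obtain ⟨y, hy⟩ : ∃ y, y * a * y⁻¹ = a * b := by
      obtain ⟨z, -, hz⟩ := invol_conj (a := H.S 4 * a * H.S 5) (b := a * b)
        (M := mm (dmat 3) (dmat 5))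
        (show mm (mm (pmat 4) (dmat 3)) (pmat 5) = mm (dmat 3) (dmat 5) by decide +kernel ▸
          ((H.induces_S 4).mul h.ia).mul (H.induces_S 5))
        (h.ia.mul h.ib) (by
          calc H.S 4 * a * H.S 5 * (H.S 4 * a * H.S 5) = H.S 4 * a * (H.S 5 * H.S 4) * a * H.S 5 :=
                by group
            _ = H.S 4 * (a * a) * H.S 5 := by
              rw [H.S_mul 5 4, show pm 5 4 = 0 by decide +kernel, H.S_zero]; group
            _ = 1 := by rw [h.a2, mul_one, H.S_mul, show pm 4 5 = 0 by decide +kernel, H.S_zero])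
        hab2
      refine ⟨z * H.S 4, ?_⟩
      rw [← hz, mul_inv_rev, show (H.S 4)⁻¹ = H.S 5 from by rw [H.S_inv]; rfl]
      group
    rcases hsq h.a2 i with e | e <;> rcases hsq h.b2 k with e' | e' <;> rw [e, e'] at hc ⊢
    · exact absurd (one_mul 1) hc
    · refine ⟨t * y, ?_⟩
      have hti : t⁻¹ = t := inv_eq_of_mul_eq_one_right ht2
      rw [one_mul, mul_inv_rev, hti]
      calc t * y * a * (y⁻¹ * t) = t * (y * a * y⁻¹) * t := by group
        _ = t * (t * b * t) * t := by rw [hy, h.tbt]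
        _ = (t * t) * b * (t * t) := by group
        _ = b := by rw [ht2, one_mul, mul_one]
    · exact ⟨1, by simp⟩
    · exact ⟨y, hy⟩
  rcases Cfsg.Agent.S0111.result S D hDS hidx t (orderOf_eq_prime (by rw [pow_two]; exact ht2) ht1)
    htS htD with ⟨G1, hn, hi, ht'⟩ | ⟨g, hg⟩
  · have haG : a ∈ G1 := by
      have e : a = (t * b * t) * b := by rw [h.tbt, mul_assoc, h.b2, mul_one]
      rw [e, show t * b * t * b = (t * b) * (t * b) by group]
      exact mul_self_mem_of_index_two hi _
    obtain ⟨y, hy⟩ := haC b ⟨0, 1, by simp⟩ (hne h.ib (by decide +kernel))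
    exact ⟨G1, hn, hi, ht', haG, hy ▸ hn.conj_mem a haG y⟩
  · exfalso
    obtain ⟨y, hy⟩ := haC _ hg fun e => ht1 (conj_eq_one_iff.1 e)
    refine h.not_conj (g⁻¹ * y) ?_
    calc g⁻¹ * y * a * (g⁻¹ * y)⁻¹ = g⁻¹ * (y * a * y⁻¹) * g := by group
      _ = t := by rw [hy]; group

end Hyp

end CfsgLib.ThreeSymNine
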